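import Cfsg.Agent.Lib.Blocks.Cyclic.NilValues
import Cfsg.Agent.Lib.Blocks.KleinIsometry.Divide
import Mathlib.RingTheory.RootsOfUnity.Complex

/-!
# A chart of a nilpotent block with cyclic defect group

Its characters are indexed by the roots of unity of order dividing that of a generator `v` of the
defect group, the indexing commuting with the automorphisms which fix a maximal pair and the base
character. At each element the values are polynomials in the root whose coefficients, times the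
order of the defect group, are divisible by the order of the centralizer.
-/

set_option autoImplicit false
set_option linter.unusedSectionVars false

namespace CfsgLib.Blocks.Cyclic

open Cfsg CfsgLib.Blocks CfsgLib.Pairs CfsgLib.Star CfsgLib.Char CfsgLib.CharAction
open scoped Classical

variable {G : Type*} [Group G] [Fintype G]

/-- The linear character taking the value `ζ` at the generator. -/
noncomputable def lamHom (v : G) (ζ : rootsOfUnity (orderOf v) ℂ) : Subgroup.zpowers v →* ℂˣ :=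
  MonoidHom.mk' (fun x => (ζ : ℂˣ) ^ ((finEquivZPowers (isOfFinOrder_of_finite v)).symm x : ℕ))
    fun x y => by
      rw [← pow_add]
      refine pow_eq_pow_iff_modEq.2 (Nat.ModEq.of_dvd (orderOf_dvd_of_pow_eq_one ζ.2) ?_)
      rw [← pow_eq_pow_iff_modEq, pow_add, pow_finEquivZPowers_symm_apply,
        pow_finEquivZPowers_symm_apply, pow_finEquivZPowers_symm_apply, Subgroup.coe_mul]

theorem lamHom_pow (v : G) (ζ : rootsOfUnity (orderOf v) ℂ) (n : ℕ) :
    lamHom v ζ ⟨v ^ n, ⟨n, by simp⟩⟩ = (ζ : ℂˣ) ^ n := by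
  show (ζ : ℂˣ) ^ _ = _
  rw [finEquivZPowers_symm_apply]
  exact pow_eq_pow_iff_modEq.2
    (Nat.ModEq.of_dvd (orderOf_dvd_of_pow_eq_one ζ.2) (Nat.mod_modEq n _))

/-- The same as an irreducible character. -/
noncomputable def lamIrr (v : G) (ζ : rootsOfUnity (orderOf v) ℂ) :
    IrrCharacter (Subgroup.zpowers v) :=
  ⟨fun x => (lamHom v ζ x : ℂ), isIrrCharacter_linear (lamHom v ζ)⟩

theorem lamIrr_bijective (v : G) : Function.Bijective (lamIrr v) := by
  have : NeZero (orderOf v) := ⟨(orderOf_pos v).ne'⟩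
  have := Fintype.ofFinite (IrrCharacter (Subgroup.zpowers v))
  have := Fintype.ofFinite (rootsOfUnity (orderOf v) ℂ)
  refine (Fintype.bijective_iff_injective_and_card _).2 ⟨fun ζ ζ' h => ?_, ?_⟩
  · have h1 : ((lamHom v ζ ⟨v ^ 1, ⟨1, by simp⟩⟩ : ℂˣ) : ℂ) = (lamHom v ζ' ⟨v ^ 1, ⟨1, by simp⟩⟩ : ℂˣ) :=
      congrFun (congrArg Subtype.val h) _
    rw [lamHom_pow, lamHom_pow, pow_one, pow_one] at h1
    exact Subtype.ext (Units.ext h1)
  · have hone : ∀ μ : IrrCharacter (Subgroup.zpowers v), (μ : Subgroup.zpowers v → ℂ) 1 = 1 :=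
      Clifford.apply_one_eq_one_of_commute fun a b => mul_comm' a b
    have h := sum_sq_degree (G := Subgroup.zpowers v)
    simp only [hone, one_pow, Finset.sum_const, nsmul_eq_mul, mul_one, Finset.card_univ] at h
    have h' : Fintype.card (IrrCharacter (Subgroup.zpowers v)) = Nat.card (Subgroup.zpowers v) := by
      exact_mod_cast h
    rw [h', Nat.card_zpowers]
    rw [← Nat.card_eq_fintype_card, Complex.card_rootsOfUnity]
where
  mul_comm' {v : G} (a b : Subgroup.zpowers v) : a * b = b * a := by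
    obtain ⟨i, hi⟩ := a.2
    obtain ⟨j, hj⟩ := b.2
    refine Subtype.ext ?_
    simp only [Subgroup.coe_mul, ← hi, ← hj, ← zpow_add, add_comm]

variable {p : ℕ} [Fact p.Prime] {M : Ideal AlgInt} [M.IsPrime]

/-- Block parts at regular elements see only the regular values. -/
theorem blockPart_congr_regular (hM : IsPModular p M) {b : Set (IrrCharacter G)} (hb : IsPBlock M b)
    {θ θ' : G → ℂ} (h : ∀ t, ¬ p ∣ orderOf t → θ t = θ' t) {s : G} (hs : ¬ p ∣ orderOf s) :
    blockPart b θ s = blockPart b θ' s := by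
  rw [blockPart_apply, blockPart_apply]
  congr 1
  refine Finset.sum_congr rfl fun w _ => ?_
  by_cases hw : p ∣ orderOf w
  · obtain ⟨z, hz⟩ := exists_pPart hM.1 w
    rw [sum_block_apply_mul_eq_zero hM hb (isPPart_one_of_isPRegular hs) hz
      fun hc => (IsPPart.dvd_orderOf_iff hM.1 hz).1 hw (isConj_one_right.1 hc), mul_zero, mul_zero]
  · rw [h w hw]

/-- The block part of a combination of block parts. -/
theorem blockPart_sum [Fintype {b : Set (IrrCharacter G) // IsPBlock M b}]
    (w : {b : Set (IrrCharacter G) // IsPBlock M b} → ℂ) (θ : G → ℂ)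
    (b : {b : Set (IrrCharacter G) // IsPBlock M b}) (s : G) :
    blockPart b.1 (fun t => ∑ b', w b' * blockPart b'.1 θ t) s = w b * blockPart b.1 θ s := by
  have := Fintype.ofFinite (IrrCharacter G)
  rw [blockPart_eq, blockPart_eq, mul_finsum_mem]
  refine finsum_mem_congr rfl fun ψ hψ => ?_
  rw [show (fun t => ∑ b', w b' * blockPart b'.1 θ t) = ∑ b', w b' • blockPart b'.1 θ from
      funext fun t => by simp [Finset.sum_apply], classInner_sum_left,
      Finset.sum_eq_single b (fun b' _ hne => ?_) (fun h => absurd (Finset.mem_univ b) h),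
      classInner_smul_left, classInner_blockPart, if_pos hψ, mul_assoc]
  rw [classInner_smul_left, classInner_blockPart, if_neg, mul_zero]
  exact fun h => hne (Subtype.ext (IsPBlock.eq_of_mem b'.2 b.2 h hψ))

theorem isIntegral_classInner_mul (χ : IrrCharacter G) {H : Subgroup G} {u : G}
    (hH : H = Subgroup.centralizer ({u} : Set G)) (ξ : IrrCharacter H) :
    classInner (fun t : H => (χ : G → ℂ) (u * (t : G))) (ξ : H → ℂ) ∈ localRing M := by
  subst hH
  have := Fintype.ofFinite (IrrCharacter (Subgroup.centralizer ({u} : Set G)))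
  obtain ⟨n, w, hw, -, -, htw⟩ := CfsgLib.KleinIso.exists_twisted_decomposition χ u
  rw [show (fun t : Subgroup.centralizer ({u} : Set G) => (χ : G → ℂ) (u * (t : G))) =
    ∑ ψ, ((n ψ : ℂ) * w ψ) • (ψ : Subgroup.centralizer ({u} : Set G) → ℂ) from funext fun t => by
      simp [htw, Finset.sum_apply], classInner_sum_irr]
  exact mul_mem (natCast_mem _ _) (mem_localRing_of_isIntegral (hw ξ))

/-- A part at a block of defect at most `a` is divisible, times `p ^ a`, by the centralizer. -/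
theorem blockPart_div (hM : IsPModular p M) {b : Set (IrrCharacter G)} (hb : IsPBlock M b) {a : ℕ}
    (hd : blockDefect p b ≤ a) {θ : G → ℂ}
    (hθ : ∀ ξ ∈ b, classInner θ (ξ : G → ℂ) ∈ localRing M) {s : G} (hs : ¬ p ∣ orderOf s) :
    ((p ^ a : ℕ) : ℂ) * blockPart b θ s /
      (Nat.card (Subgroup.centralizer ({s} : Set G)) : ℂ) ∈ localRing M := by
  have := Fintype.ofFinite (IrrCharacter G)
  let F : G → ℂ := fun t => ((p ^ a : ℕ) : ℂ) * regCut p (blockPart b θ) t
  have hk : ∀ ξ ∈ b, ∀ ψ : IrrCharacter G, ∃ k : ℤ,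
      ((p ^ a : ℕ) : ℂ) * classInner (regCut p (ξ : G → ℂ)) (ψ : G → ℂ) = k := fun ξ hξ ψ => by
    refine exists_int_pow_mul_inner ξ ψ ?_
    rw [blockDefect_eq_sub] at hd
    have := minDeg_le (p := p) hξ
    omega
  have hF : F = ∑ ξ ∈ (Set.toFinite b).toFinset, classInner θ (ξ : G → ℂ) •
      ((((p ^ a : ℕ) : ℂ)) • regCut p (ξ : G → ℂ)) := by
    funext t
    simp only [F, regCut, blockPart_eq, Finset.sum_apply, Pi.smul_apply, smul_eq_mul]
    rw [finsum_mem_eq_finite_toFinset_sum _ (Set.toFinite b)]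
    split_ifs with ht
    · simp
    · rw [Finset.mul_sum]
      exact Finset.sum_congr rfl fun ξ _ => by ring
  have hFc : IsClassFunction G F := fun g x => by
    rw [hF]
    simp only [Finset.sum_apply, Pi.smul_apply, smul_eq_mul, regCut]
    refine Finset.sum_congr rfl fun ξ _ => ?_
    rw [show orderOf (x * g * x⁻¹) = orderOf g from MulEquiv.orderOf_eq (MulAut.conj x) g,
      IsIrr.isClassFunction ξ.2 g x]
  have hint : ∀ ψ : IrrCharacter G, classInner F (ψ : G → ℂ) ∈ localRing M := fun ψ => by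
    rw [hF, classInner_sum_left]
    refine Subring.sum_mem _ fun ξ hξ => ?_
    obtain ⟨k, hk⟩ := hk ξ ((Set.Finite.mem_toFinset _).1 hξ) ψ
    rw [classInner_smul_left, classInner_smul_left, hk]
    exact mul_mem (hθ ξ ((Set.Finite.mem_toFinset _).1 hξ)) (intCast_mem _ _)
  have hexp : ∀ t, ∑ ψ : IrrCharacter G, classInner F (ψ : G → ℂ) * (ψ : G → ℂ) t = F t := fun t =>
    (classFunction_apply_eq_sum hFc t).symm
  have h := CfsgLib.KleinIso.div_centralizer_of_vanish hM Finset.univ
    (fun ψ => (⟨_, hint ψ⟩ : localRing M))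
    (fun y hy => (hexp y).trans (by simp [F, regCut, hy])) hs
  rw [hexp] at h
  simpa [F, regCut, hs] using h

theorem card_centralizer_eq {u : G} {H : Subgroup G} (hH : H = Subgroup.centralizer ({u} : Set G))
    (hk : ∃ k : ℕ, orderOf u = p ^ k) {s : H} (hs : ¬ p ∣ orderOf s) :
    Nat.card (Subgroup.centralizer ({u * (s : G)} : Set G)) =
      Nat.card (Subgroup.centralizer ({s} : Set H)) := by
  subst hH
  have hcs : Commute u (s : G) := (Subgroup.mem_centralizer_singleton_iff.1 s.2).symm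
  have hpp : IsPPart p (u * (s : G)) u := ⟨s, rfl, hcs, hk, by rwa [Subgroup.orderOf_coe]⟩
  have hpow : ∀ g : G, Commute g (u * (s : G)) → Commute g u := fun g hg => by
    have h1 : IsPPart p (g * (u * (s : G)) * g⁻¹) (g * u * g⁻¹) := by
      obtain ⟨y, hy1, hy2, ⟨k, hk⟩, hy3⟩ := hpp
      refine ⟨g * y * g⁻¹, by rw [← hy1]; group, ?_, ⟨k, ?_⟩, ?_⟩
      · simpa [MulAut.conj_apply] using hy2.map (MulAut.conj g).toMonoidHom
      · rw [← hk]; exact MulEquiv.orderOf_eq (MulAut.conj g) u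
      · rwa [show orderOf (g * y * g⁻¹) = orderOf y from MulEquiv.orderOf_eq (MulAut.conj g) y]
    rw [hg.eq, mul_inv_cancel_right] at h1
    exact mul_inv_eq_iff_eq_mul.1 (pPart_unique (Fact.out : p.Prime) h1 hpp)
  refine Nat.card_congr
    { toFun := fun g => ⟨⟨(g : G), Subgroup.mem_centralizer_singleton_iff.2
          (hpow _ (Subgroup.mem_centralizer_singleton_iff.1 g.2))⟩,
        Subgroup.mem_centralizer_singleton_iff.2 (Subtype.ext ?_)⟩
      invFun := fun g => ⟨((g : Subgroup.centralizer ({u} : Set G)) : G),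
        Subgroup.mem_centralizer_singleton_iff.2
          ((show Commute ((g : Subgroup.centralizer ({u} : Set G)) : G) u from
            Subgroup.mem_centralizer_singleton_iff.1 (g : Subgroup.centralizer ({u} : Set G)).2).mul_right
            (congrArg Subtype.val (Subgroup.mem_centralizer_singleton_iff.1 g.2))).eq⟩
      left_inv := fun g => rfl
      right_inv := fun g => rfl }
  have hgu : Commute (g : G) u := hpow _ (Subgroup.mem_centralizer_singleton_iff.1 g.2)
  have hg : Commute (g : G) (u * (s : G)) := Subgroup.mem_centralizer_singleton_iff.1 g.2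
  show (g : G) * (s : G) = (s : G) * (g : G)
  have := hgu.inv_right.mul_right hg
  rwa [inv_mul_cancel_left] at this

variable (hM : IsPModular p M) {f : Set (IrrCharacter G)} {P : Subgroup G}
  {e : Set (IrrCharacter (Subgroup.centralizer (P : Set G)))} {F : FusionSystem P}
  (hF : IsBlockFusionSystemOn p M f P e F)
include hM hF

/-- The part of a product at a pair below the maximal one. -/
theorem blockPart_star {lam : G → ℂ} (hlam : IsStableChar F lam) (χ : IrrCharacter G) {u : G}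
    (hk : ∃ k : ℕ, orderOf u = p ^ k) {Q : Subgroup G} (hQ : Q = Subgroup.zpowers u)
    {b : Set (IrrCharacter (Subgroup.centralizer (Q : Set G)))} (hb : IsPBlock M b)
    (hle : Relation.ReflTransGen (NormalSubpairRel p M) ⟨Q, b⟩ (⟨P, e⟩ : BrauerPairIdx G))
    {s : Subgroup.centralizer (Q : Set G)} (hs : ¬ p ∣ orderOf s) :
    blockPart b (fun t : Subgroup.centralizer (Q : Set G) =>
        star p M P e lam (χ : G → ℂ) (u * (t : G))) s =
      lam u * blockPart b (fun t : Subgroup.centralizer (Q : Set G) => (χ : G → ℂ) (u * (t : G))) s := by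
  subst hQ
  have := Fintype.ofFinite
    {b : Set (IrrCharacter (Subgroup.centralizer (Subgroup.zpowers u : Set G))) // IsPBlock M b}
  rw [blockPart_congr_regular hM hb (fun t ht => star_eq_sum_blockPart hM hF hlam χ hk ht) hs,
    blockPart_sum _ _ ⟨b, hb⟩ s]
  congr 1
  rw [wt_eq hM hF hlam (Subgroup.mem_zpowers u) (x := 1) (by rw [conjPair_one]; exact hle)]
  simp

omit hF in
/-- **The chart**. -/
theorem exists_chart (hnil : IsNilpotentBlock p M f) {v : G} {a : ℕ} (ha : orderOf v = p ^ a)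
    (hD : IsDefectGroup p M f (Subgroup.zpowers v))
    {e₀ : Set (IrrCharacter (Subgroup.centralizer (Subgroup.zpowers v : Set G)))}
    (he₀ : IsBrauerPairOf p M f (Subgroup.zpowers v) e₀)
    {χ₀ : IrrCharacter G} (hχ₀ : χ₀ ∈ f) (h0 : blockHeight p f (χ₀ : G → ℂ) = 0) :
    ∃ ch : rootsOfUnity (p ^ a) ℂ → IrrCharacter G,
      Function.Injective ch ∧ Set.range ch = f ∧ ch 1 = χ₀ ∧
      (∀ g : G, ∃ φ : Fin (p ^ a) → ℂ, (∀ i, φ i ∈ localRing M ∧
          ((p ^ a : ℕ) : ℂ) * φ i / (Nat.card (Subgroup.centralizer ({g} : Set G)) : ℂ) ∈ localRing M) ∧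
        ∀ ζ, (ch ζ : G → ℂ) g = ∑ i : Fin (p ^ a), ((ζ : ℂˣ) : ℂ) ^ (i : ℕ) * φ i) ∧
      ∀ (φ : G ≃* G) (ψ : Subgroup.centralizer (Subgroup.zpowers v : Set G) ≃*
          Subgroup.centralizer (Subgroup.zpowers v : Set G)) (k : ℕ),
        (∀ t, (ψ t : G) = φ (t : G)) → mapBlock ψ e₀ = e₀ → φ v = v ^ k → mapIrr φ χ₀ = χ₀ →
        ∀ ζ, mapIrr φ (ch ζ) = ch (ζ ^ k) := by
  have hp := (Fact.out : p.Prime)
  have hB := hnil.1
  have hmax := isMaximal_of_isDefectGroup hM he₀ hD
  have hF := isBlockFusionSystemOn_blockFusion hM hmax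
  have hinn := (nilpotent_iff_inner hF hM).1 hnil
  obtain ⟨Φ, hΦ⟩ := exists_equiv_of_nilpotent hM hF hχ₀ hinn hnil h0
  let cast : rootsOfUnity (p ^ a) ℂ → rootsOfUnity (orderOf v) ℂ := fun ζ =>
    ⟨(ζ : ℂˣ), by rw [ha]; exact ζ.2⟩
  let ch : rootsOfUnity (p ^ a) ℂ → IrrCharacter G := fun ζ => (Φ (lamIrr v (cast ζ)) : f)
  have hval : ∀ ζ, (ch ζ : G → ℂ) = star p M (Subgroup.zpowers v) e₀
      (extP _ ((lamIrr v (cast ζ) : IrrCharacter _) : Subgroup.zpowers v → ℂ)) (χ₀ : G → ℂ) :=
    fun ζ => hΦ _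
  have hst : ∀ ζ, IsStableChar _ (extP (Subgroup.zpowers v)
      ((lamIrr v (cast ζ) : IrrCharacter _) : Subgroup.zpowers v → ℂ)) := fun ζ =>
    isStableChar_extP hinn _
  have hext : ∀ ζ (n : ℕ), extP (Subgroup.zpowers v)
      ((lamIrr v (cast ζ) : IrrCharacter _) : Subgroup.zpowers v → ℂ) (v ^ n) =
        ((ζ : ℂˣ) : ℂ) ^ n := fun ζ n => by
    rw [extP, dif_pos (pow_mem (Subgroup.mem_zpowers v) n), ← Units.val_pow_eq_pow_val]
    exact congrArg Units.val (lamHom_pow v (cast ζ) n)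
  -- the local terms at an element
  have hloc : ∀ g : G, ∃ φ : Fin (p ^ a) → ℂ, (∀ i, φ i ∈ localRing M ∧
      ((p ^ a : ℕ) : ℂ) * φ i / (Nat.card (Subgroup.centralizer ({g} : Set G)) : ℂ) ∈ localRing M) ∧
      (∀ ζ, (ch ζ : G → ℂ) g = ∑ i : Fin (p ^ a), ((ζ : ℂˣ) : ℂ) ^ (i : ℕ) * φ i) ∧
      (χ₀ : G → ℂ) g = ∑ i : Fin (p ^ a), φ i := by
    intro g
    obtain ⟨u, s, hk, hs, hc, rfl⟩ := exists_decomp (p := p) g
    have hsC : s ∈ Subgroup.centralizer (Subgroup.zpowers u : Set G) := by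
      refine Subgroup.mem_centralizer_iff.2 fun z hz => ?_
      obtain ⟨n, rfl⟩ := Subgroup.mem_zpowers_iff.1 hz
      exact (hc.zpow_left n).eq
    have hsC' : ¬ p ∣ orderOf (⟨s, hsC⟩ : Subgroup.centralizer (Subgroup.zpowers u : Set G)) := by
      rwa [Subgroup.orderOf_mk]
    have hCu : Subgroup.centralizer (Subgroup.zpowers u : Set G) =
        Subgroup.centralizer ({u} : Set G) := by
      rw [Subgroup.zpowers_eq_closure, Subgroup.centralizer_closure]
    have := Fintype.ofFinite {b : Set (IrrCharacter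
      (Subgroup.centralizer (Subgroup.zpowers u : Set G))) // IsPBlock M b}
    set part : {b : Set (IrrCharacter (Subgroup.centralizer (Subgroup.zpowers u : Set G))) //
        IsPBlock M b} → ℂ := fun b => blockPart b.1
      (fun c : Subgroup.centralizer (Subgroup.zpowers u : Set G) => (χ₀ : G → ℂ) (u * (c : G)))
      ⟨s, hsC⟩ with hpart_def
    have hex : ∀ b : {b : Set (IrrCharacter (Subgroup.centralizer (Subgroup.zpowers u : Set G))) //
        IsPBlock M b}, ∃ i : Fin (p ^ a),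
          (part b ≠ 0 → ∀ ζ, wt p M (Subgroup.zpowers v) e₀ (extP (Subgroup.zpowers v)
            ((lamIrr v (cast ζ) : IrrCharacter _) : Subgroup.zpowers v → ℂ)) u
              ⟨Subgroup.zpowers u, b.1⟩ = ((ζ : ℂˣ) : ℂ) ^ (i : ℕ)) ∧
          (part b ≠ 0 → blockDefect p b.1 ≤ a) := by
      intro b
      by_cases h0' : part b = 0
      · exact ⟨⟨0, pow_pos hp.pos _⟩, fun h => absurd h0' h, fun h => absurd h0' h⟩
      have hpair : IsBrauerPairOf p M f (Subgroup.zpowers u) b.1 := by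
        by_contra hnot
        exact h0' (part_eq_zero_of_not_pairOf hM hk hB hχ₀ b.2 hnot hsC')
      obtain ⟨x, hx⟩ := exists_conj_le hM hF.1 hpair
      have hmem : x * u * x⁻¹ ∈ Subgroup.zpowers v :=
        le_of_subpairLE hx ⟨u, Subgroup.mem_zpowers u, rfl⟩
      set i := (finEquivZPowers (isOfFinOrder_of_finite v)).symm ⟨_, hmem⟩ with hi
      have hvi : v ^ (i : ℕ) = x * u * x⁻¹ := pow_finEquivZPowers_symm_apply _ ⟨_, hmem⟩
      refine ⟨⟨i, ha ▸ i.2⟩, fun _ ζ => ?_, fun _ => ?_⟩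
      · rw [wt_eq hM hF (hst ζ) (Subgroup.mem_zpowers u) hx, ← hvi, hext]
      · obtain ⟨Db, hDb⟩ := exists_isDefectGroup (p := p) b.2
        obtain ⟨E, hE, hDE⟩ :=
          IsInducedBlock.defectGroup_le hM (isInducedBlock_of_pairOf hM hpair) hDb
        have h1 : Nat.card Db ≤ p ^ a := by
          rw [Nat.card_congr (Db.equivMapOfInjective _ (Subgroup.subtype_injective _)).toEquiv,
            ← ha, ← Nat.card_zpowers]
          refine Nat.le_of_dvd Nat.card_pos ((Subgroup.card_dvd_of_le hDE).trans ?_)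
          rw [IsDefectGroup.card_eq hM hB hE, IsDefectGroup.card_eq hM hB hD]
        rw [IsDefectGroup.card_eq hM b.2 hDb] at h1
        exact (Nat.pow_le_pow_iff_right hp.one_lt).1 h1
    choose v' hv hdef using hex
    have hpart : ∀ b, part b ∈ localRing M := by
      intro b
      simp only [part]
      rw [blockPart_eq_sum_blockCoeff]
      · exact sum_mem fun k _ => mul_mem (blockCoeff_mem b.2 k) (apply_mem_localRing χ₀ _)
      · exact isClassFunction_apply_mul' χ₀
    have hdiv : ∀ b, ((p ^ a : ℕ) : ℂ) * part b /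
        (Nat.card (Subgroup.centralizer ({u * s} : Set G)) : ℂ) ∈ localRing M := by
      intro b
      by_cases h0' : part b = 0
      · simp [h0', zero_mem]
      rw [card_centralizer_eq hCu hk (s := ⟨s, hsC⟩) hsC']
      exact blockPart_div hM b.2 (hdef b h0') (fun ξ _ => isIntegral_classInner_mul χ₀ hCu ξ) hsC'
    refine ⟨fun i => ∑ b ∈ Finset.univ.filter (fun b => v' b = i), part b, fun i =>
      ⟨sum_mem fun b _ => hpart b, ?_⟩, fun ζ => ?_, ?_⟩
    · rw [Finset.mul_sum, Finset.sum_div]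
      exact sum_mem fun b _ => hdiv b
    · simp only [Finset.mul_sum]
      rw [hval, show u * s = u * ((⟨s, hsC⟩ :
        Subgroup.centralizer (Subgroup.zpowers u : Set G)) : G) from rfl,
        star_eq_sum_blockPart hM hF (hst ζ) χ₀ hk hsC', ← Finset.sum_fiberwise Finset.univ v']
      refine Finset.sum_congr rfl fun w _ => Finset.sum_congr rfl fun b hb => ?_
      rw [← (Finset.mem_filter.1 hb).2]
      by_cases h0' : part b = 0
      · rw [show blockPart b.1 _ ⟨s, hsC⟩ = part b from rfl, h0', mul_zero, mul_zero]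
      · rw [hv b h0' ζ]
    · rw [Finset.sum_fiberwise]
      exact (sum_blockPart (M := M) (θ := fun c : Subgroup.centralizer (Subgroup.zpowers u : Set G) =>
        (χ₀ : G → ℂ) (u * (c : G))) (isClassFunction_apply_mul' χ₀) ⟨s, hsC⟩).symm
  have hone : ch 1 = χ₀ := irr_ext fun g => by
    obtain ⟨φ, -, hφ, hφ0⟩ := hloc g
    rw [hφ, hφ0]
    simp
  have hcast : Function.Bijective cast :=
    ⟨fun x y h => Subtype.ext (congrArg (fun z : rootsOfUnity (orderOf v) ℂ => (z : ℂˣ)) h),
      fun z => ⟨⟨(z : ℂˣ), ha ▸ z.2⟩, rfl⟩⟩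
  have hbij : Function.Bijective fun ζ => Φ (lamIrr v (cast ζ)) :=
    Φ.bijective.comp ((lamIrr_bijective v).comp hcast)
  have hrange : Set.range ch = f := by
    ext χ
    refine ⟨?_, fun hχ => ?_⟩
    · rintro ⟨ζ, rfl⟩
      exact (Φ (lamIrr v (cast ζ))).2
    · obtain ⟨ζ, hζ⟩ := hbij.2 ⟨χ, hχ⟩
      exact ⟨ζ, congrArg Subtype.val hζ⟩
  refine ⟨ch, fun x y h => hbij.1 (Subtype.ext h), hrange, hone,
    fun g => by obtain ⟨φ, h1, h2, -⟩ := hloc g; exact ⟨φ, h1, h2⟩,
    fun φ ψ k hψ he hv hfix ζ => ?_⟩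
  have hfix' : mapBlock φ f = f := by
    refine IsPBlock.eq_of_mem (isPBlock_mapBlock φ hB) hB ?_ hχ₀
    exact ⟨χ₀, hχ₀, hfix⟩
  obtain ⟨ζ', hζ'⟩ : mapIrr φ (ch ζ) ∈ Set.range ch := by
    rw [hrange, ← hfix']
    exact ⟨ch ζ, (Φ _).2, rfl⟩
  have hzk : Subgroup.zpowers v = Subgroup.zpowers (v ^ k) := by
    refine (Subgroup.eq_of_le_of_card_ge (Subgroup.zpowers_le.2 (pow_mem (Subgroup.mem_zpowers v) k))
      ?_).symm
    rw [Nat.card_zpowers, Nat.card_zpowers, ← hv, MulEquiv.orderOf_eq]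
  have hkp : ∃ n : ℕ, orderOf (v ^ k) = p ^ n := ⟨a, by rw [← hv, MulEquiv.orderOf_eq, ha]⟩
  set P1 := fun (χ : IrrCharacter G) (u : G)
    (s : Subgroup.centralizer (Subgroup.zpowers v : Set G)) =>
    blockPart e₀ (fun t : Subgroup.centralizer (Subgroup.zpowers v : Set G) =>
      (χ : G → ℂ) (u * (t : G))) s with hP1
  have hstar : ∀ (ξ : rootsOfUnity (p ^ a) ℂ) (n : ℕ), (∃ j : ℕ, orderOf (v ^ n) = p ^ j) →
      Subgroup.zpowers v = Subgroup.zpowers (v ^ n) → ∀ s, ¬ p ∣ orderOf s →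
      P1 (ch ξ) (v ^ n) s = ((ξ : ℂˣ) : ℂ) ^ n * P1 χ₀ (v ^ n) s := fun ξ n hn hz s hs => by
    simp only [P1, hval]
    rw [blockPart_star hM hF (hst ξ) χ₀ hn hz he₀.1.2 Relation.ReflTransGen.refl hs, hext]
  have hmove : ∀ (χ : IrrCharacter G) s, P1 (mapIrr φ χ) v s = P1 χ (v ^ k) (ψ s) := fun χ s => by
    have h := blockPart_mapBlock ψ e₀
      (fun t : Subgroup.centralizer (Subgroup.zpowers v : Set G) => (χ : G → ℂ) (v ^ k * (t : G))) s
    rw [he] at h
    refine Eq.trans ?_ h
    simp only [P1]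
    congr 1
    funext t
    rw [mapIrr_apply, map_mul, hv, hψ]
  obtain ⟨s, hs, hne⟩ := exists_part_ne_zero_height_zero hM
    (u := v) ⟨a, ha⟩ (H := Subgroup.centralizer (Subgroup.zpowers v : Set G))
    (by rw [Subgroup.zpowers_eq_closure, Subgroup.centralizer_closure])
    (isInducedBlock_of_pairOf hM he₀) hχ₀ h0
  have hs' : ¬ p ∣ orderOf (ψ s) := by rwa [MulEquiv.orderOf_eq]
  have e1 : P1 (ch ζ') (v ^ 1) s = ((ζ : ℂˣ) : ℂ) ^ k * P1 χ₀ (v ^ 1) s := by
    rw [pow_one, hζ', hmove, hstar ζ k hkp hzk _ hs', ← hmove χ₀ s, hfix]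
  rw [hstar ζ' 1 ⟨a, by rw [pow_one, ha]⟩ (by rw [pow_one]) s hs] at e1
  rw [← hζ']
  congr 1
  refine Subtype.ext (Units.ext ?_)
  simpa using mul_right_cancel₀ (by simpa [P1] using hne) e1
where
  isClassFunction_apply_mul' (χ : IrrCharacter G) {u : G} :
      IsClassFunction (Subgroup.centralizer (Subgroup.zpowers u : Set G))
        (fun c : Subgroup.centralizer (Subgroup.zpowers u : Set G) => (χ : G → ℂ) (u * (c : G))) :=
    fun c d => by
      have hcomm' : Commute u (d : G) :=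
        Subgroup.mem_centralizer_iff.1 d.2 u (Subgroup.mem_zpowers u)
      show (χ : G → ℂ) (u * ((d * c * d⁻¹ : Subgroup.centralizer (Subgroup.zpowers u : Set G)) : G)) =
        (χ : G → ℂ) (u * (c : G))
      rw [show u * ((d * c * d⁻¹ : Subgroup.centralizer (Subgroup.zpowers u : Set G)) : G) =
          (d : G) * (u * c) * (d : G)⁻¹ by
        simp only [Subgroup.coe_mul, Subgroup.coe_inv, ← mul_assoc, hcomm'.eq]]
      exact Char.IsIrr.isClassFunction χ.2 _ _

end CfsgLib.Blocks.Cyclic
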