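import Cfsg.Agent.Lib.Blocks.PrimeSylow.Exceptional
import Cfsg.Agent.Lib.CharAction.RegBlock
import Cfsg.Prelude.Def_BlockRank

/-!
# Exceptional characters from the local differences

Integral combinations with Gram matrix `1 + e J` vanishing on the regular elements and spanning the
singular parts of the block determine the exceptional characters, the congruences of the degrees
and the heights.
-/

set_option autoImplicit false
set_option linter.unusedSectionVars false

namespace CfsgLib.Blocks.Cyclic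

open Cfsg CfsgLib.Char CfsgLib.CharAction

variable {G : Type*} [Group G] [Fintype G] [Fintype (IrrCharacter G)]

/-- The combination with coefficients `c`. -/
noncomputable def gam (c : IrrCharacter G → ℤ) (g : G) : ℂ :=
  ∑ ξ : IrrCharacter G, (c ξ : ℂ) * (ξ : G → ℂ) g

theorem classInner_gam (c : IrrCharacter G → ℤ) (ξ : IrrCharacter G) :
    classInner (gam c) (ξ : G → ℂ) = c ξ := by
  rw [show gam c = ∑ ψ, (c ψ : ℂ) • (ψ : G → ℂ) from funext fun g => by
    simp [gam, Finset.sum_apply], classInner_sum_irr]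

open scoped Classical in
/-- The differences of a block with cyclic local data `(p ^ a, e)`. -/
structure Core (p : ℕ) (B : Set (IrrCharacter G)) (a e t : ℕ)
    (c : Fin t → IrrCharacter G → ℤ) : Prop where
  eq_pow : e * t + 1 = p ^ a
  e_pos : 0 < e
  a_pos : 0 < a
  defect : blockDefect p B = a
  support : ∀ j χ, χ ∉ B → c j χ = 0
  gram : ∀ i j, ∑ χ, c i χ * c j χ = (if i = j then 1 else 0) + (e : ℤ)
  regular : ∀ j g, ¬ p ∣ orderOf g → gam (c j) g = 0
  singular : ∀ χ ∈ B, ∀ g, p ∣ orderOf g → (χ : G → ℂ) g =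
    ∑ j, ((c j χ : ℂ) - (e : ℂ) / (p : ℂ) ^ a * ∑ i, (c i χ : ℂ)) * gam (c j) g

namespace Core

variable {p : ℕ} [Fact p.Prime] {B : Set (IrrCharacter G)} {a e t : ℕ}
  {c : Fin t → IrrCharacter G → ℤ} (K : Core p B a e t c)
include K

theorem t_pos : 0 < t := by
  by_contra h
  have h1 := K.eq_pow
  rw [show t = 0 by omega, mul_zero, zero_add] at h1
  exact absurd h1.symm (Nat.one_lt_pow K.a_pos.ne' (Fact.out : p.Prime).one_lt).ne'

theorem cast_eq : (p : ℂ) ^ a = (e : ℂ) * t + 1 := by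
  rw [← Nat.cast_pow, ← K.eq_pow]; push_cast; ring

theorem not_dvd : ¬ p ∣ e ∧ ¬ p ∣ t := by
  have h : p ∣ e * t + 1 := K.eq_pow ▸ dvd_pow_self p K.a_pos.ne'
  constructor <;> intro hd
  · exact (Fact.out : p.Prime).not_dvd_one ((Nat.dvd_add_right (dvd_mul_of_dvd_left hd t)).1 h)
  · exact (Fact.out : p.Prime).not_dvd_one ((Nat.dvd_add_right (dvd_mul_of_dvd_right hd e)).1 h)

/-- The singular part is in the span of the differences. -/
theorem sing_eq {χ : IrrCharacter G} (hχ : χ ∈ B) (g : G) :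
    (χ : G → ℂ) g - regCut p (χ : G → ℂ) g =
      ∑ j, ((c j χ : ℂ) - (e : ℂ) / (p : ℂ) ^ a * ∑ i, (c i χ : ℂ)) * gam (c j) g := by
  unfold regCut
  split_ifs with hg
  · rw [sub_zero, K.singular χ hχ g hg]
  · rw [sub_self, Finset.sum_eq_zero fun j _ => by rw [K.regular j g hg, mul_zero]]

theorem one_le_factorization :
    a + minDeg p B = (Nat.card G).factorization p := by
  have h1 := K.defect
  rw [blockDefect_eq_sub] at h1
  have := K.a_pos
  omega

variable {M : Ideal AlgInt} [M.IsPrime] (hM : IsPModular p M) (hB : IsPBlock M B)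
include hM hB

theorem row_ne {χ : IrrCharacter G} (hχ : χ ∈ B) : ∃ j, c j χ ≠ 0 := by
  classical
  by_contra h
  push Not at h
  have hzero : ∀ g, p ∣ orderOf g → (χ : G → ℂ) g = 0 := fun g hg => by
    rw [K.singular χ hχ g hg]
    simp [h]
  obtain ⟨m, hm⟩ := pow_dvd_apply_one_of_vanish (p := p) (IsGen.of_irr χ.2) hzero
  set n := (Nat.card G).factorization p with hn
  rw [apply_one_eq_charDegree] at hm
  have hdeg : degVal p (χ : G → ℂ) = n := by
    refine le_antisymm (degVal_le χ) ?_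
    have hd : p ^ n ∣ charDegree (χ : G → ℂ) := by
      have h1 : ((p ^ n : ℕ) : ℤ) ∣ (charDegree (χ : G → ℂ) : ℤ) :=
        ⟨m, by push_cast; exact_mod_cast hm⟩
      exact Int.natCast_dvd_natCast.1 h1
    exact ((Fact.out : p.Prime).pow_dvd_iff_le_factorization (Blocks.charDegree_pos χ).ne').1 hd
  have hreg : regCut p (χ : G → ℂ) = (χ : G → ℂ) := funext fun g => by
    unfold regCut
    split_ifs with hg
    · exact (hzero g hg).symm
    · rfl
  have hnum : regNum p (χ : G → ℂ) (χ : G → ℂ) = (p : ℤ) ^ n := by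
    have h1 := regNum_eq (p := p) χ χ
    rw [hreg, classInner_irr_self, mul_one] at h1
    exact_mod_cast h1.symm
  have h0 : blockHeight p B (χ : G → ℂ) = 0 := by
    refine (not_pow_succ_dvd_regNum_iff hM hB hχ hχ).1 ?_
    rw [hdeg, hnum]
    intro hd
    rw [← Nat.cast_pow, ← Nat.cast_pow, Int.natCast_dvd_natCast] at hd
    exact absurd (Nat.le_of_dvd (pow_pos (Fact.out : p.Prime).pos _) hd)
      (not_le.2 (Nat.pow_lt_pow_right (Fact.out : p.Prime).one_lt (Nat.lt_succ_self _)))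
  rw [blockHeight_eq_sub, hdeg] at h0
  have := K.one_le_factorization
  have := K.a_pos
  omega

omit hM hB [M.IsPrime] in
theorem linearIndependent : LinearIndependent ℂ fun j => gam (c j) := by
  classical
  rw [Fintype.linearIndependent_iff]
  intro w hw
  have h1 : ∀ i, w i + (e : ℂ) * ∑ j, w j = 0 := fun i => by
    have hξ : ∀ ξ : IrrCharacter G, ∑ j, w j * (c j ξ : ℂ) = 0 := fun ξ => by
      have := congrArg (fun f => classInner f (ξ : G → ℂ)) hw
      simpa [classInner_sum_left, classInner_smul_left, classInner_gam] using this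
    calc w i + (e : ℂ) * ∑ j, w j = ∑ j, w j * ((∑ ξ, c i ξ * c j ξ : ℤ) : ℂ) := by
          simp only [K.gram]
          push_cast
          simp only [mul_add, Finset.sum_add_distrib, mul_ite, mul_one, mul_zero, Finset.sum_ite_eq,
            Finset.mem_univ, if_true, Finset.mul_sum]
          exact congrArg _ (Finset.sum_congr rfl fun j _ => mul_comm _ _)
      _ = ∑ ξ, (c i ξ : ℂ) * ∑ j, w j * (c j ξ : ℂ) := by
          push_cast
          simp only [Finset.mul_sum]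
          rw [Finset.sum_comm]
          exact Finset.sum_congr rfl fun ξ _ => Finset.sum_congr rfl fun j _ => by ring
      _ = 0 := by simp [hξ]
  have h2 : (1 + (e : ℂ) * t) * ∑ j, w j = 0 := by
    have := Finset.sum_congr rfl fun i (_ : i ∈ (Finset.univ : Finset (Fin t))) => h1 i
    simp only [Finset.sum_add_distrib, Finset.sum_const, Finset.card_univ, Fintype.card_fin,
      nsmul_eq_mul, mul_zero] at this
    linear_combination this
  have h3 : (∑ j, w j) = 0 := (mul_eq_zero.1 h2).resolve_left (by exact_mod_cast (by omega : 1 + e * t ≠ 0))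
  intro i
  simpa [h3] using h1 i

omit hM hB [M.IsPrime] in
/-- The block has at least `l + t` characters. -/
theorem rank_add_le : blockRank p B + t ≤ Nat.card B := by
  classical
  set W := Submodule.span ℂ (Set.range fun χ : B => ((χ : IrrCharacter G) : G → ℂ)) with hW
  have hk : Module.finrank ℂ W = Nat.card B := by
    rw [Nat.card_eq_fintype_card, hW]
    exact finrank_span_eq_card (b := fun χ : B => ((χ : IrrCharacter G) : G → ℂ))
      (irr_linearIndependent.comp _ Subtype.val_injective)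
  let L : (G → ℂ) →ₗ[ℂ] (G → ℂ) :=
    { toFun := fun f => pRegularPart p f
      map_add' := fun f f' => funext fun g => by
        by_cases hg : IsPRegular p g <;> simp [pRegularPart, hg]
      map_smul' := fun r f => funext fun g => by
        by_cases hg : IsPRegular p g <;> simp [pRegularPart, hg] }
  have hl : Module.finrank ℂ (LinearMap.range (L.domRestrict W)) = blockRank p B := by
    rw [LinearMap.range_domRestrict, hW, Submodule.map_span, ← Set.range_comp, blockRank,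
      show Set.range (⇑L ∘ fun χ : B => ((χ : IrrCharacter G) : G → ℂ)) =
        (fun χ : IrrCharacter G => pRegularPart p (χ : G → ℂ)) '' B by ext f; simp [L]]
  have hmem : ∀ j, gam (c j) ∈ W := fun j => by
    rw [show gam (c j) = ∑ ψ, (c j ψ : ℂ) • (ψ : G → ℂ) from funext fun g => by
      simp [gam, Finset.sum_apply]]
    refine sum_mem fun ψ _ => ?_
    by_cases hψ : ψ ∈ B
    · exact Submodule.smul_mem _ _ (Submodule.subset_span ⟨⟨ψ, hψ⟩, rfl⟩)
    · rw [K.support j ψ hψ, Int.cast_zero, zero_smul]; exact zero_mem _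
  have hker : ∀ j, (⟨gam (c j), hmem j⟩ : W) ∈ LinearMap.ker (L.domRestrict W) := fun j => by
    rw [LinearMap.mem_ker, LinearMap.domRestrict_apply]
    funext g
    show pRegularPart p (gam (c j)) g = 0
    by_cases hg : p ∣ orderOf g
    · simp [pRegularPart, IsPRegular, hg]
    · simp [pRegularPart, IsPRegular, hg, K.regular j g hg]
  have hli : LinearIndependent ℂ fun j => (⟨⟨gam (c j), hmem j⟩, hker j⟩ :
      LinearMap.ker (L.domRestrict W)) :=
    LinearIndependent.of_comp (W.subtype ∘ₗ (LinearMap.ker (L.domRestrict W)).subtype)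
      K.linearIndependent
  have ht := hli.fintype_card_le_finrank
  rw [Fintype.card_fin] at ht
  have := LinearMap.finrank_range_add_finrank_ker (L.domRestrict W)
  omega

variable (hl : e ≤ blockRank p B)
include hl

open scoped Classical in
/-- The exceptional and non-exceptional characters. -/
theorem exists_structure :
    ∃ (θ : Fin t → IrrCharacter G) (δ : IrrCharacter G → ℤ) (δ₀ : ℤ),
      Function.Injective θ ∧ (∀ j, θ j ∈ B) ∧ (δ₀ = 1 ∨ δ₀ = -1) ∧
      (∀ χ, δ χ = 1 ∨ δ χ = -1) ∧ Nat.card B = e + t ∧ blockRank p B = e ∧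
      (∀ i j, c i (θ j) = if i = j then δ₀ else 0) ∧
      ∀ χ ∈ B, (∀ j, θ j ≠ χ) → ∀ i, c i χ = δ χ := by
  have := K.t_pos
  have : Nonempty (Fin t) := ⟨⟨0, this⟩⟩
  have hle := K.rank_add_le
  have hsum : ∀ F : IrrCharacter G → ℤ, (∀ χ, χ ∉ B → F χ = 0) → ∑ χ, F χ = ∑ χ : B, F χ.1 :=
    fun F hF => by
      rw [← Finset.sum_subset (Finset.subset_univ (Finset.univ.filter (· ∈ B)))
        fun χ _ hχ => hF χ fun h => hχ (Finset.mem_filter.2 ⟨Finset.mem_univ _, h⟩)]
      exact Finset.sum_subtype _ (by simp) _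
  obtain ⟨θ, ε, hθ, hε, hcard, hθc, hrest⟩ := PrimeSylow.exists_exceptional (ι := B) K.e_pos
    (fun j χ => c j χ.1) (fun i j => (hsum (fun χ => c i χ * c j χ)
      fun χ hχ => by simp [K.support i χ hχ]).symm.trans (K.gram i j))
    (d := fun χ => (charDegree ((χ : IrrCharacter G) : G → ℂ) : ℤ))
    (fun χ => by exact_mod_cast Blocks.charDegree_pos χ.1)
    (fun i => by
      refine (hsum (fun χ => c i χ * (charDegree (χ : G → ℂ) : ℤ))
        fun χ hχ => by simp [K.support i χ hχ]).symm.trans ?_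
      have h := K.regular i 1 (by simpa using (Fact.out : p.Prime).ne_one)
      simp only [gam, apply_one_eq_charDegree] at h
      exact_mod_cast h)
    (fun χ => K.row_ne hM hB χ.2)
    (by rw [Fintype.card_fin, ← Nat.card_eq_fintype_card]; omega)
  rw [Fintype.card_fin, ← Nat.card_eq_fintype_card] at hcard
  choose δ hδ1 hδ using hrest
  refine ⟨fun j => (θ j).1, fun χ => if h : χ ∈ B ∧ ∀ j, (θ j).1 ≠ χ then
      δ ⟨χ, h.1⟩ (fun j e' => h.2 j (congrArg Subtype.val e')) else 1, ε,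
    fun i j h => hθ (Subtype.ext h), fun j => (θ j).2, hε, fun χ => ?_, hcard, by omega, hθc,
    fun χ hχ hne i => ?_⟩
  · beta_reduce
    split_ifs with h
    · exact hδ1 _ _
    · exact Or.inl rfl
  · beta_reduce at hne ⊢
    rw [dif_pos ⟨hχ, hne⟩]
    exact hδ ⟨χ, hχ⟩ _ i

omit hl in
open scoped Classical in
/-- Every character of the block has height zero, provided the coefficient sums are units. -/
theorem height_zero (hS : ∀ χ ∈ B, ¬ (p : ℤ) ∣ ∑ j, c j χ) :
    ∀ χ ∈ B, blockHeight p B (χ : G → ℂ) = 0 := by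
  intro χ hχ
  have hp := (Fact.out : p.Prime)
  obtain ⟨ξ, hξ, hmin⟩ := exists_minDeg p (IsPBlock.nonempty hB)
  set n := (Nat.card G).factorization p
  have hn : n = a + minDeg p B := K.one_le_factorization.symm
  set S : IrrCharacter G → ℤ := fun ψ => ∑ j, c j ψ with hSdef
  set d : ℤ := if χ = ξ then 1 else 0
  set k : ℤ := (p : ℤ) ^ a * (d - ∑ j, c j χ * c j ξ) + (e : ℤ) * S χ * S ξ
  have hinner : ((p ^ n : ℕ) : ℂ) * classInner (regCut p (χ : G → ℂ)) (ξ : G → ℂ) =
      (((p : ℤ) ^ minDeg p B * k : ℤ) : ℂ) := by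
    have hfun : regCut p (χ : G → ℂ) = fun g => (χ : G → ℂ) g -
        ∑ j, ((c j χ : ℂ) - (e : ℂ) / (p : ℂ) ^ a * ∑ i, (c i χ : ℂ)) * gam (c j) g :=
      funext fun g => by rw [← K.sing_eq hχ g]; ring
    rw [hfun, show (fun g => (χ : G → ℂ) g -
        ∑ j, ((c j χ : ℂ) - (e : ℂ) / (p : ℂ) ^ a * ∑ i, (c i χ : ℂ)) * gam (c j) g) =
        (χ : G → ℂ) - ∑ j, ((c j χ : ℂ) - (e : ℂ) / (p : ℂ) ^ a * ∑ i, (c i χ : ℂ)) • gam (c j) from
      funext fun g => by simp [Finset.sum_apply], classInner_sub_left, classInner_irr, classInner_sum_left]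
    simp only [classInner_smul_left, classInner_gam, sub_mul, Finset.sum_sub_distrib, mul_assoc,
      ← Finset.mul_sum]
    have hd : (if χ = ξ then (1 : ℂ) else 0) = (d : ℂ) := by simp [d]
    have hpa : (p : ℂ) ^ a ≠ 0 := pow_ne_zero _ (Nat.cast_ne_zero.2 hp.ne_zero)
    rw [hd, hn]
    simp only [k, hSdef]
    push_cast
    field_simp
    ring
  have hnum : regNum p (χ : G → ℂ) (ξ : G → ℂ) = (p : ℤ) ^ minDeg p B * k := by
    rw [regNum_eq] at hinner
    exact_mod_cast hinner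
  refine (not_pow_succ_dvd_regNum_iff hM hB hχ hξ).1 ?_
  rw [hnum, hmin, pow_succ, mul_dvd_mul_iff_left (pow_ne_zero _ (Int.natCast_ne_zero.2 hp.ne_zero))]
  intro hk
  have h1 : (p : ℤ) ∣ (e : ℤ) * S χ * S ξ :=
    (dvd_add_right (dvd_mul_of_dvd_left (dvd_pow_self _ K.a_pos.ne') _)).1 hk
  have hpp := Nat.prime_iff_prime_int.1 hp
  rcases hpp.dvd_or_dvd h1 with h2 | h2
  · rcases hpp.dvd_or_dvd h2 with h3 | h3
    · exact K.not_dvd.1 (Int.natCast_dvd_natCast.1 h3)
    · exact hS χ hχ h3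
  · exact hS ξ hξ h2

omit hl hM hB [M.IsPrime] in
/-- The degrees are congruent to a multiple of the coefficient sums. -/
theorem degree_modEq (P : Subgroup G) (hP : IsPGroup p P) (hcard : Nat.card P = p ^ a) :
    ∃ N : ℤ, ∀ χ ∈ B, (charDegree (χ : G → ℂ) : ℤ) ≡ N * ∑ j, c j χ [ZMOD (p : ℤ) ^ a] := by
  classical
  have hp := (Fact.out : p.Prime)
  have : Fintype P := Fintype.ofFinite P
  have hres : ∀ ξ : IrrCharacter G, ∃ m : ℕ,
      ∑ v : P, (ξ : G → ℂ) v = ((p ^ a : ℕ) : ℂ) * m := fun ξ => by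
    obtain ⟨m, hm⟩ := IsChar.classInner_eq_natCast (IsChar.restrict P (IsIrr.isCharacter ξ.2))
      (isCharacter_one (G := P))
    refine ⟨m, ?_⟩
    simp only [classInner, map_one, mul_one, hcard] at hm
    rw [← hm, ← mul_assoc, mul_inv_cancel₀ (Nat.cast_ne_zero.2 (pow_ne_zero _ hp.ne_zero)), one_mul]
  choose m hm using hres
  set I : Fin t → ℤ := fun j => ∑ ξ, c j ξ * (m ξ : ℤ) with hI
  refine ⟨(e : ℤ) * ∑ j, I j, fun χ hχ => ?_⟩
  have hgam : ∀ j, ∑ v : P, gam (c j) (v : G) = ((p ^ a : ℕ) : ℂ) * (I j : ℂ) := fun j => by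
    simp only [gam, hI]
    rw [Finset.sum_comm]
    push_cast
    rw [Finset.mul_sum]
    refine Finset.sum_congr rfl fun ξ _ => ?_
    rw [← Finset.mul_sum, hm]
    push_cast
    ring
  have hsum : ∑ v : P, ((χ : G → ℂ) v - regCut p (χ : G → ℂ) (v : G)) =
      ∑ j, ((c j χ : ℂ) - (e : ℂ) / (p : ℂ) ^ a * ∑ i, (c i χ : ℂ)) *
        (((p ^ a : ℕ) : ℂ) * (I j : ℂ)) := by
    refine (Finset.sum_congr rfl fun (v : P) _ => K.sing_eq hχ (v : G)).trans ?_
    rw [Finset.sum_comm]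
    exact Finset.sum_congr rfl fun j _ => by rw [← Finset.mul_sum, hgam]
  rw [Finset.sum_sub_distrib, hm, Finset.sum_eq_single (1 : P) (f := fun v : P =>
    regCut p (χ : G → ℂ) (v : G)) (fun v _ hv => by
      unfold regCut
      rw [if_pos]
      obtain ⟨i, hi⟩ := hP.exists_orderOf_eq_pow v
      rw [Subgroup.orderOf_coe, hi]
      refine dvd_pow_self p fun h0 => hv ?_
      rw [h0, pow_zero, orderOf_eq_one_iff] at hi
      exact hi) (by simp)] at hsum
  rw [regCut, if_neg (by simpa using hp.ne_one), Subgroup.coe_one, apply_one_eq_charDegree] at hsum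
  have hpa : (p : ℂ) ^ a ≠ 0 := pow_ne_zero _ (Nat.cast_ne_zero.2 hp.ne_zero)
  simp only [sub_mul, Finset.sum_sub_distrib] at hsum
  rw [Int.modEq_iff_dvd]
  refine ⟨(∑ j, c j χ * I j) - (m χ : ℤ), ?_⟩
  apply Int.cast_injective (α := ℂ)
  push_cast at hsum ⊢
  have hsc : ∑ j, (e : ℂ) / (p : ℂ) ^ a * (∑ i, (c i χ : ℂ)) * ((p : ℂ) ^ a * (I j : ℂ)) =
      (e : ℂ) * (∑ j, (I j : ℂ)) * ∑ i, (c i χ : ℂ) := by
    rw [← Finset.mul_sum, ← Finset.mul_sum]
    field_simp
  have hs1 : ∑ j, (c j χ : ℂ) * ((p : ℂ) ^ a * (I j : ℂ)) =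
      (p : ℂ) ^ a * ∑ j, (c j χ : ℂ) * (I j : ℂ) := by
    rw [Finset.mul_sum]; exact Finset.sum_congr rfl fun j _ => by ring
  rw [hsc, hs1] at hsum
  linear_combination hsum

/-- **The structure of a block with cyclic defect group**, from its differences. -/
theorem exists_main (P : Subgroup G) (hP : IsPGroup p P) (hcard : Nat.card P = p ^ a) :
    (∀ χ ∈ B, blockHeight p B (χ : G → ℂ) = 0) ∧ ∃ X Y : Set (IrrCharacter G),
      B = X ∪ Y ∧ Disjoint X Y ∧ Nat.card X = e ∧ Nat.card Y = (p ^ a - 1) / e ∧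
      (∀ ψ ∈ Y, ∀ ψ' ∈ Y, ∀ g : G, ¬ p ∣ orderOf g → (ψ : G → ℂ) g = (ψ' : G → ℂ) g) ∧
      ∃ (δ : IrrCharacter G → ℤ) (δ₀ : ℤ), (∀ χ ∈ X, δ χ = 1 ∨ δ χ = -1) ∧ (δ₀ = 1 ∨ δ₀ = -1) ∧
        (∀ ψ ∈ Y, ∀ g : G, ¬ p ∣ orderOf g →
          (δ₀ : ℂ) * (ψ : G → ℂ) g + ∑ᶠ χ ∈ X, (δ χ : ℂ) * (χ : G → ℂ) g = 0) ∧
        (∀ χ ∈ X, ∀ χ' ∈ X, δ χ * (charDegree (χ : G → ℂ) : ℤ) ≡
          δ χ' * (charDegree (χ' : G → ℂ) : ℤ) [ZMOD (p : ℤ) ^ a]) ∧
        (∀ ψ ∈ Y, ∀ χ ∈ X, (charDegree (ψ : G → ℂ) : ℤ) ≡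
          -((e : ℤ) * δ₀ * δ χ * (charDegree (χ : G → ℂ) : ℤ)) [ZMOD (p : ℤ) ^ a]) := by
  classical
  obtain ⟨θ, δ, δ₀, hθ, hθB, hδ₀, hδ, hcardB, -, hcθ, hcX⟩ := K.exists_structure hM hB hl
  set Y := Set.range θ with hY
  set X := B \ Y with hX
  have hXmem : ∀ χ ∈ X, ∀ j, c j χ = δ χ := fun χ hχ =>
    hcX χ hχ.1 fun j e' => hχ.2 ⟨j, e'⟩
  have hSX : ∀ χ ∈ X, ∑ j, c j χ = (t : ℤ) * δ χ := fun χ hχ => by
    simp [hXmem χ hχ]
  have hSY : ∀ i, ∑ j, c j (θ i) = δ₀ := fun i => by simp [hcθ]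
  have hsub : Y ⊆ B := fun _ ⟨j, hj⟩ => hj ▸ hθB j
  have hYcard : Nat.card Y = t := by
    rw [hY, Nat.card_range_of_injective hθ, Nat.card_fin]
  have hXcard : Nat.card X = e := by
    rw [Nat.card_coe_set_eq, hX, Set.ncard_sdiff hsub, ← Nat.card_coe_set_eq, ← Nat.card_coe_set_eq,
      hcardB, hYcard]
    omega
  have hrel : ∀ (i : Fin t) (g : G), ¬ p ∣ orderOf g →
      (δ₀ : ℂ) * (θ i : G → ℂ) g + ∑ᶠ χ ∈ X, (δ χ : ℂ) * (χ : G → ℂ) g = 0 := by
    intro i g hg
    have h := K.regular i g hg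
    rw [gam, ← Finset.sum_subset (Finset.subset_univ (insert (θ i) (Finset.univ.filter (· ∈ X))))
      fun χ _ hχ => ?_, Finset.sum_insert (by simp [hX, hY]), hcθ, if_pos rfl] at h
    · rw [finsum_mem_eq_finite_toFinset_sum _ (Set.toFinite X)]
      refine Eq.trans (congrArg _ (Finset.sum_congr (by ext; simp) fun χ hχ => ?_)) h
      rw [hXmem χ (Finset.mem_filter.1 hχ).2]
    · simp only [Finset.mem_insert, Finset.mem_filter, Finset.mem_univ, true_and, not_or] at hχ
      by_cases hχB : χ ∈ B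
      · obtain ⟨j, rfl⟩ : χ ∈ Y := by
          by_contra hY'
          exact hχ.2 ⟨hχB, hY'⟩
        rw [hcθ, if_neg fun (e' : i = j) => hχ.1 (congrArg θ e').symm, Int.cast_zero, zero_mul]
      · rw [K.support i χ hχB, Int.cast_zero, zero_mul]
  obtain ⟨N, hN⟩ := K.degree_modEq P hP hcard
  have hsq : ∀ χ, δ χ * δ χ = 1 := fun χ => by rcases hδ χ with h | h <;> rw [h] <;> norm_num
  have hXdeg : ∀ χ ∈ X, δ χ * (charDegree (χ : G → ℂ) : ℤ) ≡ N * t [ZMOD (p : ℤ) ^ a] := fun χ hχ => by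
    refine ((hN χ hχ.1).mul_left (δ χ)).trans ?_
    rw [hSX χ hχ, show δ χ * (N * ((t : ℤ) * δ χ)) = N * t * (δ χ * δ χ) by ring, hsq, mul_one]
  refine ⟨K.height_zero hM hB fun χ hχ => ?_, X, Y, (Set.sdiff_union_of_subset hsub).symm,
    Set.disjoint_sdiff_left, hXcard, ?_, ?_, δ, δ₀, fun χ _ => hδ χ, hδ₀, ?_,
    fun χ hχ χ' hχ' => (hXdeg χ hχ).trans (hXdeg χ' hχ').symm, ?_⟩
  · by_cases hχY : χ ∈ Y
    · obtain ⟨i, rfl⟩ := hχY
      rw [hSY]
      intro h
      rcases hδ₀ with h' | h' <;> rw [h'] at h <;>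
        exact (Fact.out : p.Prime).not_dvd_one (by simpa using Int.natCast_dvd.1 h)
    · rw [hSX χ ⟨hχ, hχY⟩]
      intro h
      rcases (Nat.prime_iff_prime_int.1 (Fact.out : p.Prime)).dvd_or_dvd h with h' | h'
      · exact K.not_dvd.2 (Int.natCast_dvd_natCast.1 h')
      · rcases hδ χ with h'' | h'' <;> rw [h''] at h' <;>
          exact (Fact.out : p.Prime).not_dvd_one (by simpa using Int.natCast_dvd.1 h')
  · rw [hYcard, ← K.eq_pow, Nat.add_sub_cancel, Nat.mul_div_cancel_left _ K.e_pos]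
  · rintro _ ⟨i, rfl⟩ _ ⟨j, rfl⟩ g hg
    have h := (hrel i g hg).trans (hrel j g hg).symm
    exact mul_left_cancel₀ (by rcases hδ₀ with h | h <;> simp [h]) (add_right_cancel h)
  · rintro _ ⟨i, rfl⟩ g hg
    exact hrel i g hg
  · rintro _ ⟨i, rfl⟩ χ hχ
    refine (hN _ (hθB i)).trans ?_
    rw [hSY]
    have h1 : ((e : ℤ) * t) ≡ -1 [ZMOD (p : ℤ) ^ a] := by
      rw [Int.modEq_iff_dvd, ← Nat.cast_pow, ← K.eq_pow]
      exact ⟨-1, by push_cast; ring⟩
    have h2 := (hXdeg χ hχ).mul_left (-((e : ℤ) * δ₀))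
    refine Int.ModEq.symm ?_
    calc -((e : ℤ) * δ₀ * δ χ * (charDegree (χ : G → ℂ) : ℤ))
        = -((e : ℤ) * δ₀) * (δ χ * (charDegree (χ : G → ℂ) : ℤ)) := by ring
      _ ≡ -((e : ℤ) * δ₀) * (N * t) [ZMOD (p : ℤ) ^ a] := h2
      _ = -(N * δ₀) * ((e : ℤ) * t) := by ring
      _ ≡ -(N * δ₀) * -1 [ZMOD (p : ℤ) ^ a] := h1.mul_left _
      _ = N * δ₀ := by ring

end Core

end CfsgLib.Blocks.Cyclic
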