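import Cfsg.Agent.Lib.Blocks.Cyclic.Values
import Cfsg.Agent.Lib.Blocks.Cyclic.Exceptional

/-!
# The differences of a block with cyclic defect group

The local system yields integral combinations of the characters of the block with Gram matrix
`1 + e J` which span the singular parts of the block.
-/

set_option autoImplicit false
set_option linter.unusedSectionVars false

open scoped ComplexConjugate

namespace CfsgLib.Blocks.Cyclic

open Cfsg CfsgLib.Blocks CfsgLib.Pairs CfsgLib.Char CfsgLib.Star MonoidAlgebra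
open scoped Classical

universe u

variable {G : Type u} [Group G] [Fintype G] {p : ℕ} [Fact p.Prime] {M : Ideal AlgInt} [M.IsPrime]
  {B : Set (IrrCharacter G)} {P : Subgroup G}
  {c : Set (IrrCharacter (Subgroup.centralizer (P : Set G)))}

namespace LocalData

variable {Z : Subgroup G} {f : Set (IrrCharacter (Subgroup.centralizer (Z : Set G)))}

theorem mem_pairStab_of_mapIrr_mem (hf : IsPBlock M f) {x : G}
    (hx : x ∈ Subgroup.normalizer (Z : Set G))
    {χ : IrrCharacter (Subgroup.centralizer (Z : Set G))} (hχ : χ ∈ f)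
    (h : mapIrr (conjC _ ⟨x, normalizer_le_normalizer_centralizer Z hx⟩) χ ∈ f) :
    x ∈ pairStab Z f := by
  have hxi := normalizer_le_normalizer_centralizer Z (inv_mem hx)
  have hmem : mapIrr (conjC _ ⟨x, normalizer_le_normalizer_centralizer Z hx⟩) χ ∈ conjSelf hxi f :=
    ⟨χ, hχ, irr_ext fun k => by
      rw [mapIrr_apply, mapIrr_apply]
      exact congrArg _ (Subtype.ext (by rw [conjEquiv_symm_apply, coe_conjC, inv_inv]))⟩
  have heq := IsPBlock.eq_of_mem (isPBlock_conjSelf hxi hf) hf hmem h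
  exact inv_mem_iff.1 (show x⁻¹ ∈ pairStab Z f from ⟨inv_mem hx, stabilizesBlock_iff.2 ⟨hxi, heq⟩⟩)

variable (L : LocalData p M B P c Z f)
include L

theorem exists_fixed' :
    ∃ χ₀ ∈ f, (∀ t : pairStab Z f, mapIrr (conjC _ (stabNorm t)) χ₀ = χ₀) ∧
      ∀ χ ∈ f, χ ≠ χ₀ → ∀ t : pairStab Z f, mapIrr (conjC _ (stabNorm t)) χ = χ →
        (t : G) ∈ Subgroup.centralizer (Z : Set G) := by
  by_cases he : 1 < (Subgroup.centralizer (Z : Set G)).relIndex (pairStab Z f)
  · exact L.exists_fixed he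
  have hpos : (Subgroup.centralizer (Z : Set G)).relIndex (pairStab Z f) ≠ 0 :=
    by
    simpa [Subgroup.relIndex] using Subgroup.index_ne_zero_of_finite (H := (Subgroup.centralizer (Z : Set G)).subgroupOf (pairStab Z f))
  have hle : pairStab Z f ≤ Subgroup.centralizer (Z : Set G) :=
    Subgroup.relIndex_eq_one.1 (by omega)
  obtain ⟨χ₀, hχ₀⟩ := IsPBlock.nonempty L.block
  exact ⟨χ₀, hχ₀, fun t => mapIrr_conjC_of_mem (hle t.2) _, fun χ _ _ t _ => hle t.2⟩

theorem card_stab : Nat.card (pairStab Z f) =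
    Nat.card (Subgroup.centralizer (Z : Set G)) *
      (Subgroup.centralizer (Z : Set G)).relIndex (pairStab Z f) := by
  rw [← Subgroup.card_mul_index
    ((Subgroup.centralizer (Z : Set G)).subgroupOf (pairStab Z f)),
    Nat.card_congr (Subgroup.subgroupOfEquivOfLe (centralizer_le_pairStab Z f)).toEquiv]
  rfl

/-- Representatives of the regular orbits of the inertial group. -/
theorem exists_reps {χ₀ : IrrCharacter (Subgroup.centralizer (Z : Set G))} (hχ₀ : χ₀ ∈ f)
    (hfix : ∀ t : pairStab Z f, mapIrr (conjC _ (stabNorm t)) χ₀ = χ₀)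
    (hfree : ∀ χ ∈ f, χ ≠ χ₀ → ∀ t : pairStab Z f, mapIrr (conjC _ (stabNorm t)) χ = χ →
        (t : G) ∈ Subgroup.centralizer (Z : Set G)) :
    ∃ (n : ℕ) (ρ : Fin n → IrrCharacter (Subgroup.centralizer (Z : Set G))),
      (Subgroup.centralizer (Z : Set G)).relIndex (pairStab Z f) * n + 1 = Nat.card P ∧
      (∀ j, ρ j ∈ f ∧ ρ j ≠ χ₀) ∧
      (∀ i j (x : pairStab Z f), mapIrr (conjC _ (stabNorm x)) (ρ j) = ρ i → i = j) ∧
      ∀ h : IrrCharacter (Subgroup.centralizer (Z : Set G)) → ℂ, h χ₀ = 0 →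
        (∀ x : pairStab Z f, ∀ μ ∈ f, h (mapIrr (conjC _ (stabNorm x)) μ) = h μ) →
        ∑ μ ∈ (Set.toFinite f).toFinset, h μ =
          ((Subgroup.centralizer (Z : Set G)).relIndex (pairStab Z f) : ℂ) * ∑ j, h (ρ j) := by
  let S := {μ : IrrCharacter (Subgroup.centralizer (Z : Set G)) // μ ∈ f ∧ μ ≠ χ₀}
  have hcomp : ∀ (x y : pairStab Z f) (μ : IrrCharacter (Subgroup.centralizer (Z : Set G))),
      mapIrr (conjC _ (stabNorm (x * y))) μ =
        mapIrr (conjC _ (stabNorm y)) (mapIrr (conjC _ (stabNorm x)) μ) := fun x y μ =>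
    mapIrr_conjC_mul (stabNorm x) (stabNorm y) μ
  have hone : ∀ μ : IrrCharacter (Subgroup.centralizer (Z : Set G)),
      mapIrr (conjC _ (stabNorm (1 : pairStab Z f))) μ = μ := fun μ =>
    mapIrr_conjC_of_mem (one_mem _) μ
  have hinv : ∀ (x : pairStab Z f) {μ ν : IrrCharacter (Subgroup.centralizer (Z : Set G))},
      mapIrr (conjC _ (stabNorm x)) μ = ν → mapIrr (conjC _ (stabNorm x⁻¹)) ν = μ := fun x μ ν h => by
    rw [← h, ← hcomp, mul_inv_cancel, hone]
  let rel : Setoid S :=
    { r := fun μ ν => ∃ x : pairStab Z f, mapIrr (conjC _ (stabNorm x)) μ.1 = ν.1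
      iseqv := ⟨fun μ => ⟨1, hone μ.1⟩, fun ⟨x, hx⟩ => ⟨x⁻¹, hinv x hx⟩,
        fun ⟨x, hx⟩ ⟨y, hy⟩ => ⟨x * y, by rw [hcomp, hx, hy]⟩⟩ }
  set Q := Quotient rel with hQ
  have : Fintype S := Fintype.ofFinite S
  have : Fintype Q := Fintype.ofFinite Q
  let ρ : Fin (Fintype.card Q) → IrrCharacter (Subgroup.centralizer (Z : Set G)) := fun j =>
    ((Fintype.equivFin Q).symm j).out.1
  have hρ : ∀ j, ρ j ∈ f ∧ ρ j ≠ χ₀ := fun j => ((Fintype.equivFin Q).symm j).out.2
  have hinj : ∀ i j (x : pairStab Z f), mapIrr (conjC _ (stabNorm x)) (ρ j) = ρ i → i = j := by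
    intro i j x hx
    refine (Fintype.equivFin Q).symm.injective ?_
    rw [← Quotient.out_eq ((Fintype.equivFin Q).symm i),
      ← Quotient.out_eq ((Fintype.equivFin Q).symm j)]
    exact (Quotient.sound (show rel.r _ _ from ⟨x, hx⟩)).symm
  have hmain : ∀ h : IrrCharacter (Subgroup.centralizer (Z : Set G)) → ℂ, h χ₀ = 0 →
      (∀ x : pairStab Z f, ∀ μ ∈ f, h (mapIrr (conjC _ (stabNorm x)) μ) = h μ) →
      ∑ μ ∈ (Set.toFinite f).toFinset, h μ =
        ((Subgroup.centralizer (Z : Set G)).relIndex (pairStab Z f) : ℂ) * ∑ j, h (ρ j) := by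
    intro h h0 hh
    let φ : Fin (Fintype.card Q) × pairStab Z f → S := fun y =>
      ⟨mapIrr (conjC _ (stabNorm y.2)) (ρ y.1), mapIrr_mem y.2 (hρ y.1).1, fun e => (hρ y.1).2 (by
        rw [← hinv y.2 e, hfix])⟩
    have hfib : ∀ ν : S, Fintype.card {y // φ y = ν} =
        Nat.card (Subgroup.centralizer (Z : Set G)) := by
      intro ν
      obtain ⟨x, hx⟩ := Quotient.mk_out (s := rel) ν
      set j := (Fintype.equivFin Q) (Quotient.mk rel ν)
      have hj : ρ j = (Quotient.mk rel ν).out.1 := by simp [ρ, j]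
      rw [← Nat.card_eq_fintype_card]
      have hk : ∀ k : Subgroup.centralizer (Z : Set G),
          φ (j, (⟨(k : G), centralizer_le_pairStab Z f k.2⟩ : pairStab Z f) * x) = ν := fun k => Subtype.ext (by
        show mapIrr _ (ρ j) = ν.1
        rw [hcomp, mapIrr_conjC_of_mem (show ((stabNorm (⟨(k : G),
          centralizer_le_pairStab Z f k.2⟩ : pairStab Z f) : G)) ∈ _ from k.2), hj, hx])
      refine (Nat.card_congr (Equiv.ofBijective (fun k : Subgroup.centralizer (Z : Set G) =>
        (⟨(j, (⟨(k : G), centralizer_le_pairStab Z f k.2⟩ : pairStab Z f) * x), hk k⟩ : {y // φ y = ν}))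
        ⟨fun k k' e => ?_, fun ⟨⟨i, y⟩, hy⟩ => ?_⟩)).symm
      · have e1 := congrArg (fun y : {y // φ y = ν} => y.1.2) e
        exact Subtype.ext (congrArg (fun z : pairStab Z f => (z : G)) (mul_right_cancel e1))
      · have hy' : mapIrr (conjC _ (stabNorm y)) (ρ i) = ν.1 := congrArg Subtype.val hy
        have hij : i = j := by
          refine hinj i j (x * y⁻¹) ?_
          rw [hcomp, hj, hx, hinv y hy']
        subst hij
        have hst : mapIrr (conjC _ (stabNorm (y * x⁻¹))) (ρ j) = ρ j := by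
          rw [hcomp, hy', hinv x (hj ▸ hx)]
        exact ⟨⟨_, hfree _ (hρ j).1 (hρ j).2 _ hst⟩, Subtype.ext (Prod.ext rfl (by
          show (⟨_, _⟩ : pairStab Z f) * x = y
          exact Subtype.ext (by simp)))⟩
    have h1 : ∑ y, h (φ y).1 = (Nat.card (pairStab Z f) : ℂ) * ∑ j, h (ρ j) := by
      rw [Fintype.sum_prod_type, Finset.mul_sum]
      refine Finset.sum_congr rfl fun j _ => ?_
      rw [Finset.sum_congr rfl fun x _ => hh x (ρ j) (hρ j).1, Finset.sum_const, Finset.card_univ,
        nsmul_eq_mul, Nat.card_eq_fintype_card]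
    have h2 : ∑ y, h (φ y).1 = (Nat.card (Subgroup.centralizer (Z : Set G)) : ℂ) * ∑ ν : S, h ν.1 := by
      rw [← Fintype.sum_fiberwise φ, Finset.mul_sum]
      refine Finset.sum_congr rfl fun ν _ => ?_
      rw [Finset.sum_congr rfl fun (y : {y // φ y = ν}) _ => by rw [y.2], Finset.sum_const,
        Finset.card_univ, hfib, nsmul_eq_mul]
    rw [h1, L.card_stab, Nat.cast_mul, mul_assoc] at h2
    rw [mul_left_cancel₀ (Nat.cast_ne_zero.2 Nat.card_pos.ne') h2,
      ← Finset.sum_erase _ h0]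
    exact Finset.sum_subtype _ (fun μ => by simp [Set.Finite.mem_toFinset, and_comm]) _
  refine ⟨_, ρ, ?_, hρ, hinj, hmain⟩
  have h := hmain (fun μ => if μ = χ₀ then 0 else 1) (if_pos rfl) fun x μ _ => by
    refine if_congr ⟨fun e => ?_, fun e => ?_⟩ rfl rfl
    · rw [← hinv x e, hfix]
    · rw [e, hfix]
  simp only [hρ, if_false, Finset.sum_const, Finset.card_univ, Fintype.card_fin,
    nsmul_eq_mul, mul_one] at h
  rw [← Finset.add_sum_erase _ _ ((Set.Finite.mem_toFinset (Set.toFinite f)).2 hχ₀), if_pos rfl, zero_add,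
    Finset.sum_congr rfl
    (g := fun _ => (1 : ℂ)) (fun μ hμ => if_neg (Finset.ne_of_mem_erase hμ)), Finset.sum_const,
    nsmul_eq_mul, mul_one, Finset.card_erase_of_mem ((Set.Finite.mem_toFinset _).2 hχ₀),
    ← Set.ncard_eq_toFinset_card _ (Set.toFinite f), ← Nat.card_coe_set_eq, L.card_block] at h
  have h' : Nat.card P - 1 =
      (Subgroup.centralizer (Z : Set G)).relIndex (pairStab Z f) * Fintype.card Q := by
    exact_mod_cast h
  have := Nat.card_pos (α := P)
  omega

/-- The sum of the conjugate parts over the normalizer. -/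
theorem sum_part {χ : IrrCharacter G} (hχ : χ ∈ B)
    {k : Subgroup.centralizer (Z : Set G)} (hk : Sing p P Z (k : G)) :
    ∑ x : Subgroup.normalizer (Z : Set G),
        blockPart f (fun h : Subgroup.centralizer (Z : Set G) => (χ : G → ℂ) h)
          (conjC _ ⟨(x : G), normalizer_le_normalizer_centralizer Z x.2⟩ k) =
      (Nat.card (pairStab Z f) : ℂ) * (χ : G → ℂ) k := by
  rw [L.apply_eq_sum_orbit hχ hk, Finset.mul_sum,
    ← Finset.sum_fiberwise_of_maps_to (s := Finset.univ) (t := orbit Z f)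
      (g := fun x : Subgroup.normalizer (Z : Set G) =>
        conjSelf (normalizer_conj_centralizer x⁻¹) f)
      (fun x _ => mem_orbit.2 ⟨x⁻¹, rfl⟩)]
  refine Finset.sum_congr rfl fun b hb => ?_
  rw [Finset.sum_congr rfl fun x hx => ((L.blockPart_conjSelf x χ k).symm.trans
    (by rw [(Finset.mem_filter.1 hx).2]) :
      _ = blockPart b (fun h : Subgroup.centralizer (Z : Set G) => (χ : G → ℂ) h) k),
    Finset.sum_const, nsmul_eq_mul]
  congr 2
  obtain ⟨m, rfl⟩ := mem_orbit.1 hb
  rw [← Fintype.card_subtype, ← Nat.card_eq_fintype_card]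
  have hmk : ∀ t : pairStab Z f,
      conjSelf (normalizer_conj_centralizer
        ((⟨(t : G), pairStab_le_normalizer Z f t.2⟩ : Subgroup.normalizer (Z : Set G)) * m⁻¹)⁻¹) f =
        conjSelf (normalizer_conj_centralizer m) f := fun t => by
    obtain ⟨ht, hst⟩ := stabilizesBlock_iff.1 (inv_mem t.2 : (t : G)⁻¹ ∈ pairStab Z f).2
    rw [conjSelf_eq (show ((((⟨(t : G), pairStab_le_normalizer Z f t.2⟩ :
      Subgroup.normalizer (Z : Set G)) * m⁻¹)⁻¹ : Subgroup.normalizer (Z : Set G)) : G) =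
        (m : G) * (t : G)⁻¹ by simp) _ (mul_mem (normalizer_conj_centralizer m) ht) f,
      conjSelf_mul (normalizer_conj_centralizer m) ht f, hst]
  refine (Nat.card_congr (Equiv.ofBijective (fun t : pairStab Z f =>
    (⟨(⟨(t : G), pairStab_le_normalizer Z f t.2⟩ : Subgroup.normalizer (Z : Set G)) * m⁻¹, hmk t⟩ :
      {x : Subgroup.normalizer (Z : Set G) //
        conjSelf (normalizer_conj_centralizer x⁻¹) f = conjSelf (normalizer_conj_centralizer m) f}))
    ⟨fun t t' e => ?_, fun ⟨x, hx⟩ => ?_⟩)).symm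
  · exact Subtype.ext (congrArg (fun z : Subgroup.normalizer (Z : Set G) => (z : G))
      (mul_right_cancel (congrArg Subtype.val e)))
  · have hxm : (x : G) * (m : G) ∈ pairStab Z f := by
      refine inv_mem_iff.1 (show ((x : G) * m)⁻¹ ∈ pairStab Z f from
        ⟨inv_mem (mul_mem x.2 m.2), stabilizesBlock_iff.2
          ⟨normalizer_le_normalizer_centralizer Z (inv_mem (mul_mem x.2 m.2)), ?_⟩⟩)
      rw [conjSelf_eq (show ((x : G) * m)⁻¹ =
        ((m⁻¹ : Subgroup.normalizer (Z : Set G)) : G) * ((x⁻¹ : Subgroup.normalizer (Z : Set G)) : G)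
          by simp) _ (mul_mem (normalizer_conj_centralizer m⁻¹) (normalizer_conj_centralizer x⁻¹)) f,
        conjSelf_mul (normalizer_conj_centralizer m⁻¹) (normalizer_conj_centralizer x⁻¹) f, hx,
        ← conjSelf_mul (normalizer_conj_centralizer m⁻¹) (normalizer_conj_centralizer m) f,
        conjSelf_eq (show ((m⁻¹ : Subgroup.normalizer (Z : Set G)) : G) * m = 1 by simp) _
          (one_mem _) f, conjSelf_one]
    exact ⟨⟨_, hxm⟩, Subtype.ext (Subtype.ext (by simp [mul_assoc]))⟩

/-- The differences from a fixed character and representatives of the regular orbits. -/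
theorem core_of_reps [Fintype (IrrCharacter G)] {a : ℕ} (ha : Nat.card P = p ^ a)
    {χ₀ : IrrCharacter (Subgroup.centralizer (Z : Set G))} (hχ₀ : χ₀ ∈ f)
    (hfix : ∀ t : pairStab Z f, mapIrr (conjC _ (stabNorm t)) χ₀ = χ₀)
    (hfree : ∀ χ ∈ f, χ ≠ χ₀ → ∀ t : pairStab Z f, mapIrr (conjC _ (stabNorm t)) χ = χ →
        (t : G) ∈ Subgroup.centralizer (Z : Set G))
    {n : ℕ} (ρ : Fin n → IrrCharacter (Subgroup.centralizer (Z : Set G)))
    (hn : (Subgroup.centralizer (Z : Set G)).relIndex (pairStab Z f) * n + 1 = Nat.card P)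
    (hρ : ∀ j, ρ j ∈ f ∧ ρ j ≠ χ₀)
    (hinj : ∀ i j (x : pairStab Z f), mapIrr (conjC _ (stabNorm x)) (ρ j) = ρ i → i = j)
    (hsum : ∀ h : IrrCharacter (Subgroup.centralizer (Z : Set G)) → ℂ, h χ₀ = 0 →
        (∀ x : pairStab Z f, ∀ μ ∈ f, h (mapIrr (conjC _ (stabNorm x)) μ) = h μ) →
        ∑ μ ∈ (Set.toFinite f).toFinset, h μ =
          ((Subgroup.centralizer (Z : Set G)).relIndex (pairStab Z f) : ℂ) * ∑ j, h (ρ j)) :
    ∃ cc : IrrCharacter (Subgroup.centralizer (Z : Set G)) → IrrCharacter G → ℤ,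
      Core p B a ((Subgroup.centralizer (P : Set G)).relIndex (pairStab P c)) n (fun j => cc (ρ j)) ∧
      (∀ μ (χ : IrrCharacter G), classInner (dif μ χ₀) (fun h : Subgroup.centralizer (Z : Set G) => (χ : G → ℂ) h) =
        (cc μ χ : ℂ)) ∧
      (∀ μ, gam (cc μ) = indFun (Subgroup.centralizer (Z : Set G)) (dif μ χ₀)) ∧
      ∀ (x : pairStab Z f) μ, cc (mapIrr (conjC _ (stabNorm x)) μ) = cc μ := by
  have hM := L.base.modular
  have hp := (Fact.out : p.Prime)
  have hfB : IsPBlock M f := L.block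
  rw [← L.s4645.2.1]
  set e := (Subgroup.centralizer (Z : Set G)).relIndex (pairStab Z f) with he
  have hepos : 0 < e := Nat.pos_of_ne_zero (by
    simpa [he, Subgroup.relIndex] using Subgroup.index_ne_zero_of_finite
      (H := (Subgroup.centralizer (Z : Set G)).subgroupOf (pairStab Z f)))
  have := Fintype.ofFinite (IrrCharacter (Subgroup.centralizer (Z : Set G)))
  have hres : ∀ χ : IrrCharacter G, IsCharacter (Subgroup.centralizer (Z : Set G))
      (fun h : Subgroup.centralizer (Z : Set G) => (χ : G → ℂ) h) := fun χ =>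
    IsChar.restrict _ (IsIrr.isCharacter χ.2)
  choose m hm using fun (μ : IrrCharacter (Subgroup.centralizer (Z : Set G))) (χ : IrrCharacter G) =>
    IsChar.classInner_eq_natCast (IsIrr.isCharacter μ.2) (hres χ)
  have hm' : ∀ (μ : IrrCharacter (Subgroup.centralizer (Z : Set G))) (χ : IrrCharacter G), classInner (fun h : Subgroup.centralizer (Z : Set G) => (χ : G → ℂ) h)
      (μ : Subgroup.centralizer (Z : Set G) → ℂ) = (m μ χ : ℂ) := fun μ χ => by
    rw [← classInner_conj_symm, hm, map_natCast]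
  let cc : IrrCharacter (Subgroup.centralizer (Z : Set G)) → IrrCharacter G → ℤ :=
    fun μ χ => (m μ χ : ℤ) - (m χ₀ χ : ℤ)
  have hcc : ∀ (μ : IrrCharacter (Subgroup.centralizer (Z : Set G))) (χ : IrrCharacter G), classInner (dif μ χ₀) (fun h : Subgroup.centralizer (Z : Set G) => (χ : G → ℂ) h) =
      (cc μ χ : ℂ) := fun μ χ => by
    rw [dif, classInner_sub_left, hm, hm]
    simp [cc]
  have hgam : ∀ μ, gam (cc μ) = indFun (Subgroup.centralizer (Z : Set G)) (dif μ χ₀) := fun μ => by
    funext g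
    rw [classFunction_apply_eq_sum (isClassFunction_indFun _ _) g, gam]
    refine Finset.sum_congr rfl fun ξ _ => ?_
    rw [frobenius_reciprocity _ _ (IsIrr.isClassFunction ξ.2), hcc]
  have hm_conj : ∀ (x : pairStab Z f) (μ : IrrCharacter (Subgroup.centralizer (Z : Set G))) (χ : IrrCharacter G), m (mapIrr (conjC _ (stabNorm x)) μ) χ = m μ χ := by
    intro x μ χ
    have h : classInner (mapIrr (conjC _ (stabNorm x)) μ : Subgroup.centralizer (Z : Set G) → ℂ)
        (fun h : Subgroup.centralizer (Z : Set G) => (χ : G → ℂ) h) =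
        classInner (μ : Subgroup.centralizer (Z : Set G) → ℂ)
        (fun h : Subgroup.centralizer (Z : Set G) => (χ : G → ℂ) h) := by
      simp only [classInner]
      congr 1
      refine Fintype.sum_equiv (conjC _ (stabNorm x)).toEquiv _ _ fun k => ?_
      rw [MulEquiv.toEquiv_eq_coe, EquivLike.coe_coe, mapIrr_apply, coe_conjC,
        IsIrr.isClassFunction χ.2 (k : G)]
    rw [hm, hm] at h
    exact_mod_cast h
  have hcc_conj : ∀ (x : pairStab Z f) μ, cc (mapIrr (conjC _ (stabNorm x)) μ) = cc μ :=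
    fun x μ => funext fun χ => by simp [cc, hm_conj]
  have hcc0 : cc χ₀ = 0 := funext fun χ => by simp [cc]
  have hgam0 : ∀ g, gam (cc χ₀) g = 0 := fun g => by simp [gam, hcc0]
  -- the part of a character at the local block
  have hpart : ∀ (χ : IrrCharacter G) (y : Subgroup.centralizer (Z : Set G)), p ∣ orderOf y →
      blockPart f (fun h : Subgroup.centralizer (Z : Set G) => (χ : G → ℂ) h) y =
        ∑ μ ∈ (Set.toFinite f).toFinset,
          ((cc μ χ : ℂ) - (e : ℂ) / (p : ℂ) ^ a * ∑ i, (cc (ρ i) χ : ℂ)) * dif μ χ₀ y := by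
    intro χ y hy
    have h0 := L.sum_block_eq_zero hy
    have hq : (((Set.toFinite f).toFinset.card : ℕ) : ℂ) = (p : ℂ) ^ a := by
      rw [← Set.ncard_eq_toFinset_card _ (Set.toFinite f), ← Nat.card_coe_set_eq, L.card_block, ha]
      push_cast; rfl
    have hS : ∑ μ ∈ (Set.toFinite f).toFinset, (cc μ χ : ℂ) = (e : ℂ) * ∑ i, (cc (ρ i) χ : ℂ) :=
      hsum (fun μ => (cc μ χ : ℂ)) (by simp [hcc0]) fun x μ _ => by simp [hcc_conj]
    have hpa : (p : ℂ) ^ a ≠ 0 := pow_ne_zero _ (Nat.cast_ne_zero.2 hp.ne_zero)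
    rw [blockPart_eq, finsum_mem_eq_finite_toFinset_sum _ (Set.toFinite f)]
    simp only [hm', dif, Pi.sub_apply, sub_mul, mul_sub, Finset.sum_sub_distrib, ← Finset.mul_sum,
      ← Finset.sum_mul, h0, mul_zero, zero_sub, sub_neg_eq_add, hS, Finset.sum_const, nsmul_eq_mul, hq]
    have h1 : ∑ μ ∈ (Set.toFinite f).toFinset, (cc μ χ : ℂ) * (μ : _ → ℂ) y =
        ∑ μ ∈ (Set.toFinite f).toFinset, (m μ χ : ℂ) * (μ : _ → ℂ) y := by
      simp only [cc, Int.cast_sub, Int.cast_natCast, sub_mul, Finset.sum_sub_distrib, ← Finset.mul_sum,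
        h0, mul_zero, sub_zero]
    rw [h1]
    field_simp
    ring
  refine ⟨cc,
    { eq_pow := hn.trans ha
      e_pos := hepos
      a_pos := Nat.pos_of_ne_zero fun h0 => L.base.ne_bot (by
        rwa [h0, pow_zero, Subgroup.card_eq_one] at ha)
      defect := Nat.pow_right_injective hp.two_le
        ((IsDefectGroup.card_eq hM L.base.block L.base.defect).symm.trans ha)
      support := fun j χ hχ => ?_
      gram := fun i j => ?_
      regular := fun j g hg => ?_
      singular := fun χ hχ g hg => ?_ }, hcc, hgam, hcc_conj⟩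
  · have h : (cc (ρ j) χ : ℂ) = 0 := by
      rw [← hcc, ← classInner_conj_symm, map_eq_zero]
      have hb : ∀ μ ∈ f, classInner (fun h : Subgroup.centralizer (Z : Set G) => (χ : G → ℂ) h)
          (μ : Subgroup.centralizer (Z : Set G) → ℂ) = classInner
            (blockPart f fun h : Subgroup.centralizer (Z : Set G) => (χ : G → ℂ) h)
            (μ : Subgroup.centralizer (Z : Set G) → ℂ) := fun μ hμ => by
        rw [classInner_blockPart, if_pos hμ]
      rw [dif, classInner_sub_right, hb _ (hρ j).1, hb _ hχ₀, ← classInner_sub_right, classInner,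
        Finset.sum_eq_zero fun k _ => ?_, mul_zero]
      by_cases hk : Sing p P Z (k : G)
      · rw [L.blockPart_eq_zero L.induced hχ hk, zero_mul]
      · rw [show ((ρ j : Subgroup.centralizer (Z : Set G) → ℂ) - (χ₀ : Subgroup.centralizer (Z : Set G) → ℂ)) k =
            dif (ρ j) χ₀ k from rfl,
          L.dif_eq_zero (hρ j).1 hχ₀ hk, map_zero, mul_zero]
    exact_mod_cast h
  · apply Int.cast_injective (α := ℂ)
    rw [Int.cast_sum]
    push_cast
    calc ∑ χ, (cc (ρ i) χ : ℂ) * (cc (ρ j) χ : ℂ)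
        = classInner (gam (cc (ρ i))) (gam (cc (ρ j))) := by
          rw [show gam (cc (ρ i)) = ∑ ψ, (cc (ρ i) ψ : ℂ) • (ψ : G → ℂ) from funext fun g => by
            simp [gam, Finset.sum_apply], classInner_sum_left]
          refine Finset.sum_congr rfl fun χ _ => ?_
          rw [classInner_smul_left, ← classInner_conj_symm, classInner_gam, map_intCast]
      _ = classInner (dif (ρ i) χ₀)
          (fun h : Subgroup.centralizer (Z : Set G) => gam (cc (ρ j)) h) := by
          rw [hgam, hgam, frobenius_reciprocity _ _ (isClassFunction_indFun _ _)]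
      _ = classInner (dif (ρ i) χ₀) ((Nat.card (Subgroup.centralizer (Z : Set G)) : ℂ)⁻¹ •
          ∑ x : Subgroup.normalizer (Z : Set G), fun k : Subgroup.centralizer (Z : Set G) =>
            dif (ρ j) χ₀ (conjC _ ⟨(x : G), normalizer_le_normalizer_centralizer Z x.2⟩ k)) := by
          simp only [classInner]
          congr 1
          refine Finset.sum_congr rfl fun k _ => ?_
          by_cases hk : Sing p P Z (k : G)
          · rw [hgam, L.indFun_dif (hρ j).1 hχ₀ hk, Pi.smul_apply, Finset.sum_apply, smul_eq_mul]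
          · rw [L.dif_eq_zero (hρ i).1 hχ₀ hk, zero_mul, zero_mul]
      _ = _ := ?_
    have hterm : ∀ x : Subgroup.normalizer (Z : Set G),
        classInner (dif (ρ i) χ₀) (fun k : Subgroup.centralizer (Z : Set G) =>
          dif (ρ j) χ₀ (conjC _ ⟨(x : G), normalizer_le_normalizer_centralizer Z x.2⟩ k)) =
        (if h : (x : G) ∈ pairStab Z f then
          (if mapIrr (conjC _ (stabNorm ⟨(x : G), h⟩)) (ρ j) = ρ i then (1 : ℂ) else 0) + 1
          else 0) := by
      intro x
      set g : Subgroup.normalizer ((Subgroup.centralizer (Z : Set G) : Subgroup G) : Set G) :=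
        ⟨(x : G), normalizer_le_normalizer_centralizer Z x.2⟩ with hg
      rw [show (fun k : Subgroup.centralizer (Z : Set G) => dif (ρ j) χ₀ (conjC _ g k)) =
          (mapIrr (conjC _ g) (ρ j) : _ → ℂ) - (mapIrr (conjC _ g) χ₀ : _ → ℂ) from rfl, dif,
        classInner_sub_left, classInner_sub_right, classInner_sub_right, classInner_irr,
        classInner_irr, classInner_irr, classInner_irr]
      by_cases hxT : (x : G) ∈ pairStab Z f
      · set t : pairStab Z f := ⟨(x : G), hxT⟩
        rw [dif_pos hxT, show g = stabNorm t from rfl, hfix t, if_neg (hρ i).2, if_pos rfl,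
          if_neg (show χ₀ ≠ mapIrr (conjC _ (stabNorm t)) (ρ j) from fun e' => (hρ j).2
            (mapIrr_injective (conjC _ (stabNorm t)) (e'.symm.trans (hfix t).symm)))]
        simp only [eq_comm, sub_zero, zero_sub, sub_neg_eq_add]
        congr
      · have hno : ∀ φ ∈ f, ∀ ψ ∈ f, φ ≠ mapIrr (conjC _ g) ψ := fun φ hφ ψ hψ e' =>
          hxT (mem_pairStab_of_mapIrr_mem L.block x.2 hψ (show mapIrr (conjC _ g) ψ ∈ f from e' ▸ hφ))
        rw [dif_neg hxT, if_neg (hno _ (hρ i).1 _ (hρ j).1), if_neg (hno _ (hρ i).1 _ hχ₀),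
          if_neg (hno _ hχ₀ _ (hρ j).1), if_neg (hno _ hχ₀ _ hχ₀)]
        ring
    rw [classInner_smul_right, classInner_sum_right, Finset.sum_congr rfl fun x _ => hterm x,
      map_inv₀, map_natCast,
      ← Fintype.sum_of_injective (Subgroup.inclusion (pairStab_le_normalizer Z f))
        (Subgroup.inclusion_injective _)
        (fun t : pairStab Z f =>
          (if mapIrr (conjC _ (stabNorm t)) (ρ j) = ρ i then (1 : ℂ) else 0) + 1) _
        (fun x hx => dif_neg fun h => hx ⟨⟨(x : G), h⟩, Subtype.ext rfl⟩)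
        (fun t => by rw [dif_pos (show ((Subgroup.inclusion (pairStab_le_normalizer Z f) t :
          Subgroup.normalizer (Z : Set G)) : G) ∈ pairStab Z f from t.2)]; rfl),
      Finset.sum_add_distrib, Finset.sum_boole, Finset.sum_const, Finset.card_univ, nsmul_eq_mul,
      mul_one, ← Fintype.card_subtype, ← Nat.card_eq_fintype_card, ← Nat.card_eq_fintype_card,
      L.card_stab, ← he]
    have hC : (Nat.card (Subgroup.centralizer (Z : Set G)) : ℂ) ≠ 0 :=
      Nat.cast_ne_zero.2 Nat.card_pos.ne'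
    by_cases hij : i = j
    · subst hij
      rw [if_pos rfl, Nat.card_congr (show {t : pairStab Z f //
        mapIrr (conjC _ (stabNorm t)) (ρ i) = ρ i} ≃ Subgroup.centralizer (Z : Set G) from
        { toFun := fun t => ⟨(t.1 : G), hfree _ (hρ i).1 (hρ i).2 t.1 t.2⟩
          invFun := fun k => ⟨⟨(k : G), centralizer_le_pairStab Z f k.2⟩,
            mapIrr_conjC_of_mem k.2 _⟩
          left_inv := fun t => rfl
          right_inv := fun k => rfl }), Nat.cast_mul]
      field_simp
    · have : IsEmpty {t : pairStab Z f // mapIrr (conjC _ (stabNorm t)) (ρ j) = ρ i} :=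
        ⟨fun t => hij (hinj i j t.1 t.2)⟩
      have h0 : Nat.card {t : pairStab Z f // mapIrr (conjC _ (stabNorm t)) (ρ j) = ρ i} = 0 :=
        Nat.card_of_isEmpty
      rw [if_neg hij, h0, Nat.cast_zero, Nat.cast_mul]
      field_simp
      push_cast
      ring
  · rw [hgam]
    refine L.indFun_dif_eq_zero (hρ j).1 hχ₀ fun x hx => hg ?_
    have := L.sing_dvd hx
    rwa [show orderOf (x⁻¹ * g * x) = orderOf g by
      simpa using MulEquiv.orderOf_eq (MulAut.conj x⁻¹) g] at this
  · by_cases hex : ∃ x : G, Sing p P Z (x⁻¹ * g * x)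
    · obtain ⟨x, hx⟩ := hex
      have hcl : ∀ θ : G → ℂ, IsClassFunction G θ → θ g = θ (x⁻¹ * g * x) := fun θ hθ => by
        rw [← hθ g x⁻¹, inv_inv]
      rw [hcl _ (IsIrr.isClassFunction χ.2), Finset.sum_congr rfl fun j _ => by
        rw [hcl (gam (cc (ρ j))) (hgam (ρ j) ▸ isClassFunction_indFun _ _)]]
      set k : Subgroup.centralizer (Z : Set G) := ⟨_, L.sing_mem hx⟩
      have hk : Sing p P Z (k : G) := hx
      have hkd : p ∣ orderOf k := by rw [← Subgroup.orderOf_coe]; exact L.sing_dvd hk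
      set A : IrrCharacter (Subgroup.centralizer (Z : Set G)) → ℂ := fun μ =>
        (cc μ χ : ℂ) - (e : ℂ) / (p : ℂ) ^ a * ∑ i, (cc (ρ i) χ : ℂ) with hA
      have h1 : ∑ μ ∈ (Set.toFinite f).toFinset, A μ * gam (cc μ) (k : G) =
          (e : ℂ) * (χ : G → ℂ) k := by
        rw [Finset.sum_congr rfl fun μ hμ => by
          rw [hgam, L.indFun_dif ((Set.Finite.mem_toFinset _).1 hμ) hχ₀ hk, mul_left_comm,
            Finset.mul_sum], ← Finset.mul_sum, Finset.sum_comm]
        rw [Finset.sum_congr rfl fun (y : Subgroup.normalizer (Z : Set G)) _ =>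
          (hpart χ (conjC _ ⟨(y : G), normalizer_le_normalizer_centralizer Z y.2⟩ k)
            (by rw [MulEquiv.orderOf_eq]; exact hkd)).symm, L.sum_part hχ hk, L.card_stab, ← he,
          Nat.cast_mul, mul_assoc, inv_mul_cancel_left₀ (Nat.cast_ne_zero.2 Nat.card_pos.ne')]
      have h2 := hsum (fun μ => A μ * gam (cc μ) (k : G)) (by simp [hgam0])
        fun y μ _ => by simp [A, hcc_conj]
      rw [h1] at h2
      exact mul_left_cancel₀ (Nat.cast_ne_zero.2 hepos.ne') h2
    · push Not at hex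
      obtain ⟨z, hz⟩ := exists_pPart hp g
      rw [Finset.sum_eq_zero fun j _ => by
        rw [hgam, L.indFun_dif_eq_zero (hρ j).1 hχ₀ hex, mul_zero]]
      refine apply_eq_zero_of_pPart_notMem hM L.base.block hχ hz fun D hD hzD => ?_
      obtain ⟨w, hw⟩ := IsDefectGroup.exists_conj hM L.base.block hD L.base.defect
      refine hex w⁻¹ ⟨1, one_mem _, w * z * w⁻¹, ?_, ?_, ?_⟩
      · rw [← hw]
        exact ⟨z, hzD, rfl⟩
      · rw [ne_eq, conj_eq_one_iff]
        exact (IsPPart.dvd_orderOf_iff hp hz).1 hg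
      · simpa using isPPart_conj w hz

/-- The differences of the block exist. -/
theorem exists_core [Fintype (IrrCharacter G)] {a : ℕ} (ha : Nat.card P = p ^ a) :
    ∃ (n : ℕ) (cf : Fin n → IrrCharacter G → ℤ),
      Core p B a ((Subgroup.centralizer (P : Set G)).relIndex (pairStab P c)) n cf := by
  obtain ⟨χ₀, hχ₀, hfix, hfree⟩ := L.exists_fixed'
  obtain ⟨n, ρ, hn, hρ, hinj, hsum⟩ := L.exists_reps hχ₀ hfix hfree
  obtain ⟨cc, K, -⟩ := L.core_of_reps ha hχ₀ hfix hfree ρ hn hρ hinj hsum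
  exact ⟨n, _, K⟩

end LocalData

end CfsgLib.Blocks.Cyclic
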