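import Cfsg.Agent.Lib.Blocks.Cyclic.Exceptional
import Cfsg.Agent.Lib.Blocks.KleinIsometry.Divide
import Cfsg.Prelude.Def_BlockLocal

/-!
# Two blocks with the same differences

The bijection matching the exceptional characters, and the pairing of the two blocks.
-/

set_option autoImplicit false
set_option linter.unusedSectionVars false

namespace CfsgLib.Blocks.Cyclic

open Cfsg CfsgLib.Char CfsgLib.CharAction
open scoped Classical

variable {G H : Type*} [Group G] [Fintype G] [Fintype (IrrCharacter G)] [Group H] [Fintype H]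
  [Fintype (IrrCharacter H)] {p : ℕ} [Fact p.Prime] {B : Set (IrrCharacter G)}
  {b : Set (IrrCharacter H)} {a e t : ℕ} {c : Fin t → IrrCharacter G → ℤ}
  {d : Fin t → IrrCharacter H → ℤ}

/-- A signed bijection carrying the differences of `b` onto those of `B`. -/
structure Matched (B : Set (IrrCharacter G)) (b : Set (IrrCharacter H))
    (c : Fin t → IrrCharacter G → ℤ) (d : Fin t → IrrCharacter H → ℤ)
    (I : IrrCharacter H → IrrCharacter G) (ε : IrrCharacter H → ℤ) : Prop where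
  bij : Set.BijOn I b B
  sign : ∀ η ∈ b, ε η = 1 ∨ ε η = -1
  coef : ∀ η ∈ b, ∀ j, c j (I η) = ε η * d j η

theorem card_sdiff_range {K : Type*} [Finite K] (A : Set K) (f : Fin t → K) (hf : Function.Injective f)
    (hmem : ∀ j, f j ∈ A) (hA : Nat.card A = e + t) : Nat.card (A \ Set.range f : Set K) = e := by
  have hsub : Set.range f ⊆ A := Set.range_subset_iff.2 hmem
  rw [Nat.card_coe_set_eq, Set.ncard_sdiff hsub, ← Nat.card_coe_set_eq,
    ← Nat.card_coe_set_eq, hA, Nat.card_range_of_injective hf, Nat.card_fin]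
  omega

variable {M : Ideal AlgInt} [M.IsPrime]

/-- The signed bijection between two blocks with the same invariants. -/
theorem Core.exists_matched (K : Core p B a e t c) (K' : Core p b a e t d) (hM : IsPModular p M)
    (hB : IsPBlock M B) (hb : IsPBlock M b) (hl : e ≤ blockRank p B) (hl' : e ≤ blockRank p b) :
    ∃ (I : IrrCharacter H → IrrCharacter G) (ε : IrrCharacter H → ℤ), Matched B b c d I ε ∧
      Nat.card b = Nat.card B ∧ blockRank p b = blockRank p B ∧
      ∀ η ∈ b, ∀ η' ∈ b, (∃ i j, d i η ≠ d j η) → (∃ i j, d i η' ≠ d j η') → ε η = ε η' := by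
  obtain ⟨θ, δ, δ₀, hθ, hθB, hδ₀, hδ, hcard, hrank, hcθ, hcX⟩ := K.exists_structure hM hB hl
  obtain ⟨θ', δ', δ₀', hθ', hθb, hδ₀', hδ', hcard', hrank', hdθ, hdX⟩ := K'.exists_structure hM hb hl'
  set X := B \ Set.range θ
  set X' := b \ Set.range θ'
  obtain ⟨σ⟩ : Nonempty (X' ≃ X) :=
    ⟨(Finite.equivFinOfCardEq (card_sdiff_range b θ' hθ' hθb hcard')).trans
      (Finite.equivFinOfCardEq (card_sdiff_range B θ hθ hθB hcard)).symm⟩
  obtain ⟨χ₁, hχ₁⟩ := IsPBlock.nonempty hB
  let I : IrrCharacter H → IrrCharacter G := fun η =>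
    if h : ∃ j, θ' j = η then θ h.choose else if h' : η ∈ X' then (σ ⟨η, h'⟩).1 else χ₁
  let ε : IrrCharacter H → ℤ := fun η =>
    if ∃ j, θ' j = η then δ₀ * δ₀' else δ (I η) * δ' η
  have hIθ : ∀ j, I (θ' j) = θ j := fun j => by
    have h : ∃ i, θ' i = θ' j := ⟨j, rfl⟩
    simp only [I, dif_pos h]
    exact congrArg θ (hθ' h.choose_spec)
  have hIX : ∀ η (h : η ∈ X'), I η = (σ ⟨η, h⟩).1 := fun η h => by
    simp only [I, dif_neg (show ¬ ∃ j, θ' j = η from fun ⟨j, hj⟩ => h.2 ⟨j, hj⟩), dif_pos h]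
  have hεθ : ∀ j, ε (θ' j) = δ₀ * δ₀' := fun j => if_pos ⟨j, rfl⟩
  have hεX : ∀ η ∈ X', ε η = δ (I η) * δ' η := fun η h =>
    if_neg (show ¬ ∃ j, θ' j = η from fun ⟨j, hj⟩ => h.2 ⟨j, hj⟩)
  have hsplit : ∀ η ∈ b, (∃ j, θ' j = η) ∨ η ∈ X' := fun η h => by
    by_cases hj : ∃ j, θ' j = η
    · exact Or.inl hj
    · exact Or.inr ⟨h, hj⟩
  have hsgn : ∀ {u v : ℤ}, (u = 1 ∨ u = -1) → (v = 1 ∨ v = -1) → (u * v = 1 ∨ u * v = -1) := by
    rintro u v (rfl | rfl) (rfl | rfl) <;> simp
  refine ⟨I, ε, ⟨⟨?_, ?_, ?_⟩, ?_, ?_⟩, by rw [hcard, hcard'], by rw [hrank, hrank'],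
    fun η hη η' hη' hne hne' => ?_⟩
  · intro η hη
    rcases hsplit η hη with ⟨j, rfl⟩ | h
    · rw [hIθ]; exact hθB j
    · rw [hIX η h]; exact (σ ⟨η, h⟩).2.1
  · intro η hη η' hη' he
    rcases hsplit η hη with ⟨j, rfl⟩ | h <;> rcases hsplit η' hη' with ⟨j', rfl⟩ | h'
    · rw [hIθ, hIθ] at he
      exact congrArg θ' (hθ he)
    · rw [hIθ, hIX η' h'] at he
      exact absurd ⟨j, he⟩ (σ ⟨η', h'⟩).2.2
    · rw [hIθ, hIX η h] at he
      exact absurd ⟨j', he.symm⟩ (σ ⟨η, h⟩).2.2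
    · rw [hIX η h, hIX η' h'] at he
      exact congrArg Subtype.val (σ.injective (Subtype.ext he))
  · intro χ hχ
    by_cases hj : ∃ j, θ j = χ
    · obtain ⟨j, rfl⟩ := hj
      exact ⟨θ' j, hθb j, hIθ j⟩
    · refine ⟨(σ.symm ⟨χ, hχ, hj⟩).1, (σ.symm ⟨χ, hχ, hj⟩).2.1, ?_⟩
      rw [hIX _ (σ.symm ⟨χ, hχ, hj⟩).2, Equiv.apply_symm_apply]
  · intro η hη
    rcases hsplit η hη with ⟨j, rfl⟩ | h
    · rw [hεθ]; exact hsgn hδ₀ hδ₀'
    · rw [hεX η h]; exact hsgn (hδ _) (hδ' _)
  · intro η hη j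
    rcases hsplit η hη with ⟨i, rfl⟩ | h
    · rw [hIθ, hεθ, hcθ, hdθ]
      split_ifs
      · rcases hδ₀' with h' | h' <;> rw [h'] <;> ring
      · ring
    · rw [hεX η h, hdX η hη (fun i hi => h.2 ⟨i, hi⟩), hcX (I η) ?_ ?_]
      · rcases hδ' η with h' | h' <;> rw [h'] <;> ring
      · rw [hIX η h]; exact (σ ⟨η, h⟩).2.1
      · intro i hi
        rw [hIX η h] at hi
        exact (σ ⟨η, h⟩).2.2 ⟨i, hi⟩
  · have key : ∀ η ∈ b, (∃ i j, d i η ≠ d j η) → ε η = δ₀ * δ₀' := by
      rintro η hη ⟨i, j, hne⟩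
      rcases hsplit η hη with ⟨k, rfl⟩ | h
      · exact hεθ k
      · exact absurd (by rw [hdX η hη (fun i hi => h.2 ⟨i, hi⟩) i, hdX η hη (fun i hi => h.2 ⟨i, hi⟩) j]) hne
    rw [key η hη hne, key η' hη' hne']

namespace Matched

variable {I : IrrCharacter H → IrrCharacter G} {ε : IrrCharacter H → ℤ}
  (Φ : Matched B b c d I ε) (K : Core p B a e t c) (K' : Core p b a e t d)
include Φ

theorem sq_sign {η : IrrCharacter H} (hη : η ∈ b) : (ε η : ℂ) * ε η = 1 := by
  rcases Φ.sign η hη with h | h <;> simp [h]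

theorem kernel_eq_sum_image (x : G) (y : H) :
    signedBijectionKernel b I ε x y =
      ∑ η ∈ (Set.toFinite b).toFinset, (ε η : ℂ) * (I η : G → ℂ) x * (η : H → ℂ) y :=
  finsum_mem_eq_finite_toFinset_sum _ _

include K K'

/-- The pairing at a singular element of `G`. -/
theorem kernel_of_singular {x : G} (hx : p ∣ orderOf x) (y : H) :
    signedBijectionKernel b I ε x y = ∑ j, gam (c j) x *
      (gam (d j) y - (e : ℂ) / (p : ℂ) ^ a * ∑ i, gam (d i) y) := by
  rw [Φ.kernel_eq_sum_image]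
  have hgam : ∀ j, gam (d j) y = ∑ η ∈ (Set.toFinite b).toFinset, (d j η : ℂ) * (η : H → ℂ) y :=
    fun j => (Finset.sum_subset (Finset.subset_univ _) fun η _ hη => by
      rw [K'.support j η fun h => hη ((Set.Finite.mem_toFinset _).2 h), Int.cast_zero, zero_mul]).symm
  calc ∑ η ∈ (Set.toFinite b).toFinset, (ε η : ℂ) * (I η : G → ℂ) x * (η : H → ℂ) y
      = ∑ η ∈ (Set.toFinite b).toFinset, ∑ j, gam (c j) x *
          (((d j η : ℂ) - (e : ℂ) / (p : ℂ) ^ a * ∑ i, (d i η : ℂ)) * (η : H → ℂ) y) := by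
        refine Finset.sum_congr rfl fun η hη => ?_
        have hη' := (Set.Finite.mem_toFinset _).1 hη
        rw [K.singular (I η) (Φ.bij.mapsTo hη') x hx]
        simp only [Φ.coef η hη', Int.cast_mul, ← Finset.mul_sum, Finset.sum_mul, mul_left_comm _ (ε η : ℂ),
          ← mul_sub]
        rw [Finset.mul_sum, Finset.sum_mul]
        refine Finset.sum_congr rfl fun j _ => ?_
        linear_combination (gam (c j) x * ((d j η : ℂ) - (e : ℂ) / (p : ℂ) ^ a * ∑ i, (d i η : ℂ)) *
          (η : H → ℂ) y) * Φ.sq_sign hη'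
    _ = _ := by
        rw [Finset.sum_comm]
        refine Finset.sum_congr rfl fun j _ => ?_
        rw [← Finset.mul_sum]
        congr 1
        simp only [hgam, sub_mul, Finset.sum_sub_distrib, mul_assoc, ← Finset.mul_sum, Finset.sum_mul]
        rw [Finset.sum_comm]

/-- A regular element of `H` and a singular element of `G`. -/
theorem kernel_eq_zero_left {x : G} (hx : p ∣ orderOf x) {y : H} (hy : ¬ p ∣ orderOf y) :
    signedBijectionKernel b I ε x y = 0 := by
  rw [Φ.kernel_of_singular K K' hx y]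
  simp [fun j => K'.regular j y hy]

/-- A singular element of `H` and a regular element of `G`. -/
theorem kernel_eq_zero_right {x : G} (hx : ¬ p ∣ orderOf x) {y : H} (hy : p ∣ orderOf y) :
    signedBijectionKernel b I ε x y = 0 := by
  rw [Φ.kernel_eq_sum_image]
  have hgam : ∀ j, gam (c j) x =
      ∑ η ∈ (Set.toFinite b).toFinset, (c j (I η) : ℂ) * (I η : G → ℂ) x := fun j => by
    rw [gam, ← Finset.sum_subset (Finset.subset_univ ((Set.toFinite B).toFinset)) fun χ _ hχ => by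
      rw [K.support j χ fun h => hχ ((Set.Finite.mem_toFinset _).2 h), Int.cast_zero, zero_mul]]
    refine (Finset.sum_bij (fun η _ => I η)
      (fun η hη => (Set.Finite.mem_toFinset _).2 (Φ.bij.mapsTo ((Set.Finite.mem_toFinset _).1 hη)))
      (fun η hη η' hη' he => Φ.bij.injOn ((Set.Finite.mem_toFinset _).1 hη)
        ((Set.Finite.mem_toFinset _).1 hη') he)
      (fun χ hχ => ?_) fun η _ => rfl).symm
    obtain ⟨η, hη, rfl⟩ := Φ.bij.surjOn ((Set.Finite.mem_toFinset _).1 hχ)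
    exact ⟨η, (Set.Finite.mem_toFinset _).2 hη, rfl⟩
  calc ∑ η ∈ (Set.toFinite b).toFinset, (ε η : ℂ) * (I η : G → ℂ) x * (η : H → ℂ) y
      = ∑ η ∈ (Set.toFinite b).toFinset, ∑ j, gam (d j) y *
          (((c j (I η) : ℂ) - (e : ℂ) / (p : ℂ) ^ a * ∑ i, (c i (I η) : ℂ)) * (I η : G → ℂ) x) := by
        refine Finset.sum_congr rfl fun η hη => ?_
        have hη' := (Set.Finite.mem_toFinset _).1 hη
        rw [K'.singular η hη' y hy, Finset.mul_sum]
        refine Finset.sum_congr rfl fun j _ => ?_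
        simp only [Φ.coef η hη', Int.cast_mul, ← Finset.mul_sum]
        ring
    _ = 0 := by
        rw [Finset.sum_comm]
        refine Finset.sum_eq_zero fun j _ => ?_
        rw [← Finset.mul_sum]
        refine mul_eq_zero_of_right _ ?_
        simp only [sub_mul, Finset.sum_sub_distrib, mul_assoc, ← Finset.mul_sum, Finset.sum_mul]
        rw [← hgam, Finset.sum_comm, Finset.sum_congr rfl fun i _ => (hgam i).symm]
        simp [fun i => K.regular i x hx]

/-- **Perfectness** follows from the divisibility at two singular elements. -/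
theorem isPerfectIsometry (hM : IsPModular p M)
    (hdiv : ∀ x y, p ∣ orderOf x → p ∣ orderOf y →
      signedBijectionKernel b I ε x y / (Nat.card (Subgroup.centralizer ({x} : Set G)) : ℂ) ∈ localRing M ∧
      signedBijectionKernel b I ε x y / (Nat.card (Subgroup.centralizer ({y} : Set H)) : ℂ) ∈ localRing M) :
    IsPerfectIsometry p M b B I ε := by
  refine ⟨Φ.bij, Φ.sign, fun x y => ?_⟩
  by_cases hx : p ∣ orderOf x <;> by_cases hy : p ∣ orderOf y
  · exact ⟨(hdiv x y hx hy).1, (hdiv x y hx hy).2,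
      Or.inl (by simp [IsPRegular, hx, hy])⟩
  · have h := Φ.kernel_eq_zero_left K K' hx hy
    simp only [h, zero_div]
    exact ⟨zero_mem (localRing M), zero_mem (localRing M), Or.inr trivial⟩
  · have h := Φ.kernel_eq_zero_right K K' hx hy
    simp only [h, zero_div]
    exact ⟨zero_mem (localRing M), zero_mem (localRing M), Or.inr trivial⟩
  refine ⟨?_, ?_, Or.inl (iff_of_true hx hy)⟩
  · have : Nonempty (IrrCharacter H) := ⟨trivChar H⟩
    let Iinv := Function.invFunOn I b
    let A : IrrCharacter G → localRing M := fun χ =>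
      ⟨(ε (Iinv χ) : ℂ) * (Iinv χ : H → ℂ) y, mul_mem (intCast_mem _ _)
        (mem_localRing_of_isIntegral (IsChar.isIntegral (IsIrr.isCharacter (Iinv χ).2) y))⟩
    have hA : ∀ x' : G, ∑ χ ∈ (Set.toFinite B).toFinset, (A χ : ℂ) * (χ : G → ℂ) x' =
        signedBijectionKernel b I ε x' y := fun x' => by
      rw [Φ.kernel_eq_sum_image]
      refine (Finset.sum_bij (fun η _ => I η)
        (fun η hη => (Set.Finite.mem_toFinset _).2 (Φ.bij.mapsTo ((Set.Finite.mem_toFinset _).1 hη)))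
        (fun η hη η' hη' he => Φ.bij.injOn ((Set.Finite.mem_toFinset _).1 hη)
          ((Set.Finite.mem_toFinset _).1 hη') he)
        (fun χ hχ => ?_) fun η hη => ?_).symm
      · obtain ⟨η, hη, rfl⟩ := Φ.bij.surjOn ((Set.Finite.mem_toFinset _).1 hχ)
        exact ⟨η, (Set.Finite.mem_toFinset _).2 hη, rfl⟩
      · simp only [A, Iinv, Φ.bij.injOn.leftInvOn_invFunOn ((Set.Finite.mem_toFinset _).1 hη)]
        ring
    rw [← hA]
    exact CfsgLib.KleinIso.div_centralizer_of_vanish hM _ A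
      (fun x' hx' => (hA x').trans (Φ.kernel_eq_zero_left K K' hx' hy)) hx
  · let A : IrrCharacter H → localRing M := fun η =>
      ⟨(ε η : ℂ) * (I η : G → ℂ) x, mul_mem (intCast_mem _ _)
        (mem_localRing_of_isIntegral (IsChar.isIntegral (IsIrr.isCharacter (I η).2) x))⟩
    have hA : ∀ y' : H, ∑ η ∈ (Set.toFinite b).toFinset, (A η : ℂ) * (η : H → ℂ) y' =
        signedBijectionKernel b I ε x y' := fun y' => by
      rw [Φ.kernel_eq_sum_image]
    rw [← hA]
    exact CfsgLib.KleinIso.div_centralizer_of_vanish hM _ A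
      (fun y' hy' => (hA y').trans (Φ.kernel_eq_zero_right K K' hx hy')) hy

end Matched

end CfsgLib.Blocks.Cyclic
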