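import Cfsg.Agent.Lib.Blocks.Cyclic.Setup
import Cfsg.Agent.Lib.Blocks.ExtendedFirst

/-!
# A block of a subgroup containing the centralizer of a cyclic defect group and the block it induces
-/

set_option autoImplicit false

namespace CfsgLib.Blocks.Cyclic

open Cfsg MonoidAlgebra CfsgLib.Blocks CfsgLib.Pairs

variable {G : Type*} [Group G] [Fintype G] {M : Ideal AlgInt} [M.IsPrime] {p : ℕ} [Fact p.Prime]

/-- The data of the induced block, with the same inertial index. -/
theorem Setup.exists_up {P H : Subgroup G} [Fintype H] (hPH : P ≤ H)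
    (hCH : Subgroup.centralizer (P : Set G) ≤ H) (hNH : Subgroup.normalizer (P : Set G) ≤ H)
    {b : Set (IrrCharacter H)} {B : Set (IrrCharacter G)} (hbB : IsInducedBlock M H b B)
    (hD : IsDefectGroup p M B P) (hP1 : P ≠ ⊥)
    {c₀ : Set (IrrCharacter (Subgroup.centralizer ((P.subgroupOf H : Subgroup H) : Set H)))}
    (S : Setup p M b (P.subgroupOf H) c₀) :
    ∃ c, Setup p M B P c ∧ (Subgroup.centralizer (P : Set G)).relIndex (pairStab P c) =
      (Subgroup.centralizer ((P.subgroupOf H : Subgroup H) : Set H)).relIndex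
        (pairStab (P.subgroupOf H) c₀) := by
  classical
  obtain ⟨⟨R, c⟩, hb⟩ := exists_samePair_up (K := H) (a := ⟨P.subgroupOf H, c₀⟩)
    (by rw [Subgroup.map_subgroupOf_eq_of_le hPH]; exact hCH)
  obtain rfl : R = P := hb.1.symm.trans (Subgroup.map_subgroupOf_eq_of_le hPH)
  have hcyc : IsCyclic R := by
    have := S.cyclic
    exact isCyclic_of_surjective _ (Subgroup.subgroupOfEquivOfLe hPH).surjective
  have hc : IsBrauerPair p M R c := hb.brauerPair_iff.1 S.isMaximal.1.1
  refine ⟨c, ⟨S.modular, hbB.2.1, hD, hP1, hcyc,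
    isInducedBlock_iff.2 ⟨hc.2, hbB.2.1, fun ξ hξ χ hχ z hz => ?_⟩⟩, ?_⟩
  · obtain ⟨-, φ, hφ, hm⟩ := hb
    have hξ' : mapIrr φ ξ ∈ c₀ := by
      have h : mapIrr φ ξ ∈ mapBlock φ c := ⟨ξ, hξ, rfl⟩
      have hm' : mapBlock φ c = c₀ := hm
      rwa [hm'] at h
    obtain ⟨η, hη⟩ := IsPBlock.nonempty hbB.1
    rw [← (isInducedBlock_iff.1 hbB).2.2 η hη χ hχ z hz,
      ← (isInducedBlock_iff.1 S.induced).2.2 _ hξ' η hη _ (isCentralElt_resElt _ hz)]
    exact (omegaBar_pullEquiv φ ξ (isCentralElt_resElt _ (isCentralElt_resElt _ hz)) fun x => by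
      rw [coeff_resElt, coeff_resElt, coeff_resElt, hφ]).symm
  · have hstab : pairStab (R.subgroupOf H) c₀ = (pairStab R c).subgroupOf H := by
      ext k
      rw [Subgroup.mem_subgroupOf, mem_pairStab_iff_conjPair, mem_pairStab_iff_conjPair]
      have hk := hb.conj k
      exact ⟨fun h => (h ▸ hk).unique hb, fun h => (h ▸ hk).unique_down hb⟩
    have hcent : Subgroup.centralizer ((R.subgroupOf H : Subgroup H) : Set H) =
        (Subgroup.centralizer (R : Set G)).subgroupOf H := by
      ext k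
      rw [Subgroup.mem_subgroupOf, Subgroup.mem_centralizer_iff, Subgroup.mem_centralizer_iff]
      exact ⟨fun h u hu => congrArg Subtype.val (h ⟨u, hPH hu⟩ hu),
        fun h u hu => Subtype.ext (h u hu)⟩
    rw [hstab, hcent, Subgroup.relIndex_subgroupOf ((pairStab_le_normalizer R c).trans hNH)]

end CfsgLib.Blocks.Cyclic
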