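import Mathlib

/-!
# Algebras Morita equivalent to a truncated polynomial algebra

`f` is a central idempotent, `ε` a full idempotent of its component and `X` a central element such
that the corner at `ε` is spanned by the powers of `X`.
-/

set_option autoImplicit false

namespace CfsgLib.Blocks.Cyclic

/-- A component with corner a truncated polynomial algebra in the central element `X`. -/
structure LocalAlg {k A : Type*} [Field k] [Ring A] [Algebra k A] (q : ℕ) (f X ε : A) : Prop where
  two_le : 2 ≤ q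
  central_f : ∀ a, Commute f a
  idem_f : f * f = f
  central_X : ∀ a, Commute X a
  X_mul_f : X * f = X
  X_pow : X ^ q = 0
  idem : ε * ε = ε
  eps_mul_f : ε * f = ε
  corner : ∀ a, ∃ c : Fin q → k, ε * a * ε = ∑ i, c i • (X ^ (i : ℕ) * ε)
  full : ∃ (m : ℕ) (u v : Fin m → A), f = ∑ j, u j * ε * v j
  top : X ^ (q - 1) * ε ≠ 0

namespace LocalAlg

variable {k A : Type*} [Field k] [Ring A] [Algebra k A] {q : ℕ} {f X ε : A}
  (h : LocalAlg (k := k) q f X ε)
include h

theorem f_mul_eps : f * ε = ε := (h.central_f ε).eq.trans h.eps_mul_f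

theorem central_pow (n : ℕ) (a : A) : Commute (X ^ n) a := (h.central_X a).pow_left n

theorem pow_mul_f {n : ℕ} (hn : 1 ≤ n) : X ^ n * f = X ^ n := by
  obtain ⟨n, rfl⟩ := Nat.exists_eq_add_of_le' hn
  rw [pow_succ, mul_assoc, h.X_mul_f]

theorem pow_eq_zero_of_le {n : ℕ} (hn : q ≤ n) : X ^ n = 0 := by
  rw [← Nat.add_sub_cancel' hn, pow_add, h.X_pow, zero_mul]

theorem top_mul (n : ℕ) : X ^ (q - 1) * X ^ n = if n = 0 then X ^ (q - 1) else 0 := by
  split_ifs with hn
  · rw [hn, pow_zero, mul_one]
  · rw [← pow_add, h.pow_eq_zero_of_le (by have := h.two_le; omega)]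

/-- The corner coefficients of an element killed by `X ^ (q - 1)`. -/
theorem coeff_zero_of_top {c : Fin q → k}
    (h0 : X ^ (q - 1) * ∑ i, c i • (X ^ (i : ℕ) * ε) = 0) {i : Fin q} (hi : (i : ℕ) = 0) :
    c i = 0 := by
  rw [Finset.mul_sum, Finset.sum_eq_single i] at h0
  · rw [mul_smul_comm, ← mul_assoc, h.top_mul, if_pos hi] at h0
    exact (smul_eq_zero.1 h0).resolve_right h.top
  · intro j _ hj
    rw [mul_smul_comm, ← mul_assoc, h.top_mul, if_neg (fun e => hj (Fin.ext (e.trans hi.symm))),
      zero_mul, smul_zero]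
  · simp

/-- Elements of the component killed by `X` are multiples of `X ^ (q - 1)`. -/
theorem exists_of_X_mul_eq_zero {a : A} (ha : f * a = a) (hX : X * a = 0) :
    ∃ y, a = X ^ (q - 1) * y := by
  obtain ⟨m, u, v, hf⟩ := h.full
  have hcor : ∀ i j, ∃ r : k, ε * (v i * a * u j) * ε = r • (X ^ (q - 1) * ε) := by
    intro i j
    obtain ⟨c, hc⟩ := h.corner (v i * a * u j)
    have h0 : ∀ n, 1 ≤ n → X ^ n * (ε * (v i * a * u j) * ε) = 0 := by
      intro n hn
      have h1 : X ^ n * a = 0 := by
        obtain ⟨n, rfl⟩ := Nat.exists_eq_add_of_le' hn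
        rw [pow_succ, mul_assoc, hX, mul_zero]
      rw [show X ^ n * (ε * (v i * a * u j) * ε) = (X ^ n * (ε * v i)) * a * (u j * ε) by
        simp only [mul_assoc], (h.central_pow n _).eq, mul_assoc (ε * v i), h1, mul_zero, zero_mul]
    -- the lower coefficients vanish, inductively
    have hlow : ∀ n (hn : n < q), n < q - 1 → c ⟨n, hn⟩ = 0 := by
      intro n
      induction n using Nat.strong_induction_on with
      | _ n ih =>
        intro hn hn1
        have h2 := h0 (q - 1 - n) (by omega)
        rw [hc, Finset.mul_sum, Finset.sum_eq_single (⟨n, hn⟩ : Fin q)] at h2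
        · rw [mul_smul_comm, ← mul_assoc, ← pow_add, Nat.sub_add_cancel (by omega)] at h2
          exact (smul_eq_zero.1 h2).resolve_right h.top
        · intro l _ hl
          have hl' : (l : ℕ) ≠ n := fun e => hl (Fin.ext e)
          rcases lt_or_gt_of_ne hl' with hlt | hgt
          · rw [show c l = c ⟨(l : ℕ), l.2⟩ from rfl, ih _ hlt l.2 (by omega)]; simp
          · rw [mul_smul_comm, ← mul_assoc, ← pow_add, h.pow_eq_zero_of_le (by omega), zero_mul,
              smul_zero]
        · simp
    have h2 := h.two_le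
    refine ⟨c ⟨q - 1, by omega⟩, ?_⟩
    rw [hc, Finset.sum_eq_single (⟨q - 1, by omega⟩ : Fin q)]
    · intro l _ hl
      have : (l : ℕ) ≠ q - 1 := fun e => hl (Fin.ext e)
      rw [show c l = c ⟨(l : ℕ), l.2⟩ from rfl, hlow _ l.2 (by omega), zero_smul]
    · simp
  choose r hr using hcor
  refine ⟨∑ i, ∑ j, r i j • (u i * ε * v j), ?_⟩
  have he : a = f * a * f := by rw [ha, ← (h.central_f a).eq, ha]
  conv_lhs => rw [he, hf, Finset.sum_mul, Finset.sum_mul]
  rw [Finset.mul_sum]
  refine Finset.sum_congr rfl fun i _ => ?_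
  rw [Finset.mul_sum, Finset.mul_sum]
  refine Finset.sum_congr rfl fun j _ => ?_
  rw [show u i * ε * v i * a * (u j * ε * v j) = u i * (ε * (v i * a * u j) * ε) * v j by
    simp only [mul_assoc], hr, mul_smul_comm, smul_mul_assoc, mul_smul_comm]
  congr 1
  rw [← mul_assoc (u i), ← (h.central_pow (q - 1) (u i)).eq]
  simp only [mul_assoc]

/-- Central nilpotent elements of the component are multiples of `X`. -/
theorem exists_of_nilpotent {y : A} (hy : ∀ a, Commute y a) (hyf : y * f = y) (hn : IsNilpotent y) :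
    ∃ w, y = X * w := by
  obtain ⟨m, u, v, hf⟩ := h.full
  obtain ⟨c, hc⟩ := h.corner y
  have hye : ε * y * ε = y * ε := by rw [← (hy ε).eq, mul_assoc, h.idem]
  rw [hye] at hc
  have h2 := h.two_le
  set i₀ : Fin q := ⟨0, by omega⟩ with hi₀
  have htop : ∀ n : ℕ, X ^ (q - 1) * (y ^ n * ε) = c i₀ ^ n • (X ^ (q - 1) * ε) := by
    intro n
    induction n with
    | zero => simp
    | succ n ih =>
      rw [pow_succ', mul_assoc y, ← mul_assoc, (h.central_pow (q - 1) y).eq, mul_assoc, ih,
        mul_smul_comm, ← mul_assoc, ← (h.central_pow (q - 1) y).eq, mul_assoc, hc, Finset.mul_sum,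
        Finset.sum_eq_single i₀]
      · rw [mul_smul_comm, ← mul_assoc, h.top_mul, if_pos (by simp [i₀]), smul_smul, pow_succ]
      · intro j _ hj
        rw [mul_smul_comm, ← mul_assoc, h.top_mul,
          if_neg (fun e => hj (Fin.ext (e.trans (by simp [i₀])))), zero_mul, smul_zero]
      · simp
  obtain ⟨n, hn⟩ := hn
  have hc0 : c i₀ = 0 := by
    have := htop n
    rw [hn, zero_mul, mul_zero, eq_comm, smul_eq_zero] at this
    exact eq_zero_of_pow_eq_zero (this.resolve_right h.top)
  set w : A := ∑ i : Fin q, c i • (X ^ ((i : ℕ) - 1) * ε)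
  have hw : y * ε = X * w := by
    rw [hc, Finset.mul_sum]
    refine Finset.sum_congr rfl fun i _ => ?_
    by_cases hi : i = i₀
    · rw [hi, hc0, zero_smul, zero_smul, mul_zero]
    · rw [mul_smul_comm, ← mul_assoc, ← pow_succ',
        Nat.sub_add_cancel (Nat.one_le_iff_ne_zero.2 fun e => hi (Fin.ext (e.trans (by simp [i₀]))))]
  refine ⟨∑ j, u j * w * v j, ?_⟩
  conv_lhs => rw [← hyf, hf, Finset.mul_sum]
  rw [Finset.mul_sum]
  refine Finset.sum_congr rfl fun j _ => ?_
  rw [← mul_assoc, ← mul_assoc, (hy (u j)).eq, mul_assoc (u j), hw, ← mul_assoc (u j),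
    ← (h.central_X (u j)).eq]
  simp only [mul_assoc]

/-- Automorphisms fixing the component send `X` to multiples of `X`. -/
theorem exists_map_X (α : A ≃ₐ[k] A) (hα : α f = f) : ∃ w, α X = X * w := by
  refine h.exists_of_nilpotent (fun a => ?_) ?_ ?_
  · have := (h.central_X (α.symm a)).map α.toAlgHom.toRingHom
    simpa using this
  · conv_lhs => rw [← hα, ← map_mul, h.X_mul_f]
  · exact ⟨q, by rw [← map_pow, h.X_pow, map_zero]⟩

end LocalAlg

end CfsgLib.Blocks.Cyclic
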