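import Cfsg.Agent.Lib.Blocks.Cyclic.Operators
import Cfsg.Agent.Lib.Blocks.Cyclic.LocalAlg
import Cfsg.Agent.Lib.Blocks.Brauer.Eigen
import Cfsg.Agent.Lib.Pairs.Conj
import Mathlib.RingTheory.RootsOfUnity.PrimitiveRoots
import Mathlib.LinearAlgebra.Matrix.NonsingularInverse

/-!
# The characters of a local component fixed by an element of the inertial group

An automorphism moving the elements of order `p` acts on the centre of the component as on
`k[X]/(X^q)` with eigenvalues the powers of a nontrivial root of unity, so exactly one character is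
fixed.
-/

set_option autoImplicit false

namespace CfsgLib.Blocks.Cyclic

open Cfsg CfsgLib.Blocks CfsgLib.Pairs CfsgLib.IBr MonoidAlgebra

theorem exists_one_add_pow {R : Type*} [Ring R] (u : R) :
    ∀ n : ℕ, ∃ s, (1 + u) ^ n = 1 + (n : R) * u + u * u * s
  | 0 => ⟨0, by simp⟩
  | n + 1 => by
    obtain ⟨s, hs⟩ := exists_one_add_pow u n
    refine ⟨(n : R) + s + u * s, ?_⟩
    rw [pow_succ', hs, Nat.cast_succ]
    have h : u * (n : R) * u = u * u * (n : R) := by
      rw [mul_assoc u (n : R) u, (Nat.cast_commute n u).eq, ← mul_assoc]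
    simp only [add_mul, mul_add, one_mul, mul_one, ← mul_assoc, h]
    abel

theorem geom_sum_eq_one {R : Type*} [CommRing R] [IsDomain R] {z : R} {p a : ℕ} (hz : z ≠ 1)
    (hzp : z ^ (p - 1) = 1) (hp : 1 ≤ p) : ∑ i ∈ Finset.range (p ^ a), z ^ i = 1 := by
  have hz1 : z ^ p = z := by rw [← Nat.sub_add_cancel hp, pow_succ, hzp, one_mul]
  have hza : ∀ b, z ^ p ^ b = z := fun b => by
    induction b with
    | zero => simp
    | succ b ih => rw [pow_succ, pow_mul, ih, hz1]
  refine mul_right_cancel₀ (sub_ne_zero.2 hz) ?_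
  rw [geom_sum_mul, hza, one_mul]

variable {M : Ideal AlgInt} [M.IsPrime]

theorem exists_root_lift {n : ℕ} (hn : n ≠ 0) {x : Res M} (hx : x ^ n = 1) :
    ∃ z : localRing M, z ^ n = 1 ∧ resHom M z = x := by
  classical
  have h := Polynomial.X_pow_sub_one_eq_prod (Nat.pos_of_ne_zero hn)
    (isPrimitiveRoot_rootO M hn)
  have h2 := congrArg (fun P => Polynomial.eval₂ (resHom M) x P) h
  simp only [Polynomial.eval₂_sub, Polynomial.eval₂_X_pow, Polynomial.eval₂_one,
    Polynomial.eval₂_finsetProd, Polynomial.eval₂_X, Polynomial.eval₂_C, hx, sub_self] at h2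
  obtain ⟨z, hz, hzx⟩ := Finset.prod_eq_zero_iff.1 h2.symm
  exact ⟨z, (Polynomial.mem_nthRootsFinset (Nat.pos_of_ne_zero hn) _).1 hz, (sub_eq_zero.1 hzx).symm⟩

theorem linearIndependent_inc {G : Type*} [Group G] [Fintype G] {ι : Type*} [Fintype ι]
    {w : ι → MonoidAlgebra (localRing M) G}
    (h : LinearIndependent (Res M) fun i => red M (w i)) :
    LinearIndependent ℂ fun i => inc M (w i) := by
  classical
  let L : (ι → Res M) →ₗ[Res M] (G → Res M) :=
    Fintype.linearCombination (Res M) fun i => ((red M (w i)).coeff : G → Res M)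
  have hL : LinearMap.ker L = ⊥ := by
    rw [LinearMap.ker_eq_bot']
    intro c hc
    refine funext (Fintype.linearIndependent_iff.1 h c (MonoidAlgebra.ext (Finsupp.ext fun g => ?_)))
    have h1 := congrFun hc g
    simpa [L, Fintype.linearCombination_apply, Finset.sum_apply, MonoidAlgebra.coeff_sum] using h1
  obtain ⟨L', hL'⟩ := L.exists_leftInverse_of_injective hL
  set A : Matrix ι G (localRing M) := Matrix.of fun i g =>
    Function.surjInv IsLocalRing.residue_surjective (L' (Pi.single g 1) i)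
  set W : Matrix G ι (localRing M) := Matrix.of fun g i => (w i).coeff g
  have hAW : (A * W).map (resHom M) = 1 := by
    ext j i
    have h1 := congrFun (LinearMap.congr_fun hL' (Pi.single i 1)) j
    have h2 : L (Pi.single i 1) = ∑ g : G, (red M (w i)).coeff g • Pi.single g (1 : Res M) := by
      funext g
      simp [L, Fintype.linearCombination_apply, Finset.sum_apply, Pi.single_apply, ite_apply]
    rw [LinearMap.comp_apply, h2, map_sum, Finset.sum_apply, LinearMap.id_apply] at h1
    rw [Matrix.map_apply, Matrix.mul_apply, map_sum, Matrix.one_apply]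
    rw [Pi.single_apply] at h1
    rw [← h1]
    refine Finset.sum_congr rfl fun g _ => ?_
    rw [map_smul, Pi.smul_apply, smul_eq_mul, map_mul, mul_comm]
    congr 1
    exact Function.surjInv_eq _ _
  have hdet : (A * W).det ≠ 0 := by
    intro h0
    have h1 := RingHom.map_det (resHom M) (A * W)
    rw [h0, map_zero, RingHom.mapMatrix_apply, hAW, Matrix.det_one] at h1
    exact zero_ne_one h1
  have hdetC : ((A * W).map (localRing M).subtype).det ≠ 0 := by
    intro h0
    rw [← RingHom.mapMatrix_apply, ← RingHom.map_det] at h0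
    exact hdet (Subtype.ext h0)
  rw [Fintype.linearIndependent_iff]
  intro c hc
  have hW : (W.map (localRing M).subtype).mulVec c = 0 := by
    funext g
    have h1 := congrArg (fun y : MonoidAlgebra ℂ G => y.coeff g) hc
    simpa [W, Matrix.mulVec, dotProduct, MonoidAlgebra.coeff_sum, Finset.sum_apply, mul_comm] using h1
  refine congrFun (Matrix.eq_zero_of_mulVec_eq_zero hdetC ?_)
  rw [Matrix.map_mul, ← Matrix.mulVec_mulVec, hW, Matrix.mulVec_zero]

/-- An invertible matrix intertwining a permutation with a diagonal matrix. -/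
theorem card_fixed_eq_trace {ι J : Type*} [Fintype ι] [DecidableEq ι] [Fintype J] [DecidableEq J]
    (e : ι ≃ J) {W : Matrix ι J ℂ} (hW : LinearIndependent ℂ W.row) (π : Equiv.Perm J) {d : ι → ℂ}
    (h : ∀ i x, W i (π x) = d i * W i x) :
    (Nat.card {x : J // π x = x} : ℂ) = ∑ i, d i := by
  set W' : Matrix ι ι ℂ := Matrix.of fun i j => W i (e j)
  have hunit : IsUnit W' := by
    rw [← Matrix.linearIndependent_rows_iff_isUnit]
    rw [Fintype.linearIndependent_iff] at hW ⊢
    intro c hc
    refine hW c (funext fun x => ?_)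
    have h1 := congrFun hc (e.symm x)
    simpa [W', Matrix.row, Finset.sum_apply] using h1
  obtain ⟨U, hU⟩ := hunit
  set σ : Equiv.Perm ι := e.trans (π.trans e.symm)
  set Pm : Matrix ι ι ℂ := Matrix.of fun i j => if i = σ j then 1 else 0
  have hWP : W' * Pm = Matrix.diagonal d * W' := by
    ext i j
    rw [Matrix.diagonal_mul, Matrix.mul_apply, Finset.sum_eq_single (σ j)]
    · simp [W', Pm, σ, h]
    · intro b _ hb; simp [Pm, hb]
    · simp
  have htr : Pm.trace = ∑ i, d i := by
    rw [← Matrix.trace_diagonal d, show Pm = (↑U⁻¹ : Matrix ι ι ℂ) * (Matrix.diagonal d * W') by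
      rw [← hWP, ← mul_assoc, ← hU, Units.inv_mul, one_mul], ← mul_assoc, Matrix.trace_mul_cycle,
      ← hU, Units.mul_inv, one_mul]
  rw [← htr, Nat.card_congr ((Equiv.subtypeEquiv e (p := fun i => i = σ i) (q := fun x => π x = x)
    fun i => by simp [σ, eq_comm (a := i), e.symm_apply_eq]).symm), Nat.card_eq_fintype_card,
    Fintype.card_subtype, Matrix.trace]
  simp [Pm, Matrix.diag]

namespace LocalAlg

variable {k A : Type*} [Field k] [Ring A] [Algebra k A] {q : ℕ} {f X ε : A}
  (h : LocalAlg (k := k) q f X ε)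
include h

theorem mul_f_mul_pow {n : ℕ} (hn : 1 ≤ n) (i : ℕ) : X ^ i * f * X ^ n = X ^ (i + n) := by
  rw [mul_assoc, (h.central_f _).eq, h.pow_mul_f hn, ← pow_add]

theorem top_f : X ^ (q - 1) * f ≠ 0 := fun e => h.top (by rw [← h.f_mul_eps, ← mul_assoc, e, zero_mul])

theorem central_image (α : A ≃ₐ[k] A) (y : A) : Commute (α X) y := by
  have := (h.central_X (α.symm y)).map α.toAlgHom.toRingHom
  simpa using this

/-- The leading coefficient of the image of `X`. -/
theorem exists_lead (α : A ≃ₐ[k] A) (hα : α f = f) : ∃ (c : k) (y : A), α X = c • X + X ^ 2 * y := by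
  classical
  have h2 := h.two_le
  obtain ⟨w, hw⟩ := h.exists_map_X α hα
  obtain ⟨cc, hcc⟩ := h.corner w
  obtain ⟨n, u, v, hfull⟩ := h.full
  set i₀ : Fin q := ⟨0, by omega⟩
  set y0 := ∑ i : Fin q, if (i : ℕ) = 0 then 0 else cc i • (X ^ ((i : ℕ) - 1) * ε)
  have hsplit : ε * w * ε = cc i₀ • ε + X * y0 := by
    rw [hcc, Finset.mul_sum, ← Finset.add_sum_erase _ _ (Finset.mem_univ i₀)]
    conv_rhs => rw [← Finset.add_sum_erase _ _ (Finset.mem_univ i₀)]
    simp only [i₀, pow_zero, one_mul, if_true, mul_zero, zero_add]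
    congr 1
    refine Finset.sum_congr rfl fun i hi => ?_
    have hi0 : (i : ℕ) ≠ 0 := fun e => (Finset.mem_erase.1 hi).1 (Fin.ext e)
    rw [if_neg hi0, mul_smul_comm, ← mul_assoc, ← pow_succ', Nat.sub_add_cancel (by omega)]
  have hXε : α X * ε = cc i₀ • (X * ε) + X ^ 2 * y0 :=
    calc α X * ε = ε * (α X * ε) := by rw [← mul_assoc, ← (h.central_image α ε).eq, mul_assoc, h.idem]
      _ = ε * X * (w * ε) := by rw [hw]; simp only [mul_assoc]
      _ = X * (ε * w * ε) := by rw [← (h.central_X ε).eq]; simp only [mul_assoc]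
      _ = _ := by rw [hsplit, mul_add, mul_smul_comm, ← mul_assoc, ← pow_two]
  refine ⟨cc i₀, ∑ i, u i * y0 * v i, ?_⟩
  calc α X = α X * f := by rw [← hα, ← map_mul, h.X_mul_f]
    _ = ∑ i, u i * (α X * ε) * v i := by
        rw [hfull, Finset.mul_sum]
        exact Finset.sum_congr rfl fun i _ => by
          rw [← mul_assoc, ← mul_assoc, (h.central_image α (u i)).eq]; simp only [mul_assoc]
    _ = cc i₀ • (X * f) + X ^ 2 * ∑ i, u i * y0 * v i := by
        rw [hfull, Finset.mul_sum, Finset.mul_sum, Finset.smul_sum, ← Finset.sum_add_distrib]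
        refine Finset.sum_congr rfl fun i _ => ?_
        rw [hXε, mul_add, add_mul, mul_smul_comm, smul_mul_assoc]
        congr 1
        · congr 1
          rw [← mul_assoc (u i), ← (h.central_X (u i)).eq]
          simp only [mul_assoc]
        · rw [← mul_assoc (u i) (X ^ 2), ← (h.central_pow 2 (u i)).eq]
          simp only [mul_assoc]
    _ = _ := by rw [h.X_mul_f]

/-- The leading coefficient is the multiplier of a unit with logarithm of degree `p ^ b`. -/
theorem lead_eq {p : ℕ} [Fact p.Prime] [CharP k p] [CharP A p] {b l j : ℕ} (hq : p ^ b * 2 ≤ q)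
    (α : A ≃ₐ[k] A) (hα : α f = f) {c : k} {y : A} (hy : α X = c • X + X ^ 2 * y) {u : A}
    (hu : u * f = f * (1 + X ^ p ^ b) ^ l) (huj : α u = u ^ j) (hl : (l : k) ≠ 0) : c = j := by
  set r := p ^ b with hr
  have hr1 : 1 ≤ r := Nat.one_le_pow _ _ (Fact.out : p.Prime).pos
  have hupow : ∀ n : ℕ, u ^ n * f = f * (1 + X ^ r) ^ (l * n) := by
    intro n
    induction n with
    | zero => simp
    | succ n ih => rw [pow_succ, mul_assoc, hu, ← mul_assoc, ih, Nat.mul_succ, pow_add, mul_assoc f]
  have h1 : α (u * f) = f * (1 + (α X) ^ r) ^ l := by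
    rw [hu, map_mul, hα, map_pow, map_add, map_one, map_pow]
  have h2 : α (u * f) = f * (1 + X ^ r) ^ (l * j) := by rw [map_mul, hα, huj, hupow]
  have hXr : (α X) ^ r = c ^ r • X ^ r + X ^ (2 * r) * y ^ r := by
    have hcomm : Commute (c • X) (X ^ 2 * y) := (h.central_X _).smul_left c
    rw [hy, hr, add_pow_char_pow_of_commute p _ hcomm, smul_pow, (h.central_pow 2 y).mul_pow,
      ← pow_mul]
  obtain ⟨s1, hs1⟩ := exists_one_add_pow ((α X) ^ r) l
  obtain ⟨s2, hs2⟩ := exists_one_add_pow (X ^ r) (l * j)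
  have key := congrArg (fun t => X ^ (q - 1 - r) * t) (h1.symm.trans h2)
  simp only [hs1, hs2] at key
  have hkill : ∀ t, X ^ (q - 1 - r) * (f * (X ^ (2 * r) * t)) = 0 := fun t => by
    rw [← mul_assoc, ← mul_assoc, h.mul_f_mul_pow (by omega), h.pow_eq_zero_of_le (by omega), zero_mul]
  obtain ⟨s3, hsq⟩ : ∃ s3, (α X) ^ r * (α X) ^ r * s1 = X ^ (2 * r) * s3 := by
    have e : (α X) ^ r = X ^ r * (c ^ r • (1 : A) + X ^ r * y ^ r) := by
      rw [hXr, mul_add, mul_smul_comm, mul_one, ← mul_assoc, ← pow_add, two_mul]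
    refine ⟨(c ^ r • (1 : A) + X ^ r * y ^ r) * (c ^ r • (1 : A) + X ^ r * y ^ r) * s1, ?_⟩
    rw [e, two_mul, pow_add]
    simp only [mul_assoc]
    congr 1
    rw [← mul_assoc, ← (h.central_pow r _).eq, mul_assoc]
  rw [hsq, show X ^ r * X ^ r * s2 = X ^ (2 * r) * s2 by rw [← pow_add, two_mul]] at key
  simp only [mul_add, mul_one, hkill, add_zero, hXr] at key
  have hlin : ∀ (n : ℕ) (t : k), X ^ (q - 1 - r) * (f * ((n : A) * (t • X ^ r))) =
      ((n : k) * t) • (X ^ (q - 1) * f) := by
    intro n t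
    rw [← map_natCast (algebraMap k A) n, ← Algebra.smul_def, smul_smul, mul_smul_comm, mul_smul_comm,
      ← mul_assoc, h.mul_f_mul_pow hr1, show q - 1 - r + r = q - 1 by omega,
      h.pow_mul_f (show 1 ≤ q - 1 by omega)]
  have hkill2 : ∀ (n : ℕ), X ^ (q - 1 - r) * (f * ((n : A) * (X ^ (2 * r) * y ^ r))) = 0 := fun n => by
    rw [← mul_assoc (n : A), (Nat.cast_commute n (X ^ (2 * r))).eq, mul_assoc, hkill]
  have hlin1 := hlin (l * j) 1
  rw [one_smul] at hlin1
  rw [hlin, hkill2, add_zero, hlin1, add_right_inj, ← sub_eq_zero, ← sub_smul, smul_eq_zero,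
    Nat.cast_mul, mul_one] at key
  have h3 := mul_left_cancel₀ hl (sub_eq_zero.1 (key.resolve_right h.top_f))
  have hfr : ∀ m : ℕ, (j : k) ^ p ^ m = j := fun m => by
    induction m with
    | zero => simp
    | succ m ih => rw [pow_succ, pow_mul, ih, ← frobenius_def, map_natCast]
  have h4 : (j : k) ^ r = j := hfr b
  refine sub_eq_zero.1 (eq_zero_of_pow_eq_zero (n := r) ?_)
  rw [hr, sub_pow_char_pow, ← hr, h3, h4, sub_self]

theorem exists_iterate_X (α : A ≃ₐ[k] A) {j : k} {y : A} (hy : α X = j • X + X ^ 2 * y) :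
    ∀ n : ℕ, ∃ t, (⇑α)^[n] X = j ^ n • X + X ^ 2 * t := by
  intro n
  induction n with
  | zero => exact ⟨0, by simp⟩
  | succ n ih =>
    obtain ⟨t, ht⟩ := ih
    refine ⟨j ^ n • y + (j • (1 : A) + X * y) * (j • (1 : A) + X * y) * α t, ?_⟩
    have e : α X = X * (j • (1 : A) + X * y) := by
      rw [hy, mul_add, mul_smul_comm, mul_one, ← mul_assoc, pow_two]
    rw [Function.iterate_succ_apply', ht, map_add, map_smul, map_mul, map_pow]
    conv_lhs => rw [show (α X) ^ 2 = X ^ 2 * ((j • (1 : A) + X * y) * (j • (1 : A) + X * y)) by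
      rw [e, (h.central_X _).mul_pow, pow_two (j • (1 : A) + X * y)], hy]
    rw [smul_add, smul_smul, ← pow_succ, mul_add (X ^ 2) (j ^ n • y), mul_smul_comm, mul_assoc (X ^ 2),
      add_assoc]

theorem exists_iterate (α : A ≃ₐ[k] A) (hα : α f = f) {j : k} {y : A}
    (hy : α X = j • X + X ^ 2 * y) (n i : ℕ) :
    ∃ t, (⇑α)^[n] (X ^ i * f) = (j ^ n) ^ i • (X ^ i * f) + X ^ (i + 1) * t := by
  obtain ⟨t, ht⟩ := h.exists_iterate_X α hy n
  have hmul : ∀ a b, (⇑α)^[n] (a * b) = (⇑α)^[n] a * (⇑α)^[n] b := fun a b =>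
    Function.Semiconj₂.iterate (f := ⇑α) (op := (· * ·)) (fun a b => map_mul α a b) n a b
  induction i with
  | zero => exact ⟨0, by simp [Function.iterate_fixed hα]⟩
  | succ i ih =>
    obtain ⟨t', ht'⟩ := ih
    refine ⟨(j ^ n) ^ i • (t * f) + (j ^ n • (1 : A) + X * t) * t', ?_⟩
    rw [pow_succ' X, mul_assoc, hmul, ht, ht']
    have e : j ^ n • X + X ^ 2 * t = X * (j ^ n • (1 : A) + X * t) := by
      rw [mul_add, mul_smul_comm, mul_one, ← mul_assoc, pow_two]
    set w := j ^ n • (1 : A) + X * t with hw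
    rw [e, mul_add]
    have e1 : X * w * (X ^ (i + 1) * t') = X ^ (i + 1 + 1) * (w * t') := by
      rw [mul_assoc, ← mul_assoc w, ← (h.central_pow (i + 1) w).eq, mul_assoc (X ^ (i + 1)),
        ← mul_assoc, ← pow_succ']
    have e2 : X * w * (X ^ i * f) = j ^ n • (X ^ (i + 1) * f) + X ^ (i + 1 + 1) * (t * f) := by
      rw [mul_assoc, ← mul_assoc w, ← (h.central_pow i w).eq, mul_assoc (X ^ i), ← mul_assoc,
        ← pow_succ', hw, add_mul, mul_add, smul_mul_assoc, one_mul, mul_smul_comm, mul_assoc X,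
        ← mul_assoc, ← pow_succ]
    rw [e1, mul_smul_comm, e2, smul_add, smul_smul, ← pow_succ, pow_succ' X (i + 1)]
    rw [mul_add (X * X ^ (i + 1)), mul_smul_comm]
    simp only [add_assoc, mul_assoc, pow_succ' X i]

end LocalAlg

variable {G : Type*} [Group G] {C : Subgroup G} [Fintype C] {p : ℕ} [Fact p.Prime]

omit [Fintype C] in
theorem isCentralElt_of_commute {k : Type*} [CommSemiring k] [Fintype C] {a : MonoidAlgebra k C}
    (ha : ∀ y, Commute (single y 1) a) : IsCentralElt a := by
  classical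
  intro x y
  have h := congrArg (fun t : MonoidAlgebra k C => t.coeff (y * x)) (ha y).eq
  simp only [coeff_mul_eq_sum, coeff_single, Finsupp.single_apply, ite_mul, one_mul, zero_mul,
    mul_ite, mul_one, mul_zero] at h
  rw [Finset.sum_ite_eq, if_pos (Finset.mem_univ _), inv_mul_cancel_left,
    Finset.sum_eq_single (y * x * y⁻¹), if_pos (by group)] at h
  · exact h.symm
  · intro b _ hb
    rw [if_neg fun e => hb (by rw [eq_inv_mul_iff_mul_eq] at e; rw [← e]; group)]
  · exact fun h0 => absurd (Finset.mem_univ _) h0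

omit [Fintype C] in
theorem conjA_iterate {k : Type*} [Field k] (g : Subgroup.normalizer (C : Set G))
    (a : MonoidAlgebra k C) : ∀ n : ℕ, conjA k C (g ^ n) a = (⇑(conjA k C g))^[n] a
  | 0 => by rw [pow_zero, conjA_one]; rfl
  | n + 1 => by rw [pow_succ', conjA_mul, conjA_iterate g a n, Function.iterate_succ_apply']

omit [Fact p.Prime] in
/-- A leading coefficient gives lifts of the powers of `X` that are eigenvectors. -/
theorem exists_eigen (hM : IsPModular p M) {f : Set (IrrCharacter C)} (hf : IsPBlock M f) {q : ℕ}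
    {X ε : MonoidAlgebra (Res M) C} (h : LocalAlg (k := Res M) q (blockIdemBar M f) X ε)
    (g : Subgroup.normalizer (C : Set G))
    (hfix : conjA (Res M) C g (blockIdemBar M f) = blockIdemBar M f) {m : ℕ} (hm : ¬ p ∣ m)
    (hgm : (g : G) ^ m ∈ C) {j : Res M} {y : MonoidAlgebra (Res M) C}
    (hy : conjA (Res M) C g X = j • X + X ^ 2 * y) {ζ : localRing M} (hζ : ζ ^ m = 1)
    (hζj : resHom M ζ = j) (i : ℕ) :
    ∃ V : MonoidAlgebra (localRing M) C, IsCentralElt V ∧
      MonoidAlgebra.domCongr (localRing M) (localRing M) (conjC C g) V = ζ ^ i • V ∧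
      V * blockIdemO M f = V ∧
      ∃ t, red M V = X ^ i * blockIdemBar M f + X ^ (i + 1) * t := by
  classical
  have hm0 : m ≠ 0 := fun e => hm (e ▸ dvd_zero p)
  set F := blockIdemBar M f with hF
  obtain ⟨b0, hb0, hb0r⟩ := exists_central_lift (M := M) (a := X ^ i * F)
    (isCentralElt_of_commute fun y' =>
      (((h.central_pow i (single y' 1)).mul_left (h.central_f (single y' 1)))).symm)
  set b := b0 * blockIdemO M f with hbdef
  have hbc : IsCentralElt b := hb0.mul (isCentralElt_blockIdemO hf)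
  have hbr : red M b = X ^ i * F := by
    rw [hbdef, map_mul, hb0r, ← blockIdemBar, ← hF, mul_assoc, h.idem_f]
  have hbf : b * blockIdemO M f = b := by rw [hbdef, mul_assoc, blockIdemO_mul_self hf]
  let S : ℕ → MonoidAlgebra (localRing M) C ≃ₐ[localRing M] MonoidAlgebra (localRing M) C :=
    fun n => MonoidAlgebra.domCongr _ _ (conjC C (g ^ n))
  have hS1 : MonoidAlgebra.domCongr (localRing M) (localRing M) (conjC C g) = S 1 := by
    simp only [S, pow_one]
  have hSr : ∀ n y', red M (S n y') = (⇑(conjA (Res M) C g))^[n] (red M y') := fun n y' => by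
    rw [← conjA_iterate]
    ext x; simp [S, conjA, coeff_domCongr]
  have hSc : ∀ n y', IsCentralElt y' → IsCentralElt (S n y') := fun n y' hy' x x' => by
    simp only [S, coeff_domCongr, map_mul, map_inv]
    exact hy' _ _
  have hSF : ∀ n, S n (blockIdemO M f) = blockIdemO M f := by
    intro n
    have hmap : ∀ n, (⇑(conjA (Res M) C g))^[n] F = F := fun n => Function.iterate_fixed hfix n
    have hidem : S n (blockIdemO M f) * S n (blockIdemO M f) = S n (blockIdemO M f) := by
      rw [← map_mul, blockIdemO_mul_self hf]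
    refine inc_injective (eq_of_omega_eq (isCentralElt_inc (hSc n _ (isCentralElt_blockIdemO hf)))
      (isCentralElt_inc (isCentralElt_blockIdemO hf)) fun χ => ?_)
    have h0 : omega (χ : C → ℂ) (inc M (S n (blockIdemO M f))) *
        omega (χ : C → ℂ) (inc M (S n (blockIdemO M f))) =
        omega (χ : C → ℂ) (inc M (S n (blockIdemO M f))) := by
      rw [← omega_mul χ (isCentralElt_inc (hSc n _ (isCentralElt_blockIdemO hf))), ← map_mul, hidem]
    have h1 : omega (χ : C → ℂ) (inc M (blockIdemO M f)) = if χ ∈ f then 1 else 0 := by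
      rw [inc_blockIdemO hf, omega_blockIdem]
    have h2 := omegaBar_red χ (hSc n _ (isCentralElt_blockIdemO hf))
    rw [hSr, ← blockIdemBar, ← hF, hmap, hF, omegaBar_blockIdemBar hf] at h2
    rw [h1]
    rcases mul_eq_zero.1 (show omega (χ : C → ℂ) (inc M (S n (blockIdemO M f))) *
        (omega (χ : C → ℂ) (inc M (S n (blockIdemO M f))) - 1) = 0 by rw [mul_sub, mul_one, h0, sub_self])
      with h3 | h3
    · split_ifs at h2 ⊢ with hχ
      · rw [show (⟨omega (χ : C → ℂ) (inc M (S n (blockIdemO M f))),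
          omega_inc_mem χ (hSc n _ (isCentralElt_blockIdemO hf))⟩ : localRing M) = 0 from
            Subtype.ext h3, map_zero] at h2
        exact absurd h2 one_ne_zero
      · exact h3
    · split_ifs at h2 ⊢ with hχ
      · exact sub_eq_zero.1 h3
      · rw [show (⟨omega (χ : C → ℂ) (inc M (S n (blockIdemO M f))),
          omega_inc_mem χ (hSc n _ (isCentralElt_blockIdemO hf))⟩ : localRing M) = 1 from
            Subtype.ext (sub_eq_zero.1 h3), map_one] at h2
        exact absurd h2 zero_ne_one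
  have hSS : ∀ n n' y', S n (S n' y') = S (n + n') y' := fun n n' y' => by
    ext x
    simp only [S, coeff_domCongr, pow_add, map_mul]
    rfl
  have hSm : ∀ y', IsCentralElt y' → S m y' = y' := fun y' hy' => by
    ext x
    simp only [S, coeff_domCongr]
    obtain ⟨x', rfl⟩ := (conjC C (g ^ m)).surjective x
    rw [MulEquiv.symm_apply_apply,
      show conjC C (g ^ m) x' = ⟨(g : G) ^ m, hgm⟩ * x' * (⟨(g : G) ^ m, hgm⟩ : C)⁻¹ from
        Subtype.ext (by rw [coe_conjC, Subgroup.coe_pow]; rfl), hy' x' _]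
  set η := ζ ^ (m - 1) with hη
  have hηζ : η * ζ = 1 := by rw [hη, ← pow_succ, Nat.sub_add_cancel (by omega), hζ]
  refine ⟨invO M m • ∑ n ∈ Finset.range m, (η ^ i) ^ n • S n b,
    (IsCentralElt.sum _ fun n _ => (hSc n _ hbc).smul _).smul _, ?_, ?_, ?_⟩
  · simp only [hS1, map_smul, map_sum, hSS]
    rw [smul_comm (ζ ^ i)]
    congr 1
    rw [Finset.smul_sum]
    obtain ⟨m', rfl⟩ := Nat.exists_eq_add_of_le' (Nat.pos_of_ne_zero hm0)
    rw [Finset.sum_range_succ, Finset.sum_range_succ' (n := m')]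
    congr 1
    · refine Finset.sum_congr rfl fun n _ => ?_
      rw [smul_smul, pow_succ' (η ^ i), ← mul_assoc, ← mul_pow, mul_comm ζ, hηζ, one_pow, one_mul,
        add_comm]
    · rw [smul_smul, pow_zero, mul_one, add_comm 1 m', hSm _ hbc,
        show S 0 b = b by ext x; simp [S, coeff_domCongr]; rfl]
      congr 1
      have : η ^ (m' + 1) = 1 := by rw [hη, ← pow_mul, mul_comm, pow_mul, hζ, one_pow]
      have h2 : (η ^ i) ^ (m' + 1) = 1 := by rw [← pow_mul, mul_comm, pow_mul, this, one_pow]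
      rw [pow_succ'] at h2
      exact (left_inv_eq_right_inv (show ζ ^ i * η ^ i = 1 by
        rw [← mul_pow, mul_comm, hηζ, one_pow]) h2).symm
  · rw [smul_mul_assoc, Finset.sum_mul]
    congr 1
    refine Finset.sum_congr rfl fun n _ => ?_
    conv_lhs => rw [smul_mul_assoc, ← hSF n, ← map_mul, hbf]
  · choose t ht using fun n => h.exists_iterate (conjA (Res M) C g) hfix hy n i
    have hred : ∀ (s : localRing M) (y' : MonoidAlgebra (localRing M) C),
        red M (s • y') = resHom M s • red M y' := fun s y' => by ext x; simp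
    refine ⟨resHom M (invO M m) • ∑ n ∈ Finset.range m, resHom M ((η ^ i) ^ n) • t n, ?_⟩
    have hone : ∀ n : ℕ, resHom M ((η ^ i) ^ n) * (j ^ n) ^ i = 1 := fun n => by
      rw [← hζj, map_pow, map_pow, ← pow_mul, ← pow_mul, mul_comm n, ← mul_pow, ← map_mul, hηζ,
        map_one, one_pow]
    rw [hred, map_sum]
    simp only [hred, hSr, hbr, ht, smul_add, Finset.sum_add_distrib, smul_smul, hone, one_smul]
    rw [mul_smul_comm, Finset.mul_sum]
    simp only [mul_smul_comm]
    congr 1
    rw [Finset.sum_const, Finset.card_range, ← Nat.cast_smul_eq_nsmul (Res M), smul_smul,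
      ← map_natCast (resHom M) m, ← map_mul, invO_mul_natCast hM hm, map_one, one_smul]



/-- Exactly one character of the component is fixed. -/
theorem card_fixed_eq_one (hM : IsPModular p M) {f : Set (IrrCharacter C)} (hf : IsPBlock M f)
    {a : ℕ} (ha : 1 ≤ a) {X ε : MonoidAlgebra (Res M) C}
    (h : LocalAlg (k := Res M) (p ^ a) (blockIdemBar M f) X ε) (hcard : Nat.card f = p ^ a)
    (g : Subgroup.normalizer (C : Set G))
    (hfix : conjA (Res M) C g (blockIdemBar M f) = blockIdemBar M f)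
    (hmem : ∀ χ ∈ f, mapIrr (conjC C g) χ ∈ f)
    {m : ℕ} (hm : m ∣ p - 1) (hgm : (g : G) ^ m ∈ C)
    {z : C} {l j : ℕ} (hl : ¬ p ∣ l)
    (hz : single z 1 * blockIdemBar M f = blockIdemBar M f * (1 + X ^ p ^ (a - 1)) ^ l)
    (hzj : conjC C g z = z ^ j) (hj1 : (j : Res M) ≠ 1) (hjm : (j : Res M) ^ m = 1) :
    Nat.card {χ : f // mapIrr (conjC C g) χ.1 = χ.1} = 1 := by
  classical
  have := charP_residueField hM
  have : CharP (MonoidAlgebra (Res M) C) p :=
    charP_of_injective_algebraMap (algebraMap (Res M) (MonoidAlgebra (Res M) C)).injective p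
  have hp := (Fact.out : p.Prime)
  have hp2 := hp.two_le
  have hm0 : m ≠ 0 := fun e => by subst e; rw [zero_dvd_iff] at hm; omega
  have hpm : ¬ p ∣ m := fun e => by
    have := Nat.le_of_dvd (show 0 < p - 1 by omega) (e.trans hm); omega
  have hq : p ^ (a - 1) * 2 ≤ p ^ a :=
    calc p ^ (a - 1) * 2 ≤ p ^ (a - 1) * p := Nat.mul_le_mul_left _ hp2
      _ = p ^ a := by rw [← pow_succ, Nat.sub_add_cancel ha]
  obtain ⟨c, y, hy⟩ := h.exists_lead _ hfix
  have hzp : conjA (Res M) C g (single z 1) = single z 1 ^ j := by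
    rw [conjA_single, hzj, single_pow, one_pow]
  obtain rfl := h.lead_eq hq _ hfix hy hz hzp
    fun e => hl ((CharP.cast_eq_zero_iff (Res M) p l).1 e)
  obtain ⟨ζ, hζ, hζj⟩ := exists_root_lift (M := M) hm0 hjm
  choose V hVc hVe hVf hVr using fun i : Fin (p ^ a) =>
    exists_eigen hM hf h g hfix hpm hgm hy hζ hζj i
  have hli : LinearIndependent (Res M) fun i => red M (V i) := by
    choose t ht using hVr
    rw [Fintype.linearIndependent_iff]
    intro cc hc
    suffices key : ∀ n (hn : n < p ^ a), cc ⟨n, hn⟩ = 0 from fun i => key i i.2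
    intro n
    induction n using Nat.strong_induction_on with
    | _ n ih =>
      intro hn
      have h2 := congrArg (fun s => X ^ (p ^ a - 1 - n) * s) hc
      simp only [ht, Finset.mul_sum, mul_zero] at h2
      rw [Finset.sum_eq_single (⟨n, hn⟩ : Fin (p ^ a))] at h2
      · rw [mul_smul_comm, mul_add, ← mul_assoc, ← mul_assoc, ← pow_add, ← pow_add,
          h.pow_eq_zero_of_le (show p ^ a ≤ p ^ a - 1 - n + (n + 1) by omega), zero_mul, add_zero,
          Nat.sub_add_cancel (by omega)] at h2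
        exact (smul_eq_zero.1 h2).resolve_right h.top_f
      · intro b _ hb
        rw [mul_smul_comm]
        rcases lt_or_gt_of_ne (fun e => hb (Fin.ext e) : (b : ℕ) ≠ n) with hlt | hgt
        · rw [show cc b = 0 from ih b hlt b.2, zero_smul]
        · rw [mul_add, ← mul_assoc, ← mul_assoc, ← pow_add, ← pow_add,
            h.pow_eq_zero_of_le (show p ^ a ≤ p ^ a - 1 - n + b by omega),
            h.pow_eq_zero_of_le (show p ^ a ≤ p ^ a - 1 - n + (b + 1) by omega), zero_mul, zero_mul,
            add_zero, smul_zero]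
      · simp
  have hliC := linearIndependent_inc hli
  have := Fintype.ofFinite f
  set π : Equiv.Perm f := Equiv.ofBijective (fun χ => ⟨mapIrr (conjC C g) χ.1, hmem _ χ.2⟩)
    (Finite.injective_iff_bijective.1 fun _ _ e =>
      Subtype.ext (mapIrr_injective _ (congrArg Subtype.val e))) with hπ
  set W : Matrix (Fin (p ^ a)) f ℂ := Matrix.of fun i χ =>
    omega ((χ : IrrCharacter C) : C → ℂ) (inc M (V i)) with hW
  have hrow : LinearIndependent ℂ W.row := by
    rw [Fintype.linearIndependent_iff]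
    intro cc hc
    refine Fintype.linearIndependent_iff.1 hliC cc (eq_zero_of_omega_eq_zero
      (IsCentralElt.sum _ fun i _ => (isCentralElt_inc (hVc i)).smul _) fun χ => ?_)
    simp only [map_sum, map_smul, smul_eq_mul]
    by_cases hχ : χ ∈ f
    · have h1 := congrFun hc ⟨χ, hχ⟩
      simpa [W, Matrix.row, Finset.sum_apply] using h1
    · refine Finset.sum_eq_zero fun i _ => ?_
      rw [← hVf i, map_mul, omega_mul χ (isCentralElt_inc (hVc i)), inc_blockIdemO hf,
        omega_blockIdem, if_neg hχ, mul_zero, mul_zero]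
  have hcount := card_fixed_eq_trace (finCongr (show p ^ a = Fintype.card f by
    rw [← hcard, Nat.card_eq_fintype_card]) |>.trans (Fintype.equivFin f).symm) hrow π
    (d := fun i => (ζ : ℂ) ^ (i : ℕ)) fun i χ => by
      show omega ((π χ : IrrCharacter C) : C → ℂ) _ = _ * omega _ _
      rw [show ((π χ : f) : IrrCharacter C) = mapIrr (conjC C g) χ.1 from rfl,
        omega_comp (conjC C g) χ.1 _ (inc M (MonoidAlgebra.domCongr (localRing M) (localRing M)
          (conjC C g) (V i))) fun k => by simp [coeff_domCongr],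
        hVe i, show inc M (ζ ^ (i : ℕ) • V i) = (ζ : ℂ) ^ (i : ℕ) • inc M (V i) by ext x; simp,
        map_smul, smul_eq_mul]
  have hζ1 : (ζ : ℂ) ≠ 1 := fun e => hj1 (by
    rw [← hζj, show ζ = 1 from Subtype.ext e, map_one])
  have hζp : (ζ : ℂ) ^ (p - 1) = 1 := by
    obtain ⟨d, hd⟩ := hm
    have hζC : (ζ : ℂ) ^ m = 1 := by simpa using congrArg Subtype.val hζ
    rw [hd, pow_mul, hζC, one_pow]
  rw [Fin.sum_univ_eq_sum_range (fun i => (ζ : ℂ) ^ i), geom_sum_eq_one hζ1 hζp (by omega)] at hcount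
  rw [← Nat.cast_inj (R := ℂ), Nat.cast_one, ← hcount]
  exact congrArg _ (Nat.card_congr (Equiv.subtypeEquivRight fun χ => by
    simp [π, Subtype.ext_iff]))

end CfsgLib.Blocks.Cyclic
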