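import Cfsg.Agent.Lib.Blocks.Cyclic.TraceFunctions

/-!
# Trace functions from a trivial intersection local component

Each twist of the local simple module occurs in a simple module fixed by the central element, and
different twists occur in different simple modules.
-/

set_option autoImplicit false

namespace CfsgLib.Blocks.Cyclic

open MonoidAlgebra CfsgLib.Blocks

universe u

section Induced

variable {k : Type*} [Field k] {G : Type*} [Group G] {V : Type*} [AddCommGroup V] [Module k V]
  {T : Subgroup G}

/-- The functions transforming by `σ` on the right. -/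
def indSpace (σ : T →* Module.End k V) : Submodule k (G → V) where
  carrier := {F | ∀ g (t : T), F (g * t) = σ t⁻¹ (F g)}
  zero_mem' := fun g t => by simp
  add_mem' := fun ha hb g t => by simp [ha g t, hb g t]
  smul_mem' := fun c F hF g t => by simp [hF g t]

/-- The induced representation. -/
def indRep (σ : T →* Module.End k V) : Representation k G (indSpace σ) where
  toFun g :=
    { toFun := fun F => ⟨fun x => (F : G → V) (g⁻¹ * x), fun x t => by
        show (F : G → V) (g⁻¹ * (x * t)) = _
        rw [← mul_assoc, F.2]⟩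
      map_add' := fun _ _ => rfl
      map_smul' := fun _ _ => rfl }
  map_one' := LinearMap.ext fun F => Subtype.ext (funext fun x => by simp)
  map_mul' g h := LinearMap.ext fun F => Subtype.ext (funext fun x => by simp [mul_assoc])

/-- Evaluation at `1`. -/
def indEval (σ : T →* Module.End k V) : indSpace σ →ₗ[k] V where
  toFun F := (F : G → V) 1
  map_add' _ _ := rfl
  map_smul' _ _ := rfl

theorem indEval_rep (σ : T →* Module.End k V) (t : T) (F : indSpace σ) :
    indEval σ (indRep σ (t : G) F) = σ t (indEval σ F) := by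
  show (F : G → V) ((t : G)⁻¹ * 1) = σ t ((F : G → V) 1)
  rw [mul_one, show ((t : G))⁻¹ = 1 * ((t⁻¹ : T) : G) by simp, F.2, inv_inv]

open scoped Classical in
/-- The embedding at the trivial coset. -/
noncomputable def indEmb (σ : T →* Module.End k V) : V →ₗ[k] indSpace σ where
  toFun v := ⟨fun g => if h : g ∈ T then σ (⟨g, h⟩ : T)⁻¹ v else 0, fun g t => by
    dsimp only
    by_cases h : g ∈ T
    · rw [dif_pos h, dif_pos (T.mul_mem h t.2), ← Module.End.mul_apply, ← map_mul]
      congr 2
      exact Subtype.ext (by simp)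
    · rw [dif_neg h, dif_neg (fun h' => h ((T.mul_mem_cancel_right t.2).1 h')), map_zero]⟩
  map_add' a b := Subtype.ext (funext fun g => by
    simp only [Submodule.coe_add, Pi.add_apply]
    split_ifs <;> simp)
  map_smul' c a := Subtype.ext (funext fun g => by
    simp only [RingHom.id_apply, SetLike.val_smul, Pi.smul_apply]
    split_ifs <;> simp)

open scoped Classical in
theorem indEval_emb (σ : T →* Module.End k V) (v : V) : indEval σ (indEmb σ v) = v := by
  show dite ((1 : G) ∈ T) _ _ = v
  rw [dif_pos T.one_mem, show (⟨1, T.one_mem⟩ : T) = 1 from rfl, inv_one, map_one]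
  rfl

open scoped Classical in
theorem indEmb_rep (σ : T →* Module.End k V) (t : T) (v : V) :
    indEmb σ (σ t v) = indRep σ (t : G) (indEmb σ v) := by
  refine Subtype.ext (funext fun g => ?_)
  show dite (g ∈ T) _ _ = dite ((t : G)⁻¹ * g ∈ T) _ _
  by_cases h : g ∈ T
  · rw [dif_pos h, dif_pos (T.mul_mem (T.inv_mem t.2) h), ← Module.End.mul_apply, ← map_mul]
    congr 2
    exact Subtype.ext (by simp)
  · rw [dif_neg h, dif_neg (fun h' => h ((T.mul_mem_cancel_left (T.inv_mem t.2)).1 h'))]

end Induced

namespace TISystem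

variable {k : Type} [Field k] [IsAlgClosed k] {G : Type u} [Group G] [Fintype G]
  {C T N₁ D : Subgroup G} {q : ℕ} {f X ε a : MonoidAlgebra k C} {z : MonoidAlgebra k G}
  (S : TISystem C T N₁ D q f X ε a z)

/-- A twist occurs outside the top power. -/
def GoodIn {W : Type u} [AddCommGroup W] [Module k W] (ρ : Representation k G W)
    (σ : T →* Module.End k (Top k X ε)) : Prop :=
  ∃ L : Top k X ε →ₗ[k] W, IsEquivariant (topRep X ε) (resA C ρ) L ∧
    (∀ t v, L (σ t v) = resT T ρ t (L v)) ∧
    L (topGen X ε) ∉ LinearMap.range (resA C ρ (X ^ (q - 1)))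

include S

omit [IsAlgClosed k] in
theorem goodIn_ind {σ : T →* Module.End k (Top k X ε)}
    (hσ : ∀ c : C.subgroupOf T, σ (c : T) = topRep X ε (iotaC k C T c)) :
    GoodIn (q := q) (indRep σ) σ := by
  have hev : IsEquivariant (resA C (indRep σ)) (topRep X ε) (indEval σ) := by
    intro b F
    induction b using MonoidAlgebra.induction_linear with
    | zero => simp
    | add x y hx hy => simp only [map_add, LinearMap.add_apply, hx, hy]
    | single c r =>
      rw [resA_single, LinearMap.smul_apply, map_smul,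
        show single c r = r • of k C c by rw [of_apply, smul_single, smul_eq_mul, mul_one], map_smul,
        LinearMap.smul_apply]
      congr 1
      have h1 := indEval_rep σ ⟨(c : G), S.C_le c.2⟩ F
      rw [hσ ⟨⟨(c : G), S.C_le c.2⟩, c.2⟩] at h1
      exact h1
  refine ⟨indEmb σ, isEquivariant_resA C _ fun c v => ?_, fun t v => indEmb_rep σ t v, fun hmem => ?_⟩
  · have h1 := indEmb_rep σ ⟨(c : G), S.C_le c.2⟩ v
    rw [hσ ⟨⟨(c : G), S.C_le c.2⟩, c.2⟩] at h1
    exact h1
  · obtain ⟨F, hF⟩ := hmem
    have h1 := congrArg (indEval σ) hF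
    rw [hev, indEval_emb] at h1
    refine S.local_alg.topGen_ne_zero ?_
    rw [← h1, show q - 1 = (q - 2) + 1 by have := S.local_alg.two_le; omega, pow_succ, map_mul,
      S.local_alg.topRep_X]
    simp

omit [IsAlgClosed k] in
/-- A twist outside the top power occurs in a simple module. -/
theorem exists_irreducible_good {σ : T →* Module.End k (Top k X ε)}
    (hs : Twisted f (C.subgroupOf T) (topRep X ε) σ S.alpha)
    (hσ : ∀ c : C.subgroupOf T, σ (c : T) = topRep X ε (iotaC k C T c)) :
    ∀ (d : ℕ) {V : Type u} [AddCommGroup V] [Module k V] [FiniteDimensional k V]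
      (ρ : Representation k G V), Module.finrank k V = d → GoodIn (q := q) ρ σ →
      ∃ (W : Type u) (_ : AddCommGroup W) (_ : Module k W) (_ : FiniteDimensional k W)
        (τ : Representation k G W), τ.IsIrreducible ∧ GoodIn (q := q) τ σ := by
  classical
  intro d
  induction d using Nat.strong_induction_on with
  | _ d ih =>
  intro V _ _ _ ρ hd hg
  by_cases hirr : ρ.IsIrreducible
  · exact ⟨V, inferInstance, inferInstance, inferInstance, ρ, hirr, hg⟩
  obtain ⟨L, hL, hLρ, hn⟩ := hg
  have : Nontrivial (Subrepresentation ρ) := ⟨⟨⊥, ⊤, fun h => hn (by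
    have h0 : L (topGen X ε) ∈ (⊥ : Subrepresentation ρ).toSubmodule := by rw [h]; trivial
    rw [(Submodule.mem_bot k).1 h0]
    exact Submodule.zero_mem _)⟩⟩
  obtain ⟨U, hU0, hU1⟩ : ∃ U : Subrepresentation ρ, U ≠ ⊥ ∧ U ≠ ⊤ := by
    by_contra hcon
    push Not at hcon
    exact hirr ⟨fun a => (em (a = ⊥)).imp id fun h => hcon a h⟩
  have hU0' : U.toSubmodule ≠ ⊥ := fun h => hU0 (Subrepresentation.toSubmodule_injective h)
  have hU1' : U.toSubmodule ≠ ⊤ := fun h => hU1 (Subrepresentation.toSubmodule_injective h)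
  set π := ρ.quotient U.toSubmodule (fun g v hv => U.apply_mem_toSubmodule g hv)
  have : Fintype (T ⧸ C.subgroupOf T) := Fintype.ofFinite _
  have hj : IsEquivariant (resA C U.toRepresentation) (resA C ρ) U.toSubmodule.subtype :=
    isEquivariant_resA C _ fun c x => by rw [resA_of]; rfl
  have hq : IsEquivariant (resA C ρ) (resA C π) U.toSubmodule.mkQ :=
    isEquivariant_resA C _ fun c x => by rw [resA_of]; rfl
  rcases good_descent S.local_alg S.index_cast hs hσ (S.twisted ρ) (resT_iota S ρ)
    (j := U.toSubmodule.subtype) (π := U.toSubmodule.mkQ) (RU := resA C U.toRepresentation)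
    (ρU := resT T U.toRepresentation) (R' := resA C π) (ρ' := resT T π)
    Subtype.val_injective (Submodule.mkQ_surjective _)
    (fun w hw => ⟨⟨w, (Submodule.Quotient.mk_eq_zero _).1 hw⟩, rfl⟩) hj (fun t x => rfl) hq
    (fun t w => rfl) hL hLρ hn with hg' | hg'
  · refine ih (Module.finrank k (V ⧸ U.toSubmodule)) ?_ π rfl hg'
    have := U.toSubmodule.finrank_quotient_add_finrank
    have h0 : 0 < Module.finrank k U.toSubmodule :=
      Nat.pos_of_ne_zero fun h => hU0' (Submodule.finrank_eq_zero.1 h)
    omega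
  · exact ih _ (hd ▸ Submodule.finrank_lt hU1') U.toRepresentation rfl hg'

/-- As many independent trace functions fixed by `z` as the index. -/
theorem exists_functions {p : ℕ} [Fact p.Prime] [CharP k p] (hcyc : ∀ [(C.subgroupOf T).Normal],
      IsCyclic (T ⧸ C.subgroupOf T)) :
    ∃ τ : Fin (C.relIndex T) → G → k, LinearIndependent k τ ∧
      (∀ i g h, τ i (h * g * h⁻¹) = τ i g) ∧
      (∀ i g, ∑ h, z.coeff h * τ i (h * g) = τ i g) ∧
      ∀ i x y, Commute x y → (∃ j : ℕ, x ^ p ^ j = 1) → τ i (x * y) = τ i y := by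
  classical
  have := S.normal
  have hc := hcyc
  have : Fintype (T ⧸ C.subgroupOf T) := Fintype.ofFinite _
  have : Fintype C := Fintype.ofFinite C
  obtain ⟨σ, hσ, hpair⟩ := exists_twists S.local_alg S.crossData hc S.index_ne
  choose W iA iM iF τ hirr hgood using fun i => S.exists_irreducible_good (hσ i).1 (hσ i).2 _
    (indRep (σ i)) rfl (S.goodIn_ind (hσ i).2)
  have hdist : ∀ i j, i ≠ j → ∀ L : W i →ₗ[k] W j,
      (∀ g w, L (τ i g w) = τ j g (L w)) → Function.Bijective L → False := by
    intro i j hij L hL hb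
    have := hirr j
    obtain ⟨χ, hχ, hne⟩ := hpair i j hij
    obtain ⟨L₁, hL₁, hr₁, hn₁⟩ := hgood i
    obtain ⟨L₂, hL₂, hr₂, hn₂⟩ := hgood j
    have hLR : IsEquivariant (resA C (τ i)) (resA C (τ j)) L :=
      isEquivariant_resA C _ fun c w => by rw [resA_of, hL]
    refine false_of_two_maps (S.twisted (τ j)) S.local_alg S.index_cast
      (fun φ h1 h2 h3 h4 => S.scalar_endo (τ j) h1 h2 h3 fun t v => h4 t v) (hσ i).1 hχ hne
      (L₁ := L ∘ₗ L₁) (L₂ := L₂) (fun b v => ?_) hL₂ (fun t v => ?_) hr₂ (fun hmem => hn₁ ?_) hn₂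
    · rw [LinearMap.comp_apply, LinearMap.comp_apply, hL₁, hLR]
    · rw [LinearMap.comp_apply, LinearMap.comp_apply, hr₁]
      exact hL _ _
    · obtain ⟨w, hw⟩ := hmem
      obtain ⟨w', rfl⟩ := hb.2 w
      exact ⟨w', hb.1 (by rw [hLR, hw]; rfl)⟩
  have hz : ∀ i, (τ i).asAlgebraHom z = 1 := by
    intro i
    have := hirr i
    obtain ⟨L, hL, -, hn⟩ := hgood i
    refine S.z_eq_one (τ i) ?_ ?_ hn
    · rw [← hL, S.local_alg.topRep_f]; rfl
    · rw [← hL, S.local_alg.topRep_X]; simp
  refine ⟨fun (i : Fin (Nat.card (T ⧸ C.subgroupOf T))) g => LinearMap.trace k (W i) (τ i g), linearIndependent_trace τ hirr hdist,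
    fun (i : Fin (Nat.card (T ⧸ C.subgroupOf T))) g h => ?_,
    fun (i : Fin (Nat.card (T ⧸ C.subgroupOf T))) g => ?_,
    fun (i : Fin (Nat.card (T ⧸ C.subgroupOf T))) x y hxy hx => ?_⟩
  · show LinearMap.trace k _ (τ i (h * g * h⁻¹)) = _
    rw [map_mul, LinearMap.trace_mul_comm, ← map_mul, inv_mul_cancel_left]
  · show _ = LinearMap.trace k (W i) (τ i g)
    conv_rhs => rw [← one_mul (τ i g), ← hz i]
    rw [asAlgebraHom_eq_sum', Finset.sum_mul, map_sum]
    exact Finset.sum_congr rfl fun h _ => by
      rw [smul_mul_assoc, ← map_mul, map_smul, smul_eq_mul]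
  · show LinearMap.trace k (W i) (τ i (x * y)) = LinearMap.trace k (W i) (τ i y)
    obtain ⟨j, hj⟩ := hx
    have hn : IsNilpotent ((τ i x - 1) * τ i y) := by
      refine Commute.isNilpotent_mul_right (((hxy.map (τ i))).sub_left (Commute.one_left _)) ?_
      refine ⟨p ^ j, ?_⟩
      have : CharP (Module.End k (W i)) p := by
        have : Nontrivial (W i) := by
          have := hirr i
          exact (τ i).asModuleEquiv.toEquiv.nontrivial_congr.1
            (IsSimpleModule.nontrivial (MonoidAlgebra k G) _)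
        exact charP_of_injective_algebraMap' k p
      rw [sub_pow_char_pow_of_commute _ _ (Commute.one_right (τ i x)), one_pow, ← map_pow, hj,
        map_one, sub_self]
    have := (LinearMap.isNilpotent_trace_of_isNilpotent hn).eq_zero
    rw [sub_mul, one_mul, map_sub, ← map_mul, sub_eq_zero] at this
    exact this

end TISystem

end CfsgLib.Blocks.Cyclic
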