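import Cfsg.Agent.Lib.Blocks.Cyclic.Local
import Cfsg.Agent.Lib.Blocks.Cyclic.TIFunctions
import Cfsg.Agent.Lib.Blocks.PrimeSylow.Rank

/-!
# The inertial index bounds the rank of a block with cyclic defect group from below
-/

set_option autoImplicit false

namespace CfsgLib.Blocks.Cyclic

open Cfsg CfsgLib.Blocks CfsgLib.Pairs

universe u

variable {G : Type u} [Group G] [Fintype G] {p : ℕ} [Fact p.Prime] {M : Ideal AlgInt} [M.IsPrime]
  {B : Set (IrrCharacter G)} {P : Subgroup G}
  {c : Set (IrrCharacter (Subgroup.centralizer (P : Set G)))}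

theorem Setup.le_blockRank (h : Setup p M B P c) :
    (Subgroup.centralizer (P : Set G)).relIndex (pairStab P c) ≤ blockRank p B := by
  have := charP_residueField h.modular
  have := PrimeSylow.isAlgClosed_res (M := M)
  obtain ⟨Z, f, L⟩ := h.exists_local
  obtain ⟨X, ε, a, S, -⟩ := L.exists_system
  obtain ⟨τ, hli, hcl, hfix, hsec⟩ := S.exists_functions (p := p) fun {_} => L.isCyclic_quotient
  rw [← L.s4645.2.1]
  simpa using PrimeSylow.le_blockRank_of_functions h.modular h.block τ hli hcl hfix hsec

end CfsgLib.Blocks.Cyclic
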