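import Cfsg.Agent.Lib.Blocks.Cyclic.Local
import Cfsg.Agent.Lib.Blocks.Cyclic.FixedPoint

/-!
# The inertial orbits on the characters of the local block
-/

set_option autoImplicit false

namespace CfsgLib.Blocks.Cyclic

open Cfsg CfsgLib.Blocks CfsgLib.Pairs CfsgLib.Char MonoidAlgebra
open scoped Classical

universe u

variable {G : Type u} [Group G] [Fintype G] {p : ℕ} [Fact p.Prime] {M : Ideal AlgInt} [M.IsPrime]
  {B : Set (IrrCharacter G)} {P : Subgroup G}
  {c : Set (IrrCharacter (Subgroup.centralizer (P : Set G)))}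

theorem mapIrr_conjC_mem {C : Subgroup G} {f : Set (IrrCharacter C)}
    {g : Subgroup.normalizer (C : Set G)} (hst : StabilizesBlock C f ((g : G)⁻¹))
    {χ : IrrCharacter C} (hχ : χ ∈ f) : mapIrr (conjC C g) χ ∈ f := by
  obtain ⟨hx, hf⟩ := stabilizesBlock_iff.1 hst
  rw [← hf]
  refine ⟨χ, hχ, irr_ext fun k => ?_⟩
  rw [mapIrr_apply, mapIrr_apply]
  exact congrArg _ (Subtype.ext (by rw [conjEquiv_symm_apply, coe_conjC, inv_inv]))

omit [Fintype G] in
theorem mapIrr_conjC_of_mem {C : Subgroup G} {g : Subgroup.normalizer (C : Set G)} (hg : (g : G) ∈ C)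
    (χ : IrrCharacter C) : mapIrr (conjC C g) χ = χ := by
  refine irr_ext fun k => ?_
  rw [mapIrr_apply, show conjC C g k = ⟨(g : G), hg⟩ * k * (⟨(g : G), hg⟩ : C)⁻¹ from
    Subtype.ext (coe_conjC C g k)]
  exact IsIrr.isClassFunction χ.2 k _

omit [Fintype G] in
theorem mapIrr_conjC_mul {C : Subgroup G} (g h : Subgroup.normalizer (C : Set G))
    (χ : IrrCharacter C) :
    mapIrr (conjC C (g * h)) χ = mapIrr (conjC C h) (mapIrr (conjC C g) χ) := by
  refine irr_ext fun k => ?_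
  simp only [mapIrr_apply]
  exact congrArg _ (Subtype.ext (by simp only [coe_conjC, Subgroup.coe_mul]; group))

namespace LocalData

variable {Z : Subgroup G} {f : Set (IrrCharacter (Subgroup.centralizer (Z : Set G)))}

/-- Conjugation by an element of the inertial group of the local block. -/
def stabNorm (t : pairStab Z f) :
    Subgroup.normalizer ((Subgroup.centralizer (Z : Set G) : Subgroup G) : Set G) :=
  ⟨(t : G), normalizer_le_normalizer_centralizer Z (pairStab_le_normalizer Z f t.2)⟩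

omit [Fact p.Prime] [M.IsPrime] in
theorem mapIrr_mem (t : pairStab Z f) {χ : IrrCharacter (Subgroup.centralizer (Z : Set G))}
    (hχ : χ ∈ f) : mapIrr (conjC _ (stabNorm t)) χ ∈ f :=
  mapIrr_conjC_mem ((inv_mem t.2 : (t : G)⁻¹ ∈ pairStab Z f)).2 hχ

variable (L : LocalData p M B P c Z f)
include L

theorem card_block : Nat.card f = Nat.card P := by
  have hM := L.base.modular
  have hdef := L.defectGroup
  have hab : ∀ x ∈ P.subgroupOf (Subgroup.centralizer (Z : Set G)),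
      ∀ y ∈ P.subgroupOf (Subgroup.centralizer (Z : Set G)), x * y = y * x := fun x hx y hy =>
    Subtype.ext (L.base.comm _ hx _ hy)
  obtain ⟨N⟩ := exists_nilParam hM L.s4645.2.2.2 hdef hab
  have := Fintype.ofFinite (IrrCharacter (P.subgroupOf (Subgroup.centralizer (Z : Set G))))
  have := Fintype.ofFinite (P.subgroupOf (Subgroup.centralizer (Z : Set G)))
  have hone : ∀ μ : IrrCharacter (P.subgroupOf (Subgroup.centralizer (Z : Set G))),
      (μ : P.subgroupOf (Subgroup.centralizer (Z : Set G)) → ℂ) 1 = 1 :=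
    Clifford.apply_one_eq_one_of_commute (fun a b => Subtype.ext (hab _ a.2 _ b.2))
  have h := sum_sq_degree (G := P.subgroupOf (Subgroup.centralizer (Z : Set G)))
  simp only [hone, one_pow, Finset.sum_const, nsmul_eq_mul, mul_one] at h
  rw [← Nat.card_congr (Subgroup.subgroupOfEquivOfLe L.le_centralizer).toEquiv]
  have h' : Fintype.card (IrrCharacter (P.subgroupOf (Subgroup.centralizer (Z : Set G)))) =
      Nat.card (P.subgroupOf (Subgroup.centralizer (Z : Set G))) := by exact_mod_cast h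
  rw [← h', ← Nat.card_eq_fintype_card]
  exact (Nat.card_congr (Equiv.ofBijective (fun μ => (⟨N.chi μ, N.mem μ⟩ : f))
    ⟨fun _ _ e => N.inj (congrArg Subtype.val e), fun χ => by
      obtain ⟨μ, hμ⟩ := N.surj χ χ.2; exact ⟨μ, Subtype.ext hμ⟩⟩)).symm

theorem card_fixed {t : pairStab Z f} (ht : (t : G) ∉ Subgroup.centralizer (Z : Set G)) :
    Nat.card {χ : f // mapIrr (conjC _ (stabNorm t)) χ.1 = χ.1} = 1 := by
  have hM := L.base.modular
  have hp := (Fact.out : p.Prime)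
  have := charP_residueField hM
  obtain ⟨X, ε, a₀, S, hz⟩ := L.exists_system
  obtain ⟨a, ha⟩ := IsPGroup.iff_card.1 (IsDefectGroup.isPGroup L.base.defect)
  have hP2 := S.local_alg.two_le
  have ha1 : 1 ≤ a := by
    by_contra h0
    rw [ha, show a = 0 by omega, pow_zero] at hP2
    omega
  have hloc := S.local_alg
  rw [ha] at hloc
  obtain ⟨z₀, hz₀, hz1⟩ := Z.bot_or_exists_ne_one.resolve_left L.ne_bot
  set z : Subgroup.centralizer (Z : Set G) := ⟨z₀, L.le_centralizer (L.Z_le hz₀)⟩ with hzdef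
  obtain ⟨l, hl, hzl⟩ := hz z (Subgroup.mem_subgroupOf.2 hz₀) fun e => hz1 (congrArg Subtype.val e)
  have ho : orderOf z₀ = p := L.orderOf_eq hz₀ hz1
  have hconj : (t : G) * z₀ * (t : G)⁻¹ ∈ Subgroup.zpowers z₀ := by
    rw [show Subgroup.zpowers z₀ = Z from Subgroup.eq_of_le_of_card_ge (Subgroup.zpowers_le.2 hz₀)
      (by rw [Nat.card_zpowers, ho, L.Z_card])]
    exact (Subgroup.mem_normalizer_iff.1 (pairStab_le_normalizer Z f t.2) z₀).1 hz₀
  obtain ⟨j, hj⟩ : ∃ j : ℕ, z₀ ^ j = (t : G) * z₀ * (t : G)⁻¹ :=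
    (isOfFinOrder_of_finite z₀).mem_powers_iff_mem_zpowers.2 hconj
  set e := (Subgroup.centralizer (Z : Set G)).relIndex (pairStab Z f) with he
  have hem : e ∣ p - 1 := by rw [he, L.s4645.2.1]; exact L.base.free.1
  have : ((Subgroup.centralizer (Z : Set G)).subgroupOf (pairStab Z f)).Normal := S.normal
  have hpow : (stabNorm t : G) ^ e ∈ Subgroup.centralizer (Z : Set G) := by
    show (t : G) ^ e ∈ _
    rw [← Subgroup.coe_pow, ← Subgroup.mem_subgroupOf, ← QuotientGroup.eq_one_iff,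
      QuotientGroup.mk_pow, he]
    exact pow_card_eq_one'
  have hiter : ∀ n : ℕ, z₀ ^ j ^ n = (t : G) ^ n * z₀ * ((t : G) ^ n)⁻¹ := by
    intro n
    induction n with
    | zero => simp
    | succ n ih =>
      rw [pow_succ j, pow_mul, ih, conj_pow, hj, pow_succ (t : G)]
      group
  have hjp : ∀ n : ℕ, z₀ ^ n = z₀ ↔ (n : Res M) = 1 := fun n => by
    have h := pow_eq_pow_iff_modEq (x := z₀) (n := n) (m := 1)
    rw [pow_one, ho] at h
    rw [h, ← CharP.natCast_eq_natCast (Res M) p, Nat.cast_one]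
  refine card_fixed_eq_one hM L.block ha1 hloc (L.card_block.trans ha) (stabNorm t)
    (S.fix _ t.2) (fun χ hχ => mapIrr_mem t hχ) hem hpow hl (j := j) (z := z) ?_ ?_ ?_ ?_
  · rw [hzl, ha, show p ^ a / p = p ^ (a - 1) from Nat.div_eq_of_eq_mul_left hp.pos
      (by rw [← pow_succ, Nat.sub_add_cancel ha1])]
  · exact Subtype.ext (by rw [coe_conjC, Subgroup.coe_pow]; exact hj.symm)
  · intro hj1
    refine ht (Subgroup.mem_centralizer_iff.2 fun y hy => ?_)
    have hc : Commute z₀ (t : G) := by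
      show z₀ * t = t * z₀
      rw [← mul_inv_eq_iff_eq_mul.1 ((hj.symm).trans ((hjp j).2 hj1))]
    have hy' : y ∈ Subgroup.zpowers z₀ := by
      rw [show Subgroup.zpowers z₀ = Z from Subgroup.eq_of_le_of_card_ge (Subgroup.zpowers_le.2 hz₀)
        (by rw [Nat.card_zpowers, ho, L.Z_card])]
      exact hy
    obtain ⟨i, rfl⟩ := hy'
    exact (hc.zpow_left i).eq
  · rw [← Nat.cast_pow, ← hjp, hiter]
    have := Subgroup.mem_centralizer_iff.1 hpow z₀ hz₀
    exact mul_inv_eq_iff_eq_mul.2 this.symm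

/-- One character is fixed by the inertial group, the others are moved freely. -/
theorem exists_fixed (he : 1 < (Subgroup.centralizer (Z : Set G)).relIndex (pairStab Z f)) :
    ∃ χ₀ ∈ f, (∀ t : pairStab Z f, mapIrr (conjC _ (stabNorm t)) χ₀ = χ₀) ∧
      ∀ χ ∈ f, χ ≠ χ₀ → ∀ t : pairStab Z f, mapIrr (conjC _ (stabNorm t)) χ = χ →
        (t : G) ∈ Subgroup.centralizer (Z : Set G) := by
  have hnorm : ((Subgroup.centralizer (Z : Set G)).subgroupOf (pairStab Z f)).Normal :=
    (Subgroup.normal_subgroupOf_iff_le_normalizer (centralizer_le_pairStab Z f)).2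
      fun t ht => normalizer_le_normalizer_centralizer Z (pairStab_le_normalizer Z f ht)
  have := L.isCyclic_quotient
  obtain ⟨t₀', ht₀⟩ := IsCyclic.exists_generator
    (α := pairStab Z f ⧸ (Subgroup.centralizer (Z : Set G)).subgroupOf (pairStab Z f))
  obtain ⟨t₀, rfl⟩ := QuotientGroup.mk_surjective t₀'
  have hout : (t₀ : G) ∉ Subgroup.centralizer (Z : Set G) := by
    intro hmem
    have h1 : ∀ x : pairStab Z f ⧸ (Subgroup.centralizer (Z : Set G)).subgroupOf (pairStab Z f),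
        x = 1 := fun x => by
      obtain ⟨i, rfl⟩ := ht₀ x
      show (QuotientGroup.mk t₀ : pairStab Z f ⧸ _) ^ i = 1
      rw [(QuotientGroup.eq_one_iff t₀).2 hmem, one_zpow]
    have : Subsingleton (pairStab Z f ⧸ (Subgroup.centralizer (Z : Set G)).subgroupOf (pairStab Z f)) :=
      ⟨fun a b => (h1 a).trans (h1 b).symm⟩
    have h2 : Nat.card (pairStab Z f ⧸ (Subgroup.centralizer (Z : Set G)).subgroupOf (pairStab Z f)) = 1 :=
      Nat.card_unique
    exact absurd h2 (by rw [← Subgroup.index_eq_card]; exact he.ne')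
  have hmem0 : ∀ t : pairStab Z f, ∀ {χ}, χ ∈ f → mapIrr (conjC _ (stabNorm t)) χ ∈ f :=
    fun t _ hχ => mapIrr_mem t hχ
  have huniq : ∀ t : pairStab Z f, (t : G) ∉ Subgroup.centralizer (Z : Set G) →
      ∃ χ ∈ f, mapIrr (conjC _ (stabNorm t)) χ = χ ∧
        ∀ ψ ∈ f, mapIrr (conjC _ (stabNorm t)) ψ = ψ → ψ = χ := by
    intro t ht
    obtain ⟨hsub, ⟨⟨χ, hχ⟩⟩⟩ := Nat.card_eq_one_iff_unique.1 (L.card_fixed ht)
    exact ⟨χ.1, χ.2, hχ, fun ψ hψ h => congrArg (fun s => s.1.1) (hsub.elim ⟨⟨ψ, hψ⟩, h⟩ ⟨χ, hχ⟩)⟩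
  obtain ⟨χ₀, hχ₀, hfix₀, hu₀⟩ := huniq t₀ hout
  have hall : ∀ t : pairStab Z f, mapIrr (conjC _ (stabNorm t)) χ₀ = χ₀ := by
    intro t
    obtain ⟨i, hi⟩ : ∃ i : ℕ, (QuotientGroup.mk t₀ : pairStab Z f ⧸ _) ^ i = QuotientGroup.mk t :=
      (isOfFinOrder_of_finite _).mem_powers_iff_mem_zpowers.2 (ht₀ _)
    have hpow : ∀ i : ℕ, mapIrr (conjC _ (stabNorm t₀ ^ i)) χ₀ = χ₀ := by
      intro i
      induction i with
      | zero => exact mapIrr_conjC_of_mem (by rw [pow_zero]; exact one_mem _) _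
      | succ i ih => rw [pow_succ', mapIrr_conjC_mul, hfix₀, ih]
    rw [← QuotientGroup.mk_pow, QuotientGroup.eq, Subgroup.mem_subgroupOf] at hi
    rw [show stabNorm t = stabNorm t₀ ^ i * ((stabNorm t₀ ^ i)⁻¹ * stabNorm t) by group,
      mapIrr_conjC_mul, hpow, mapIrr_conjC_of_mem]
    simpa [stabNorm] using hi
  refine ⟨χ₀, hχ₀, hall, fun χ hχ hne t ht => ?_⟩
  by_contra hmem
  obtain ⟨ψ, -, -, hu⟩ := huniq t hmem
  exact hne ((hu χ hχ ht).trans (hu χ₀ hχ₀ (hall t)).symm)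

end LocalData

end CfsgLib.Blocks.Cyclic
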