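import Cfsg.Agent.Lib.Blocks.Cyclic.Chart
import Cfsg.Agent.Lib.Blocks.Cyclic.LocalChars
import Mathlib.NumberTheory.Basic

/-!
# The chart of the local block and the orbits of the inertial group

The orbits of the inertial group correspond to the multiplication by the `e`-th roots of unity
modulo the order of the defect group.
-/

set_option autoImplicit false
set_option linter.unusedSectionVars false

namespace CfsgLib.Blocks.Cyclic

open Cfsg CfsgLib.Blocks CfsgLib.Pairs CfsgLib.Char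
open scoped Classical

universe u

/-- The `e`-th roots of unity modulo a prime power are at most `e`, for `e ∣ p - 1`. -/
theorem card_pow_eq_one_le {p a e : ℕ} [Fact p.Prime] (ha : 1 ≤ a) (he : e ∣ p - 1) :
    Nat.card {k : ZMod (p ^ a) // k ^ e = 1} ≤ e := by
  have hp := (Fact.out : p.Prime)
  have : NeZero (p ^ a) := ⟨pow_ne_zero _ hp.ne_zero⟩
  have he0 : 0 < e := Nat.pos_of_ne_zero fun h => by
    rw [h, zero_dvd_iff] at he; have := hp.two_le; omega
  have hdvd : p ∣ p ^ a := dvd_pow_self p (by omega)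
  let r := ZMod.castHom hdvd (ZMod p)
  have hinj : Function.Injective fun k : {k : ZMod (p ^ a) // k ^ e = 1} =>
      (⟨r k.1, by rw [← map_pow, k.2, map_one]⟩ : {k : ZMod p // k ^ e = 1}) := by
    rintro ⟨k, hk⟩ ⟨l, hl⟩ h
    have h' : r k = r l := congrArg Subtype.val h
    refine Subtype.ext ?_
    set m := k * l ^ (e - 1) with hm
    have hme : m ^ e = 1 := by rw [hm, mul_pow, hk, one_mul, ← pow_mul, mul_comm, pow_mul, hl, one_pow]
    have hrm : r m = 1 := by
      rw [hm, map_mul, map_pow, h', ← pow_succ', show e - 1 + 1 = e by omega, ← map_pow, hl, map_one]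
    have hd : (p : ZMod (p ^ a)) ∣ m - 1 := by
      have h1 : ((m.val : ℕ) : ZMod p) = 1 := by
        rw [← hrm, ← map_natCast r, ZMod.natCast_zmod_val]
      rw [← Nat.cast_one, ZMod.natCast_eq_natCast_iff] at h1
      obtain ⟨d, hd⟩ := Nat.modEq_iff_dvd.1 h1.symm
      refine ⟨(d : ZMod (p ^ a)), ?_⟩
      have := congrArg (fun z : ℤ => (z : ZMod (p ^ a))) hd
      simpa using this
    have hd2 := dvd_sub_pow_of_dvd_sub hd (a - 1)
    rw [show a - 1 + 1 = a by omega, one_pow, ← Nat.cast_pow, ZMod.natCast_self, zero_dvd_iff,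
      sub_eq_zero] at hd2
    have hm1 : m = 1 := by
      have h1 : orderOf m ∣ p ^ (a - 1) := orderOf_dvd_of_pow_eq_one hd2
      have h2 : orderOf m ∣ e := orderOf_dvd_of_pow_eq_one hme
      have hcop : (p ^ (a - 1)).Coprime e := ((hp.coprime_iff_not_dvd).2 fun h => by
        have := Nat.le_of_dvd (by have := hp.two_le; omega) (h.trans he)
        have := hp.two_le
        omega).pow_left _
      exact orderOf_eq_one_iff.1 (Nat.eq_one_of_dvd_coprimes hcop h1 h2)
    show k = l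
    calc k = k * l ^ e := by rw [hl, mul_one]
      _ = m * l := by rw [hm, mul_assoc, ← pow_succ, show e - 1 + 1 = e by omega]
      _ = l := by rw [hm1, one_mul]
  refine (Nat.card_le_card_of_injective _ hinj).trans ?_
  rw [Nat.card_eq_fintype_card, Fintype.card_subtype]
  calc (Finset.univ.filter fun k : ZMod p => k ^ e = 1).card
      ≤ (Polynomial.nthRoots e (1 : ZMod p)).toFinset.card := Finset.card_le_card fun k hk => by
        rw [Multiset.mem_toFinset, Polynomial.mem_nthRoots he0]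
        exact (Finset.mem_filter.1 hk).2
    _ ≤ _ := (Multiset.toFinset_card_le _).trans (Polynomial.card_nthRoots _ _)

variable {G : Type u} [Group G] [Fintype G] {p : ℕ} [Fact p.Prime] {M : Ideal AlgInt} [M.IsPrime]
  {B : Set (IrrCharacter G)} {P : Subgroup G}
  {c : Set (IrrCharacter (Subgroup.centralizer (P : Set G)))}

namespace LocalData

variable {Z : Subgroup G} {f : Set (IrrCharacter (Subgroup.centralizer (Z : Set G)))}
  (L : LocalData p M B P c Z f)
include L

/-- The chart, with the orbits of the inertial group. -/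
theorem exists_param {a : ℕ} (ha : Nat.card P = p ^ a)
    {χ₀ : IrrCharacter (Subgroup.centralizer (Z : Set G))} (hχ₀ : χ₀ ∈ f)
    (hfix : ∀ t : pairStab Z f, mapIrr (conjC _ (stabNorm t)) χ₀ = χ₀) :
    ∃ ch : rootsOfUnity (p ^ a) ℂ → IrrCharacter (Subgroup.centralizer (Z : Set G)),
      Function.Injective ch ∧ Set.range ch = f ∧ ch 1 = χ₀ ∧
      (∀ g : Subgroup.centralizer (Z : Set G), ∃ φ : Fin (p ^ a) → ℂ, (∀ i, φ i ∈ localRing M ∧
          ((p ^ a : ℕ) : ℂ) * φ i /
            (Nat.card (Subgroup.centralizer ({g} : Set (Subgroup.centralizer (Z : Set G)))) : ℂ) ∈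
              localRing M) ∧
        ∀ ζ, (ch ζ : _ → ℂ) g = ∑ i : Fin (p ^ a), ((ζ : ℂˣ) : ℂ) ^ (i : ℕ) * φ i) ∧
      ∀ ζ ζ', (∃ t : pairStab Z f, mapIrr (conjC _ (stabNorm t)) (ch ζ) = ch ζ') ↔
        ∃ k : ℕ, k ^ (Subgroup.centralizer (Z : Set G)).relIndex (pairStab Z f) ≡ 1 [MOD p ^ a] ∧
          ζ' = ζ ^ k := by
  have hM := L.base.modular
  have hp := (Fact.out : p.Prime)
  have hS := L.s4645
  have := L.base.cyclic
  obtain ⟨⟨v₀, hv₀⟩, hgen⟩ := IsCyclic.exists_generator (α := P)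
  set vC : Subgroup.centralizer (Z : Set G) := ⟨v₀, L.le_centralizer hv₀⟩ with hvC
  have hzG : Subgroup.zpowers v₀ = P := le_antisymm (Subgroup.zpowers_le.2 hv₀) fun x hx => by
    obtain ⟨i, hi⟩ := hgen ⟨x, hx⟩
    exact ⟨i, by simpa using congrArg Subtype.val hi⟩
  have hz : Subgroup.zpowers vC = P.subgroupOf (Subgroup.centralizer (Z : Set G)) := by
    refine le_antisymm (Subgroup.zpowers_le.2 (Subgroup.mem_subgroupOf.2 hv₀)) fun x hx => ?_
    obtain ⟨i, hi⟩ : (x : G) ∈ Subgroup.zpowers v₀ := by rw [hzG]; exact Subgroup.mem_subgroupOf.1 hx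
    exact ⟨i, Subtype.ext (by simpa using hi)⟩
  have hord : orderOf v₀ = p ^ a := by rw [← Nat.card_zpowers, hzG, ha]
  have hordC : orderOf vC = p ^ a := by rw [← Subgroup.orderOf_coe, hvC, hord]
  have hD : IsDefectGroup p M f (Subgroup.zpowers vC) := hz ▸ L.defectGroup
  have hab : ∀ x ∈ Subgroup.zpowers vC, ∀ y ∈ Subgroup.zpowers vC, x * y = y * x := fun x hx y hy =>
    Subtype.ext (L.base.comm _ (Subgroup.mem_subgroupOf.1 (hz ▸ hx)) _
      (Subgroup.mem_subgroupOf.1 (hz ▸ hy)))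
  have h0 : blockHeight p f (χ₀ : _ → ℂ) = 0 := by
    obtain ⟨N⟩ := exists_nilParam hM hS.2.2.2 hD hab
    obtain ⟨χ, hχ, hχ0⟩ := exists_height_zero (p := p) (IsPBlock.nonempty L.block)
    obtain ⟨μ, rfl⟩ := N.surj χ hχ
    obtain ⟨ν, rfl⟩ := N.surj χ₀ hχ₀
    simpa [blockHeight, charDegree, N.apply_one] using hχ0
  -- the pair
  have hPC : P ≤ Subgroup.centralizer (Z : Set G) := L.le_centralizer
  obtain ⟨⟨D', e₀⟩, hsame⟩ := exists_samePair_down (b := (⟨P, c⟩ : BrauerPairIdx G)) hPC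
    (centralizer_le_of_le L.Z_le)
  obtain rfl : D' = Subgroup.zpowers vC :=
    Subgroup.map_injective (Subgroup.centralizer (Z : Set G)).subtype_injective
      (hsame.1.trans (by rw [hz, Subgroup.map_subgroupOf_eq_of_le hPC]))
  have hn : IsNormalSubpair p M Z f P c :=
    (unique_below hM (Nat.card P) (Nat.sub_le _ _) L.base.isMaximal.1.1).1 f L.below
      (hPC.trans (centralizer_le_normalizer' Z))
  have hco : ∀ k : Subgroup.centralizer (Z : Set G), blockCoeff f k =
      subgroupBlockCoeff (Subgroup.centralizer (Z : Set G)) f (k : G) := fun k => by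
    unfold subgroupBlockCoeff
    rw [dif_pos k.2]
  have he₀ : IsBrauerPairOf p M f (Subgroup.zpowers vC) e₀ :=
    ⟨hsame.brauerPair_iff.2 hn.2.1, hn.1.2, (hsame.memLocalIdeal_iff hco).2 hn.2.2.2.2.2⟩
  obtain ⟨ch, hinj, hrange, hone, hform, heq⟩ := exists_chart hM hS.2.2.2 hordC hD he₀ hχ₀ h0
  refine ⟨ch, hinj, hrange, hone, hform, ?_⟩
  set e := (Subgroup.centralizer (Z : Set G)).relIndex (pairStab Z f) with he
  have hTP : pairStab P c ≤ pairStab Z f := by rw [hS.1]; exact le_sup_left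
  obtain ⟨-, Φc, hΦc, hm⟩ := hsame
  -- the action of the stabilizer of the maximal pair
  have hexp : ∀ x ∈ pairStab P c, ∃ k : ℕ, x * v₀ * x⁻¹ = v₀ ^ k := fun x hx => by
    have hmem : x * v₀ * x⁻¹ ∈ Subgroup.zpowers v₀ := by
      rw [hzG]
      exact (Subgroup.mem_normalizer_iff.1 (pairStab_le_normalizer P c hx) v₀).1 hv₀
    obtain ⟨k, hk⟩ := (isOfFinOrder_of_finite v₀).mem_powers_iff_mem_zpowers.2 hmem
    exact ⟨k, hk.symm⟩
  have hact : ∀ (x : G) (hx : x ∈ pairStab P c) (k : ℕ), x * v₀ * x⁻¹ = v₀ ^ k → ∀ ζ,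
      mapIrr (conjC _ (stabNorm (⟨x, hTP hx⟩ : pairStab Z f))) (ch ζ) = ch (ζ ^ k) := by
    intro x hx k hk
    obtain ⟨hxi, hst⟩ := stabilizesBlock_iff.1 (inv_mem hx).2
    let ψ' : Subgroup.centralizer (P : Set G) ≃* Subgroup.centralizer (P : Set G) :=
      conjC _ ⟨x, by simpa using inv_mem hxi⟩
    have hψ' : mapBlock ψ' c = c := by
      conv_rhs => rw [← hst]
      rw [conjSelf]
      congr 1
      exact MulEquiv.ext fun g => Subtype.ext (by rw [coe_conjC, conjEquiv_symm_apply]; simp)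
    let ψ := (Φc.trans ψ').trans Φc.symm
    refine heq _ ψ k (fun t => Subtype.ext ?_) ?_ (Subtype.ext ?_) (hfix _)
    · have h1 : Φc (ψ t) = ψ' (Φc t) := Φc.apply_symm_apply _
      rw [← hΦc, h1, coe_conjC, coe_conjC, hΦc]
      rfl
    · have hm' : mapBlock Φc c = e₀ := hm
      rw [← hm', mapBlock_mapBlock, show ψ.trans Φc = Φc.trans ψ' from MulEquiv.ext fun t =>
        Φc.apply_symm_apply _, ← mapBlock_mapBlock, hψ']
    · rw [coe_conjC, Subgroup.coe_pow]
      exact hk
  have htriv : ∀ (t : pairStab Z f), (t : G) ∈ Subgroup.centralizer (Z : Set G) → ∀ χ,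
      mapIrr (conjC _ (stabNorm t)) χ = χ := fun t ht χ => mapIrr_conjC_of_mem ht χ
  have hnorm : ((Subgroup.centralizer (Z : Set G)).subgroupOf (pairStab Z f)).Normal :=
    (Subgroup.normal_subgroupOf_iff_le_normalizer (centralizer_le_pairStab Z f)).2
      fun t ht => normalizer_le_normalizer_centralizer Z (pairStab_le_normalizer Z f ht)
  -- a primitive root tests the exponents
  have htest : ∀ k l : ℕ, (∀ ζ, ch (ζ ^ k) = ch (ζ ^ l)) → k ≡ l [MOD p ^ a] := by
    intro k l h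
    have : NeZero (p ^ a) := ⟨pow_ne_zero _ hp.ne_zero⟩
    have hprim := Complex.isPrimitiveRoot_exp (p ^ a) (pow_ne_zero _ hp.ne_zero)
    obtain ⟨z, hzu⟩ := hprim.isUnit (pow_ne_zero _ hp.ne_zero)
    rw [← hzu, IsPrimitiveRoot.coe_units_iff] at hprim
    have h1 := congrArg (fun ζ : rootsOfUnity (p ^ a) ℂ => (ζ : ℂˣ))
      (hinj (h ⟨z, (mem_rootsOfUnity _ _).2 hprim.pow_eq_one⟩))
    simp only [SubmonoidClass.coe_pow] at h1
    rwa [pow_eq_pow_iff_modEq, ← hprim.eq_orderOf] at h1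
  have hroot : ∀ (x : G) (hx : x ∈ pairStab P c) (k : ℕ), x * v₀ * x⁻¹ = v₀ ^ k →
      k ^ e ≡ 1 [MOD p ^ a] := by
    intro x hx k hk
    have hiter : ∀ n : ℕ, x ^ n * v₀ * (x ^ n)⁻¹ = v₀ ^ k ^ n := by
      intro n
      induction n with
      | zero => simp
      | succ n ih =>
        rw [pow_succ (k), pow_mul, ← ih, conj_pow, ← hk, pow_succ x]
        group
    have hmem : ((⟨x, hTP hx⟩ : pairStab Z f) ^ e : pairStab Z f) ∈
        (Subgroup.centralizer (Z : Set G)).subgroupOf (pairStab Z f) := by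
      rw [← QuotientGroup.eq_one_iff, QuotientGroup.mk_pow]
      exact pow_card_eq_one'
    refine htest _ _ fun ζ => ?_
    have h1 := hact (x ^ e) (pow_mem hx e) (k ^ e) (hiter e) ζ
    rw [htriv _ (by simpa using Subgroup.mem_subgroupOf.1 hmem)] at h1
    rw [pow_one, ← h1]
  have hsplit : ∀ t : pairStab Z f, ∃ x ∈ pairStab P c, ∀ χ,
      ∃ hx : x ∈ pairStab Z f, mapIrr (conjC _ (stabNorm t)) χ =
        mapIrr (conjC _ (stabNorm ⟨x, hx⟩)) χ := by
    intro t
    have ht : (t : G) ∈ ((pairStab P c ⊔ Subgroup.centralizer (Z : Set G) : Subgroup G) : Set G) := by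
      rw [SetLike.mem_coe, ← hS.1]; exact t.2
    rw [Subgroup.coe_mul_of_left_le_normalizer_right _ _
      (hTP.trans ((pairStab_le_normalizer Z f).trans (normalizer_le_normalizer_centralizer Z)))] at ht
    obtain ⟨x, hx, y, hy, hxy⟩ := Set.mem_mul.1 ht
    refine ⟨x, hx, fun χ => ⟨hTP hx, ?_⟩⟩
    rw [show t = (⟨x, hTP hx⟩ : pairStab Z f) * ⟨y, centralizer_le_pairStab Z f hy⟩ from
      Subtype.ext hxy.symm]
    exact (mapIrr_conjC_mul (stabNorm (⟨x, hTP hx⟩ : pairStab Z f)) (stabNorm _) χ).trans (htriv ⟨y, centralizer_le_pairStab Z f hy⟩ hy _)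
  intro ζ ζ'
  constructor
  · rintro ⟨t, ht⟩
    obtain ⟨x, hx, hxt⟩ := hsplit t
    obtain ⟨k, hk⟩ := hexp x hx
    obtain ⟨_, hxt⟩ := hxt (ch ζ)
    rw [hxt, hact x hx k hk] at ht
    exact ⟨k, hroot x hx k hk, (hinj ht).symm⟩
  · rintro ⟨k, hk, rfl⟩
    have ha1 : 1 ≤ a := by
      by_contra h0
      rw [show a = 0 by omega, pow_zero, Subgroup.card_eq_one] at ha
      exact L.base.ne_bot ha
    have : NeZero (p ^ a) := ⟨pow_ne_zero _ hp.ne_zero⟩
    have hee : e = (Subgroup.centralizer (P : Set G)).relIndex (pairStab P c) := hS.2.1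
    choose κ hκ using fun x : pairStab P c => hexp (x : G) x.2
    let g : pairStab P c ⧸ (Subgroup.centralizer (P : Set G)).subgroupOf (pairStab P c) →
        {m : ZMod (p ^ a) // m ^ e = 1} := fun q => ⟨(κ q.out : ZMod (p ^ a)), by
      rw [← Nat.cast_pow, ← Nat.cast_one, ZMod.natCast_eq_natCast_iff]
      exact hroot _ q.out.2 _ (hκ _)⟩
    have hg : Function.Injective g := by
      intro q q' h
      have h1 : ((κ q.out : ℕ) : ZMod (p ^ a)) = (κ q'.out : ℕ) := congrArg Subtype.val h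
      rw [ZMod.natCast_eq_natCast_iff, ← hord, ← pow_eq_pow_iff_modEq, ← hκ, ← hκ] at h1
      rw [← QuotientGroup.out_eq' q, ← QuotientGroup.out_eq' q', QuotientGroup.eq,
        Subgroup.mem_subgroupOf, Subgroup.coe_mul, Subgroup.coe_inv, Subgroup.mem_centralizer_iff]
      intro z hz
      obtain ⟨i, rfl⟩ : z ∈ Subgroup.zpowers v₀ := by rw [hzG]; exact hz
      have h2 := congrArg (fun w => ((q.out : pairStab P c) : G)⁻¹ * w * (q'.out : pairStab P c)) h1
      have h3 : Commute v₀ (((q.out : pairStab P c) : G)⁻¹ * (q'.out : pairStab P c)) := by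
        show _ * _ = _ * _
        simpa [mul_assoc] using h2
      exact (h3.zpow_left i).eq
    have hbij : Function.Bijective g := by
      refine hg.bijective_of_nat_card_le ((card_pow_eq_one_le ha1 ?_).trans ?_)
      · rw [hee]; exact L.base.free.1
      · rw [hee]; exact le_of_eq rfl
    obtain ⟨q, hq⟩ := hbij.2 ⟨(k : ZMod (p ^ a)), by
      rw [← Nat.cast_pow, ← Nat.cast_one, ZMod.natCast_eq_natCast_iff]; exact hk⟩
    have h1 : ((κ q.out : ℕ) : ZMod (p ^ a)) = (k : ℕ) := congrArg Subtype.val hq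
    rw [ZMod.natCast_eq_natCast_iff] at h1
    refine ⟨⟨_, hTP q.out.2⟩, (hact _ q.out.2 _ (hκ _) ζ).trans (congrArg ch ?_)⟩
    exact Subtype.ext (by
      simp only [SubmonoidClass.coe_pow]
      exact pow_eq_pow_iff_modEq.2 (Nat.ModEq.of_dvd (orderOf_dvd_of_pow_eq_one ζ.2) h1))

end LocalData

end CfsgLib.Blocks.Cyclic
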