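import Cfsg.Agent.Lib.Blocks.Cyclic.CorePair
import Cfsg.Agent.Lib.Blocks.Cyclic.CoreExists
import Cfsg.Agent.Lib.Blocks.Cyclic.Param
import Cfsg.Agent.Lib.Blocks.Cyclic.LowerBound

/-!
# Perfect isometries between blocks with cyclic defect groups of the same order and inertial index
-/

set_option autoImplicit false
set_option linter.unusedSectionVars false

namespace CfsgLib.Blocks.Cyclic

open Cfsg CfsgLib.Blocks CfsgLib.Pairs CfsgLib.Char CfsgLib.Star
open scoped Classical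

/-- The sum of the `m`-th powers of the roots of unity. -/
theorem sum_roots_pow {q : ℕ} [NeZero q] [Fintype (rootsOfUnity q ℂ)] (m : ℕ) :
    ∑ ζ : rootsOfUnity q ℂ, ((ζ : ℂˣ) : ℂ) ^ m = if q ∣ m then (q : ℂ) else 0 := by
  split_ifs with h
  · obtain ⟨r, rfl⟩ := h
    rw [Finset.sum_congr rfl (g := fun _ => (1 : ℂ)) fun ζ _ => by
      rw [pow_mul, ← Units.val_pow_eq_pow_val, (mem_rootsOfUnity _ _).1 ζ.2, Units.val_one, one_pow],
      Finset.sum_const, Finset.card_univ, nsmul_eq_mul, mul_one, ← Nat.card_eq_fintype_card,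
      Complex.card_rootsOfUnity]
  · have hprim := Complex.isPrimitiveRoot_exp q (NeZero.ne q)
    obtain ⟨z, hzu⟩ := hprim.isUnit (NeZero.ne q)
    rw [← hzu, IsPrimitiveRoot.coe_units_iff] at hprim
    set w : rootsOfUnity q ℂ := ⟨z, (mem_rootsOfUnity _ _).2 hprim.pow_eq_one⟩
    have h1 : ((z : ℂ)) ^ m ≠ 1 := fun e => h (by
      rw [← Units.val_pow_eq_pow_val, Units.val_eq_one] at e
      exact (hprim.pow_eq_one_iff_dvd m).1 e)
    have h2 : ((z : ℂ)) ^ m * ∑ ζ : rootsOfUnity q ℂ, ((ζ : ℂˣ) : ℂ) ^ m =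
        ∑ ζ : rootsOfUnity q ℂ, ((ζ : ℂˣ) : ℂ) ^ m := by
      rw [Finset.mul_sum]
      refine Fintype.sum_equiv (Equiv.mulLeft w) _ _ fun ζ => ?_
      simp [w, mul_pow]
    by_contra hne
    exact h1 (mul_right_cancel₀ hne (by rw [h2, one_mul]))

variable {G : Type*} [Group G] [Fintype G] {M : Ideal AlgInt} [M.IsPrime]

/-- The average over the cosets of a subgroup stays in a subring. -/
theorem average_mem (S : Subgroup G) (F : G → ℂ) (hF : ∀ g, F g ∈ localRing M)
    (hinv : ∀ k ∈ S, ∀ g, F (k * g) = F g) :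
    (Nat.card S : ℂ)⁻¹ * ∑ g, F g ∈ localRing M := by
  have : Fintype (G ⧸ S) := Fintype.ofFinite _
  have : Fintype S := Fintype.ofFinite S
  rw [← Fintype.sum_equiv (Equiv.inv G) (fun g => F g⁻¹) F fun g => rfl,
    ← Fintype.sum_bijective (fun y : (G ⧸ S) × S => Quotient.out y.1 * y.2)
      ⟨fun y y' h => ?_, fun g => ⟨((g : G ⧸ S), ⟨(Quotient.out (g : G ⧸ S))⁻¹ * g,
        QuotientGroup.eq.1 (QuotientGroup.out_eq' _)⟩), by simp⟩⟩
      (fun y : (G ⧸ S) × S => F ((Quotient.out y.1 * y.2)⁻¹)) (fun g => F g⁻¹) (fun y => rfl),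
    Fintype.sum_prod_type, Finset.sum_congr rfl (g := fun y => (Nat.card S : ℂ) * F (Quotient.out y)⁻¹)
      fun y _ => by
        rw [Finset.sum_congr rfl (g := fun _ : S => F (Quotient.out y)⁻¹) fun k _ => by
            rw [mul_inv_rev, hinv _ (inv_mem k.2)],
          Finset.sum_const, Finset.card_univ, nsmul_eq_mul, Nat.card_eq_fintype_card],
    ← Finset.mul_sum, inv_mul_cancel_left₀ (Nat.cast_ne_zero.2 Nat.card_pos.ne')]
  · exact sum_mem fun y _ => hF _
  · have h' : Quotient.out y.1 * y.2 = Quotient.out y'.1 * y'.2 := h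
    have h1 := congrArg (fun g : G => (g : G ⧸ S)) h'
    simp only [QuotientGroup.mk_mul_of_mem _ y.2.2, QuotientGroup.mk_mul_of_mem _ y'.2.2,
      QuotientGroup.out_eq'] at h1
    exact Prod.ext h1 (Subtype.ext (by rw [h1] at h'; exact mul_left_cancel h'))

omit [Fintype G] in
theorem card_centralizer_inv_mul (g u : G) :
    Nat.card (Subgroup.centralizer ({u⁻¹ * g * u} : Set G)) =
      Nat.card (Subgroup.centralizer ({g} : Set G)) := by
  refine Nat.card_congr (Equiv.subtypeEquiv (MulAut.conj u).toEquiv fun w => ?_)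
  rw [MulEquiv.toEquiv_eq_coe, EquivLike.coe_coe, Subgroup.mem_centralizer_singleton_iff,
    Subgroup.mem_centralizer_singleton_iff]
  constructor <;> intro h
  · have := congrArg (MulAut.conj u) h
    simpa [mul_assoc] using this
  · have := congrArg (MulAut.conj u⁻¹) h
    simpa [mul_assoc] using this

variable {p : ℕ} [Fact p.Prime]

namespace LocalData

variable {B : Set (IrrCharacter G)} {P : Subgroup G}
  {c : Set (IrrCharacter (Subgroup.centralizer (P : Set G)))}
  {Z : Subgroup G} {f : Set (IrrCharacter (Subgroup.centralizer (Z : Set G)))}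
  (L : LocalData p M B P c Z f)
include L

theorem card_centralizer_conj {g : G} (hg : Sing p P Z g) (x : Subgroup.normalizer (Z : Set G)) :
    Nat.card (Subgroup.centralizer ({conjC _ ⟨(x : G), normalizer_le_normalizer_centralizer Z x.2⟩
        (⟨g, L.sing_mem hg⟩ : Subgroup.centralizer (Z : Set G))} :
          Set (Subgroup.centralizer (Z : Set G)))) =
      Nat.card (Subgroup.centralizer ({g} : Set G)) := by
  have hsub : ∀ w ∈ Subgroup.centralizer ({g} : Set G), w ∈ Subgroup.centralizer (Z : Set G) := by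
    intro w hw
    obtain ⟨z, hz⟩ := exists_pPart (Fact.out : p.Prime) g
    refine L.centralizer_pPart_le hg hz (mem_centralizer_singleton.2 ?_)
    obtain ⟨y, hy1, hy2, hk, hy3⟩ := id hz
    have hwg : Commute w g := Subgroup.mem_centralizer_singleton_iff.1 hw
    have h1 := isPPart_conj w hz
    rw [hwg.eq, mul_inv_cancel_right] at h1
    exact mul_inv_eq_iff_eq_mul.1 (pPart_unique (Fact.out : p.Prime) h1 hz)
  set n : Subgroup.normalizer ((Subgroup.centralizer (Z : Set G) : Subgroup G) : Set G) :=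
    ⟨(x : G), normalizer_le_normalizer_centralizer Z x.2⟩
  set k : Subgroup.centralizer (Z : Set G) := ⟨g, L.sing_mem hg⟩
  refine (Nat.card_congr (Equiv.ofBijective (fun w : Subgroup.centralizer ({g} : Set G) =>
    (⟨conjC _ n ⟨(w : G), hsub _ w.2⟩, Subgroup.mem_centralizer_singleton_iff.2 (by
      rw [← map_mul, ← map_mul]
      exact congrArg _ (Subtype.ext (Subgroup.mem_centralizer_singleton_iff.1 w.2)))⟩ :
      Subgroup.centralizer ({conjC _ n k} : Set (Subgroup.centralizer (Z : Set G)))))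
    ⟨fun w w' h => ?_, fun w => ?_⟩)).symm
  · exact Subtype.ext (congrArg (fun z : Subgroup.centralizer (Z : Set G) => (z : G))
      ((conjC _ n).injective (congrArg Subtype.val h)))
  · obtain ⟨w₀, hw₀⟩ := (conjC _ n).surjective (w : Subgroup.centralizer (Z : Set G))
    have hc : Commute w₀ k := by
      refine (conjC _ n).injective ?_
      rw [map_mul, map_mul, hw₀]
      exact Subgroup.mem_centralizer_singleton_iff.1 w.2
    exact ⟨⟨(w₀ : G), Subgroup.mem_centralizer_singleton_iff.2 (congrArg Subtype.val hc.eq)⟩,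
      Subtype.ext hw₀⟩

end LocalData

variable {H : Type*} [Group H] [Fintype H] [Fintype (IrrCharacter G)] [Fintype (IrrCharacter H)]
  {B : Set (IrrCharacter G)} {P : Subgroup G}
  {c : Set (IrrCharacter (Subgroup.centralizer (P : Set G)))}
  {Z : Subgroup G} {f : Set (IrrCharacter (Subgroup.centralizer (Z : Set G)))}
  {b : Set (IrrCharacter H)} {Q : Subgroup H}
  {c' : Set (IrrCharacter (Subgroup.centralizer (Q : Set H)))}
  {Z' : Subgroup H} {f' : Set (IrrCharacter (Subgroup.centralizer (Z' : Set H)))}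

/-- **Blocks with cyclic defect groups of the same order and inertial index are perfectly
isometric**, the signs agreeing on the characters with non-constant differences. -/
theorem exists_perfectIsometry (L : LocalData p M B P c Z f) (L' : LocalData p M b Q c' Z' f')
    {a : ℕ} (ha : Nat.card P = p ^ a) (ha' : Nat.card Q = p ^ a)
    (he : (Subgroup.centralizer (P : Set G)).relIndex (pairStab P c) =
      (Subgroup.centralizer (Q : Set H)).relIndex (pairStab Q c'))
    {χ₀' : IrrCharacter (Subgroup.centralizer (Z' : Set H))} (hχ₀' : χ₀' ∈ f')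
    (hfix' : ∀ t : pairStab Z' f', mapIrr (conjC _ (LocalData.stabNorm t)) χ₀' = χ₀')
    (hfree' : ∀ χ ∈ f', χ ≠ χ₀' → ∀ t : pairStab Z' f',
      mapIrr (conjC _ (LocalData.stabNorm t)) χ = χ → (t : H) ∈ Subgroup.centralizer (Z' : Set H)) :
    ∃ (I : IrrCharacter H → IrrCharacter G) (ε : IrrCharacter H → ℤ),
      IsPerfectIsometry p M b B I ε ∧ Nat.card b = Nat.card B ∧ blockRank p b = blockRank p B ∧
      ∃ (n : ℕ) (d : Fin n → IrrCharacter H → ℤ) (ρ : Fin n → IrrCharacter (Subgroup.centralizer (Z' : Set H))),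
        (Subgroup.centralizer (Q : Set H)).relIndex (pairStab Q c') * n + 1 = p ^ a ∧
        (∀ j, ρ j ∈ f' ∧ ρ j ≠ χ₀') ∧
        (∀ h : IrrCharacter (Subgroup.centralizer (Z' : Set H)) → ℂ, h χ₀' = 0 →
          (∀ x : pairStab Z' f', ∀ μ ∈ f', h (mapIrr (conjC _ (LocalData.stabNorm x)) μ) = h μ) →
          ∑ μ ∈ (Set.toFinite f').toFinset, h μ =
            ((Subgroup.centralizer (Q : Set H)).relIndex (pairStab Q c') : ℂ) * ∑ j, h (ρ j)) ∧
        (∀ j (η : IrrCharacter H), classInner (dif (ρ j) χ₀')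
          (fun k : Subgroup.centralizer (Z' : Set H) => (η : H → ℂ) k) = (d j η : ℂ)) ∧
        ∀ η ∈ b, ∀ η' ∈ b, (∃ i j, d i η ≠ d j η) → (∃ i j, d i η' ≠ d j η') → ε η = ε η' := by
  have hM := L.base.modular
  have hp := (Fact.out : p.Prime)
  have hq0 : NeZero (p ^ a) := ⟨pow_ne_zero _ hp.ne_zero⟩
  have : Fintype (rootsOfUnity (p ^ a) ℂ) := Fintype.ofFinite _
  have := Fintype.ofFinite (IrrCharacter (Subgroup.centralizer (Z : Set G)))
  have := Fintype.ofFinite (IrrCharacter (Subgroup.centralizer (Z' : Set H)))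
  obtain ⟨χ₀, hχ₀, hfix, hfree⟩ := L.exists_fixed'
  obtain ⟨ch, hinj, hrange, hone, hform, horb⟩ := L.exists_param ha hχ₀ hfix
  obtain ⟨ch', hinj', hrange', hone', hform', horb'⟩ := L'.exists_param ha' hχ₀' hfix'
  obtain ⟨n, ρ, hn, hρ, hρinj, hρsum⟩ := L.exists_reps hχ₀ hfix hfree
  have hee : (Subgroup.centralizer (Z : Set G)).relIndex (pairStab Z f) =
      (Subgroup.centralizer (Z' : Set H)).relIndex (pairStab Z' f') := by
    rw [L.s4645.2.1, L'.s4645.2.1, he]
  set e := (Subgroup.centralizer (Z' : Set H)).relIndex (pairStab Z' f') with hedef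
  rw [hee] at hn hρsum horb
  have hrel : ∀ ζ ζ', (∃ t : pairStab Z f, mapIrr (conjC _ (LocalData.stabNorm t)) (ch ζ) = ch ζ') ↔
      ∃ t : pairStab Z' f', mapIrr (conjC _ (LocalData.stabNorm t)) (ch' ζ) = ch' ζ' := fun ζ ζ' =>
    (horb ζ ζ').trans (horb' ζ ζ').symm
  have hmem : ∀ ζ, ch ζ ∈ f := fun ζ => hrange ▸ ⟨ζ, rfl⟩
  have hmem' : ∀ ζ, ch' ζ ∈ f' := fun ζ => hrange' ▸ ⟨ζ, rfl⟩
  choose r hr using fun j => (hrange ▸ (hρ j).1 : ρ j ∈ Set.range ch)
  set ρ' := fun j => ch' (r j) with hρ'def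
  have hρ' : ∀ j, ρ' j ∈ f' ∧ ρ' j ≠ χ₀' := fun j => ⟨hrange' ▸ ⟨r j, rfl⟩, fun h => (hρ j).2 (by
    rw [← hr j, show r j = 1 from hinj' (h.trans hone'.symm), hone])⟩
  have hρinj' : ∀ i j (x : pairStab Z' f'),
      mapIrr (conjC _ (LocalData.stabNorm x)) (ρ' j) = ρ' i → i = j := fun i j x hx => by
    obtain ⟨t, ht⟩ := (hrel (r j) (r i)).2 ⟨x, hx⟩
    rw [hr, hr] at ht
    exact hρinj i j t ht
  have hsumf : ∀ (h : IrrCharacter (Subgroup.centralizer (Z : Set G)) → ℂ),
      ∑ μ ∈ (Set.toFinite f).toFinset, h μ = ∑ ζ, h (ch ζ) := fun h =>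
    (Finset.sum_bij (fun ζ _ => ch ζ)
      (fun ζ _ => (Set.Finite.mem_toFinset _).2 (hrange ▸ ⟨ζ, rfl⟩)) (fun _ _ _ _ h => hinj h)
      (fun μ hμ => by
        obtain ⟨ζ, hζ⟩ : μ ∈ Set.range ch := hrange ▸ (Set.Finite.mem_toFinset _).1 hμ
        exact ⟨ζ, Finset.mem_univ _, hζ⟩) fun _ _ => rfl).symm
  have hsumf' : ∀ (h : IrrCharacter (Subgroup.centralizer (Z' : Set H)) → ℂ),
      ∑ μ ∈ (Set.toFinite f').toFinset, h μ = ∑ ζ, h (ch' ζ) := fun h =>
    (Finset.sum_bij (fun ζ _ => ch' ζ)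
      (fun ζ _ => (Set.Finite.mem_toFinset _).2 (hrange' ▸ ⟨ζ, rfl⟩)) (fun _ _ _ _ h => hinj' h)
      (fun μ hμ => by
        obtain ⟨ζ, hζ⟩ : μ ∈ Set.range ch' := hrange' ▸ (Set.Finite.mem_toFinset _).1 hμ
        exact ⟨ζ, Finset.mem_univ _, hζ⟩) fun _ _ => rfl).symm
  -- functions on the roots constant on the orbits
  have hsumζ : ∀ F : rootsOfUnity (p ^ a) ℂ → ℂ, F 1 = 0 →
      (∀ ζ ζ', (∃ t : pairStab Z f, mapIrr (conjC _ (LocalData.stabNorm t)) (ch ζ) = ch ζ') →
        F ζ' = F ζ) → ∑ ζ, F ζ = (e : ℂ) * ∑ j, F (r j) := by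
    intro F hF1 hF
    let h : IrrCharacter (Subgroup.centralizer (Z : Set G)) → ℂ := fun μ => F (Function.invFun ch μ)
    have hh : ∀ ζ, h (ch ζ) = F ζ := fun ζ => by
      simp only [h, Function.leftInverse_invFun hinj ζ]
    have h1 := hρsum h (by rw [← hone, hh, hF1]) fun x μ hμ => by
      obtain ⟨ζ, rfl⟩ : μ ∈ Set.range ch := hrange ▸ hμ
      obtain ⟨ζ', hζ'⟩ : mapIrr (conjC _ (LocalData.stabNorm x)) (ch ζ) ∈ Set.range ch :=
        hrange ▸ LocalData.mapIrr_mem x hμ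
      rw [← hζ', hh, hh]
      exact hF ζ ζ' ⟨x, hζ'.symm⟩
    rw [hsumf] at h1
    simpa [hh, ← hr] using h1
  have hρsum' : ∀ h : IrrCharacter (Subgroup.centralizer (Z' : Set H)) → ℂ, h χ₀' = 0 →
      (∀ x : pairStab Z' f', ∀ μ ∈ f', h (mapIrr (conjC _ (LocalData.stabNorm x)) μ) = h μ) →
      ∑ μ ∈ (Set.toFinite f').toFinset, h μ = (e : ℂ) * ∑ j, h (ρ' j) := fun h h0 hh => by
    rw [hsumf', hsumζ (fun ζ => h (ch' ζ)) (by rw [hone', h0]) fun ζ ζ' hex => by
      obtain ⟨x, hx⟩ := (hrel ζ ζ').1 hex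
      rw [← hx, hh x _ (hrange' ▸ ⟨ζ, rfl⟩)]]
  obtain ⟨cc, K, hcc, hgam, hinv⟩ := L.core_of_reps ha hχ₀ hfix hfree ρ (hee ▸ hn) hρ hρinj
    (by rw [hee]; exact hρsum)
  obtain ⟨cc', K', hcc', hgam', hinv'⟩ := L'.core_of_reps ha' hχ₀' hfix' hfree' ρ'
    (by rw [ha', ← ha]; exact hn) hρ' hρinj' hρsum'
  rw [he] at K
  obtain ⟨I, ε, Φ, hcard, hrank, hext⟩ := K.exists_matched K' hM L.base.block L'.base.block
    (he ▸ L.base.le_blockRank) L'.base.le_blockRank
  refine ⟨I, ε, Φ.isPerfectIsometry K K' hM fun x y hx hy => ?_, hcard, hrank, n,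
    fun j => cc' (ρ' j), ρ', K'.eq_pow, hρ', ?_, fun j η => hcc' (ρ' j) η, hext⟩
  swap
  · rw [← L'.s4645.2.1]; exact hρsum'
  by_cases hex : ∃ u : G, LocalData.Sing p P Z (u⁻¹ * x * u)
  swap
  · push Not at hex
    rw [Φ.kernel_of_singular K K' hx y, Finset.sum_eq_zero fun j _ => by
      rw [hgam, L.indFun_dif_eq_zero (hρ j).1 hχ₀ hex, zero_mul]]
    simp [zero_mem]
  by_cases hey : ∃ u : H, LocalData.Sing p Q Z' (u⁻¹ * y * u)
  swap
  · push Not at hey
    rw [Φ.kernel_of_singular K K' hx y, Finset.sum_eq_zero fun j _ => by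
      simp [hgam', L'.indFun_dif_eq_zero (hρ' _).1 hχ₀' hey]]
    simp [zero_mem]
  obtain ⟨u, hu⟩ := hex
  obtain ⟨w, hw⟩ := hey
  have hgx : ∀ μ, gam (cc μ) x = gam (cc μ) (u⁻¹ * x * u) := fun μ => by
    rw [hgam, ← isClassFunction_indFun _ _ x u⁻¹, inv_inv]
  have hgy : ∀ μ, gam (cc' μ) y = gam (cc' μ) (w⁻¹ * y * w) := fun μ => by
    rw [hgam', ← isClassFunction_indFun _ _ y w⁻¹, inv_inv]
  have hcx := (card_centralizer_inv_mul x u).symm
  have hcy := (card_centralizer_inv_mul y w).symm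
  set X := fun m : Subgroup.normalizer (Z : Set G) =>
    conjC _ ⟨(m : G), normalizer_le_normalizer_centralizer Z m.2⟩
      (⟨_, L.sing_mem hu⟩ : Subgroup.centralizer (Z : Set G)) with hX
  set Y := fun m : Subgroup.normalizer (Z' : Set H) =>
    conjC _ ⟨(m : H), normalizer_le_normalizer_centralizer Z' m.2⟩
      (⟨_, L'.sing_mem hw⟩ : Subgroup.centralizer (Z' : Set H)) with hY
  have hY0 : ∀ m, ∑ ζ, (ch' ζ : _ → ℂ) (Y m) = 0 := fun m => by
    rw [← hsumf' (fun μ => (μ : _ → ℂ) (Y m))]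
    refine L'.sum_block_eq_zero ?_
    rw [hY, MulEquiv.orderOf_eq, ← Subgroup.orderOf_coe]
    exact L'.sing_dvd hw
  set q : ℂ := (p : ℂ) ^ a with hq
  have hqne : q ≠ 0 := pow_ne_zero _ (Nat.cast_ne_zero.2 hp.ne_zero)
  have hqc : (Fintype.card (rootsOfUnity (p ^ a) ℂ) : ℂ) = q := by
    rw [← Nat.card_eq_fintype_card, Complex.card_rootsOfUnity, Nat.cast_pow]
  set K₀ := fun (m : Subgroup.normalizer (Z : Set G)) (m' : Subgroup.normalizer (Z' : Set H)) =>
    ∑ ζ, (ch ζ : _ → ℂ) (X m) * (ch' ζ : _ → ℂ) (Y m') with hK₀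
  set nC : ℂ := (Nat.card (Subgroup.centralizer (Z : Set G)) : ℂ)⁻¹
  set nC' : ℂ := (Nat.card (Subgroup.centralizer (Z' : Set H)) : ℂ)⁻¹
  have hmain : (e : ℂ) * signedBijectionKernel b I ε x y =
      ∑ m, ∑ m', nC * nC' * K₀ m m' := by
    rw [Φ.kernel_of_singular K K' hx y]
    set F := fun ζ => gam (cc (ch ζ)) x * (gam (cc' (ch' ζ)) y - q⁻¹ * ∑ ξ, gam (cc' (ch' ξ)) y)
      with hF
    have hG0 : ∀ g, gam (cc χ₀) g = 0 := fun g => by
      rw [hgam, show dif χ₀ χ₀ = 0 from sub_self _, indFun_zero]; rfl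
    have hG0' : ∀ g, gam (cc' χ₀') g = 0 := fun g => by
      rw [hgam', show dif χ₀' χ₀' = 0 from sub_self _, indFun_zero]; rfl
    have hcong : ∀ ζ ζ', (∃ t : pairStab Z f, mapIrr (conjC _ (LocalData.stabNorm t)) (ch ζ) = ch ζ') →
        cc (ch ζ') = cc (ch ζ) ∧ cc' (ch' ζ') = cc' (ch' ζ) := fun ζ ζ' hex => by
      obtain ⟨x', hx'⟩ := (hrel ζ ζ').1 hex
      obtain ⟨x, hx⟩ := hex
      exact ⟨hx ▸ hinv x _, hx' ▸ hinv' x' _⟩
    have hF1 := hsumζ F (by simp [F, hone, hG0]) fun ζ ζ' hex => by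
      simp [F, (hcong ζ ζ' hex).1, (hcong ζ ζ' hex).2]
    have hG1 := hsumζ (fun ζ => gam (cc' (ch' ζ)) y) (by simp [hone', hG0']) fun ζ ζ' hex => by
      simp [(hcong ζ ζ' hex).2]
    rw [Finset.mul_sum]
    calc ∑ j, (e : ℂ) * (gam (cc (ρ j)) x * (gam (cc' (ρ' j)) y - _ * ∑ i, gam (cc' (ρ' i)) y))
        = ∑ ζ, F ζ := by
          rw [hF1, Finset.mul_sum (f := fun j => F (r j))]
          refine Finset.sum_congr rfl fun j _ => ?_
          simp only [F, hr, hG1, ρ', L'.s4645.2.1.symm, ← hedef]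
          ring
      _ = ∑ ζ, (nC * ∑ m, ((ch ζ : _ → ℂ) (X m) - (χ₀ : _ → ℂ) (X m))) *
            (nC' * ∑ m', (ch' ζ : _ → ℂ) (Y m')) := by
          have hy1 : ∀ ξ, gam (cc' (ch' ξ)) y =
              nC' * ∑ m', ((ch' ξ : _ → ℂ) (Y m') - (χ₀' : _ → ℂ) (Y m')) := fun ξ => by
            rw [hgy, hgam', L'.indFun_dif (hmem' ξ) hχ₀' hw]
            rfl
          have hx1 : ∀ ξ, gam (cc (ch ξ)) x =
              nC * ∑ m, ((ch ξ : _ → ℂ) (X m) - (χ₀ : _ → ℂ) (X m)) := fun ξ => by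
            rw [hgx, hgam, L.indFun_dif (hmem ξ) hχ₀ hu]
            rfl
          refine Finset.sum_congr rfl fun ζ _ => ?_
          simp only [F, hy1, hx1]
          congr 1
          rw [← Finset.mul_sum, Finset.sum_comm (s := Finset.univ (α := rootsOfUnity (p ^ a) ℂ))]
          simp only [Finset.sum_sub_distrib, hY0, Finset.sum_const, Finset.card_univ, nsmul_eq_mul,
            hqc, ← Finset.mul_sum]
          field_simp
          ring
      _ = _ := by
          simp only [Finset.mul_sum, Finset.sum_mul]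
          rw [Finset.sum_comm]
          conv_rhs => rw [Finset.sum_comm]
          refine Finset.sum_congr rfl fun m' _ => ?_
          rw [Finset.sum_comm]
          refine Finset.sum_congr rfl fun m _ => ?_
          rw [hK₀, Finset.mul_sum, ← sub_eq_zero, ← Finset.sum_sub_distrib,
            Finset.sum_congr rfl (g := fun ζ => -(nC * nC' * (χ₀ : _ → ℂ) (X m)) * (ch' ζ : _ → ℂ) (Y m'))
              fun ζ _ => by ring, ← Finset.mul_sum, hY0, mul_zero]
  have hK : ∀ m m', K₀ m m' / (Nat.card (Subgroup.centralizer ({x} : Set G)) : ℂ) ∈ localRing M ∧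
      K₀ m m' / (Nat.card (Subgroup.centralizer ({y} : Set H)) : ℂ) ∈ localRing M := by
    intro m m'
    obtain ⟨φ, hφ, hφ'⟩ := hform (X m)
    obtain ⟨ψ, hψ, hψ'⟩ := hform' (Y m')
    have hK' : K₀ m m' = ∑ i : Fin (p ^ a), ∑ j : Fin (p ^ a),
        (if p ^ a ∣ (i : ℕ) + j then ((p ^ a : ℕ) : ℂ) else 0) * φ i * ψ j := by
      simp only [K₀, hφ', hψ', Finset.sum_mul_sum]
      rw [Finset.sum_comm]
      refine Finset.sum_congr rfl fun i _ => ?_
      rw [Finset.sum_comm]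
      refine Finset.sum_congr rfl fun j _ => ?_
      rw [← sum_roots_pow, Finset.sum_mul, Finset.sum_mul]
      exact Finset.sum_congr rfl fun ζ _ => by rw [pow_add]; ring
    rw [hK']
    simp only [Finset.sum_div]
    refine ⟨sum_mem fun i _ => sum_mem fun j _ => ?_, sum_mem fun i _ => sum_mem fun j _ => ?_⟩
    · split_ifs
      · have h := mul_mem (hφ i).2 (hψ j).1
        rw [L.card_centralizer_conj hu m, ← hcx] at h
        convert h using 1; ring
      · simp [zero_mem]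
    · split_ifs
      · have h := mul_mem (hψ j).2 (hφ i).1
        rw [L'.card_centralizer_conj hw m', ← hcy] at h
        convert h using 1; ring
      · simp [zero_mem]
  have hXinv : ∀ k ∈ (Subgroup.centralizer (Z : Set G)).subgroupOf (Subgroup.normalizer (Z : Set G)),
      ∀ m ζ, (ch ζ : _ → ℂ) (X (k * m)) = (ch ζ : _ → ℂ) (X m) := by
    intro k hk m ζ
    rw [show X (k * m) = ⟨(k : G), hk⟩ * X m * (⟨(k : G), hk⟩ : Subgroup.centralizer (Z : Set G))⁻¹ from
      Subtype.ext (by simp only [X, coe_conjC, Subgroup.coe_mul, Subgroup.coe_inv]; group)]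
    exact IsIrr.isClassFunction (ch ζ).2 _ _
  have hYinv : ∀ k ∈ (Subgroup.centralizer (Z' : Set H)).subgroupOf (Subgroup.normalizer (Z' : Set H)),
      ∀ m ζ, (ch' ζ : _ → ℂ) (Y (k * m)) = (ch' ζ : _ → ℂ) (Y m) := by
    intro k hk m ζ
    rw [show Y (k * m) = ⟨(k : H), hk⟩ * Y m * (⟨(k : H), hk⟩ : Subgroup.centralizer (Z' : Set H))⁻¹ from
      Subtype.ext (by simp only [Y, coe_conjC, Subgroup.coe_mul, Subgroup.coe_inv]; group)]
    exact IsIrr.isClassFunction (ch' ζ).2 _ _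
  have hcC : Nat.card ((Subgroup.centralizer (Z : Set G)).subgroupOf (Subgroup.normalizer (Z : Set G))) =
      Nat.card (Subgroup.centralizer (Z : Set G)) :=
    Nat.card_congr (Subgroup.subgroupOfEquivOfLe (centralizer_le_normalizer' Z)).toEquiv
  have hcC' : Nat.card ((Subgroup.centralizer (Z' : Set H)).subgroupOf (Subgroup.normalizer (Z' : Set H))) =
      Nat.card (Subgroup.centralizer (Z' : Set H)) :=
    Nat.card_congr (Subgroup.subgroupOfEquivOfLe (centralizer_le_normalizer' Z')).toEquiv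
  have hef : ¬ p ∣ e := by rw [hedef, L'.s4645.2.1]; exact K'.not_dvd.1
  have hinve : (e : ℂ)⁻¹ ∈ localRing M := inv_natCast_mem hM hef
  have hene : (e : ℂ) ≠ 0 := Nat.cast_ne_zero.2 fun h => hef (h ▸ dvd_zero p)
  have key : ∀ D : ℂ, (∀ m m', K₀ m m' / D ∈ localRing M) →
      signedBijectionKernel b I ε x y / D ∈ localRing M := by
    intro D hD
    have h1 : ∀ m, nC' * ∑ m', K₀ m m' / D ∈ localRing M := fun m => by
      have := average_mem ((Subgroup.centralizer (Z' : Set H)).subgroupOf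
        (Subgroup.normalizer (Z' : Set H))) (fun m' => K₀ m m' / D) (hD m)
        fun k hk m' => by simp only [K₀, hYinv k hk m']
      rwa [hcC'] at this
    have h2 : nC * ∑ m, nC' * ∑ m', K₀ m m' / D ∈ localRing M := by
      have := average_mem ((Subgroup.centralizer (Z : Set G)).subgroupOf
        (Subgroup.normalizer (Z : Set G))) (fun m => nC' * ∑ m', K₀ m m' / D) h1
        fun k hk m => by simp only [K₀, hXinv k hk m]
      rwa [hcC] at this
    rw [show signedBijectionKernel b I ε x y = (e : ℂ)⁻¹ * ((e : ℂ) * signedBijectionKernel b I ε x y)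
      by rw [inv_mul_cancel_left₀ hene], hmain, mul_div_assoc]
    refine mul_mem hinve ?_
    convert h2 using 1
    simp only [Finset.sum_div, Finset.mul_sum]
    exact Finset.sum_congr rfl fun m _ => Finset.sum_congr rfl fun m' _ => by ring
  exact ⟨key _ fun m m' => (hK m m').1, key _ fun m m' => (hK m m').2⟩

end CfsgLib.Blocks.Cyclic
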