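import Cfsg.Agent.Lib.Blocks.Cyclic.SimpleModule
import Cfsg.Agent.Lib.Blocks.PrimeSylow.Endo

/-!
# Layers of modules over a component with truncated polynomial corner

The deepest layer of the kernel of `X` outside the top power lifts to endomorphisms. With a group
acting semilinearly, this separates twisted copies of the simple module.
-/

set_option autoImplicit false

namespace CfsgLib.Blocks.Cyclic

variable {k A : Type*} [Field k] [Ring A] [Algebra k A] {q : ℕ} {f X ε : A}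
  {W : Type*} [AddCommGroup W] [Module k W]

/-- Linear maps between two modules commuting with the algebra. -/
def IsEquivariant {V : Type*} [AddCommGroup V] [Module k V] (S : A →ₐ[k] Module.End k V)
    (R : A →ₐ[k] Module.End k W) (L : V →ₗ[k] W) : Prop :=
  ∀ a v, L (S a v) = R a (L v)

namespace IsEquivariant

variable {V : Type*} [AddCommGroup V] [Module k V] {S : A →ₐ[k] Module.End k V}
  {R : A →ₐ[k] Module.End k W} {L : V →ₗ[k] W}

theorem map_range (hL : IsEquivariant S R L) {a : A} {v : V}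
    (hv : v ∈ LinearMap.range (S a)) : L v ∈ LinearMap.range (R a) := by
  obtain ⟨u, rfl⟩ := hv
  exact ⟨L u, (hL a u).symm⟩

end IsEquivariant

namespace LocalAlg

variable (h : LocalAlg (k := k) q f X ε) (R : A →ₐ[k] Module.End k W)
include h

theorem apply_pow_comm (n : ℕ) (a : A) (v : W) : R (X ^ n) (R a v) = R a (R (X ^ n) v) := by
  rw [← Module.End.mul_apply, ← map_mul, (h.central_pow n a).eq, map_mul, Module.End.mul_apply]

theorem apply_X_comm (a : A) (v : W) : R X (R a v) = R a (R X v) := by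
  simpa using h.apply_pow_comm R 1 a v

theorem apply_mem_range_pow {n : ℕ} (a : A) {v : W} (hv : v ∈ LinearMap.range (R (X ^ n))) :
    R a v ∈ LinearMap.range (R (X ^ n)) := by
  obtain ⟨u, rfl⟩ := hv
  exact ⟨R a u, h.apply_pow_comm R n a u⟩

/-- The deepest layer, with lifts to endomorphisms over the algebra. -/
theorem exists_lifts {w₀ : W} (hε₀ : R ε w₀ = w₀) (hX₀ : R X w₀ = 0)
    (hσ₀ : w₀ ∉ LinearMap.range (R (X ^ (q - 1)))) :
    ∃ (s : ℕ) (f₀ : W →ₗ[k] W),
      (∃ m, R ε m = m ∧ R X m = 0 ∧ m ∈ LinearMap.range (R (X ^ s)) ∧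
        m ∉ LinearMap.range (R (X ^ (q - 1)))) ∧
      (∀ v, R ε (f₀ v) = f₀ v ∧ R X (f₀ v) = 0 ∧ f₀ v ∈ LinearMap.range (R (X ^ s))) ∧
      (∀ m, R ε m = m → R X m = 0 → m ∈ LinearMap.range (R (X ^ s)) →
        f₀ m - m ∈ LinearMap.range (R (X ^ (q - 1)))) ∧
      ∀ g : W →ₗ[k] W, ∃ φ : Module.End k W, IsEquivariant R R φ ∧
        (∀ v, φ (R f v) = φ v) ∧ (∀ v, R f (φ v) = φ v) ∧
        ∀ w, R ε w = w → R X w = 0 → φ w = f₀ (g (f₀ w)) := by
  classical
  obtain ⟨m, u, v, hf⟩ := h.full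
  set N : Submodule k W := LinearMap.range (R ε)
  have hmemN : ∀ {w : W}, w ∈ N ↔ R ε w = w := fun {w} =>
    ⟨by rintro ⟨z, rfl⟩; rw [← Module.End.mul_apply, ← map_mul, h.idem], fun hw => ⟨w, hw⟩⟩
  set X' : Module.End k N := (R X).restrict (p := N) (q := N)
    fun w hw => hmemN.2 (by rw [← h.apply_X_comm, hmemN.1 hw]) with hX'def
  have hpow : ∀ (n : ℕ) (w : N), (((X' ^ n) w : N) : W) = R (X ^ n) (w : W) := by
    intro n
    induction n with
    | zero => intro w; simp
    | succ n ih =>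
      intro w
      rw [pow_succ, Module.End.mul_apply, ih, pow_succ, map_mul, Module.End.mul_apply]
      rfl
  let π : W →ₗ[k] N := (R ε).codRestrict N fun w => ⟨w, rfl⟩
  have hπ : ∀ w, R ε w = w → ∀ hw : w ∈ N, π w = ⟨w, hw⟩ := fun w hw _ => Subtype.ext hw
  have h2 := h.two_le
  have hnil : X' ^ (q - 1 + 1) = 0 := LinearMap.ext fun w => Subtype.ext (by
    rw [hpow, h.pow_eq_zero_of_le (by omega), map_zero]; rfl)
  have hrange : ∀ (n : ℕ) (w : N), w ∈ LinearMap.range (X' ^ n) ↔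
      (w : W) ∈ LinearMap.range (R (X ^ n)) := by
    intro n w
    refine ⟨fun ⟨z, hz⟩ => ⟨z, by rw [← hpow, hz]⟩, fun ⟨z, hz⟩ => ⟨π z, Subtype.ext ?_⟩⟩
    rw [hpow]
    show R (X ^ n) (R ε z) = _
    rw [h.apply_pow_comm, hz, hmemN.1 w.2]
  obtain ⟨s, f', hs, hns, hf', hf'', hlift⟩ := PrimeSylow.exists_layer_lift (X := X') hnil
    (m₀ := ⟨w₀, hmemN.2 hε₀⟩) (Subtype.ext hX₀) (fun hc => hσ₀ ((hrange _ _).1 hc))
  refine ⟨s, N.subtype ∘ₗ f' ∘ₗ π, ?_, fun w => ⟨?_, ?_, ?_⟩, fun w hw hwX hws => ?_, fun g => ?_⟩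
  · obtain ⟨z, hz, hzσ⟩ := SetLike.not_le_iff_exists.1 hns
    exact ⟨z, hmemN.1 z.2, congrArg Subtype.val (LinearMap.mem_ker.1 hz.1), (hrange _ _).1 hz.2,
      fun hc => hzσ ((hrange _ _).2 hc)⟩
  · exact hmemN.1 (f' (π w)).2
  · exact congrArg Subtype.val (LinearMap.mem_ker.1 (hf' (π w)).1)
  · exact (hrange _ _).1 (hf' (π w)).2
  · have := hf'' ⟨w, hmemN.2 hw⟩ ⟨Subtype.ext hwX, (hrange _ _).2 hws⟩
    rw [hrange] at this
    show (f' (π w) : W) - w ∈ _
    rw [hπ w hw (hmemN.2 hw)]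
    exact this
  · obtain ⟨φ₀, hcomm, hφ₀⟩ := hlift (π ∘ₗ g ∘ₗ N.subtype)
    set Φ : W →ₗ[k] W := N.subtype ∘ₗ φ₀ ∘ₗ π with hΦ
    have hΦX : ∀ w, Φ (R X w) = R X (Φ w) := by
      intro w
      have h1 : π (R X w) = X' (π w) := Subtype.ext (h.apply_X_comm R ε w).symm
      have h2' : φ₀ (X' (π w)) = X' (φ₀ (π w)) := LinearMap.congr_fun hcomm.eq (π w)
      show (φ₀ (π (R X w)) : W) = _
      rw [h1, h2']
      rfl
    have hΦε : ∀ w, Φ (R ε w) = Φ w := by
      intro w
      have h1 : π (R ε w) = π w := Subtype.ext (by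
        show R ε (R ε w) = R ε w
        rw [← Module.End.mul_apply, ← map_mul, h.idem])
      show (φ₀ (π (R ε w)) : W) = _
      rw [h1]
      rfl
    have hεΦ : ∀ w, R ε (Φ w) = Φ w := fun w => hmemN.1 (φ₀ (π w)).2
    have hΦpow : ∀ (n : ℕ) w, Φ (R (X ^ n) w) = R (X ^ n) (Φ w) := by
      intro n
      induction n with
      | zero => simp
      | succ n ih =>
        intro w
        rw [pow_succ, map_mul, Module.End.mul_apply, Module.End.mul_apply, ih, hΦX]
    have hkey : ∀ (a : A) (w : W), Φ (R (ε * a * ε) w) = R (ε * a * ε) (Φ w) := by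
      intro a w
      obtain ⟨c, hc⟩ := h.corner a
      simp only [hc, map_sum, LinearMap.sum_apply, map_smul, LinearMap.smul_apply, map_mul,
        Module.End.mul_apply, hΦpow, hΦε, hεΦ]
    set φ : Module.End k W := ∑ j, R (u j) * Φ * R (v j) with hφ
    have hφa : ∀ w, φ w = ∑ j, R (u j) (Φ (R (v j) w)) := fun w => by
      rw [hφ, LinearMap.sum_apply]
      rfl
    have hRR : ∀ (a b : A) (w : W), R a (R b w) = R (a * b) w := fun a b w => by
      rw [map_mul, Module.End.mul_apply]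
    have hvf : ∀ (a : A) w, Φ (R a (R f w)) = Φ (R a w) := fun a w => by
      rw [← hΦε, ← hΦε (R a w), hRR, hRR, hRR, mul_assoc, ← (h.central_f a).eq, ← mul_assoc, h.eps_mul_f]
    have hfu : ∀ (a : A) w, R f (R a (Φ w)) = R a (Φ w) := fun a w => by
      rw [← hεΦ, hRR, hRR, hRR, (h.central_f a).eq, mul_assoc, h.f_mul_eps]
    have hmid : ∀ (a : A) w, Φ (R (ε * a * ε) w) = R (ε * a) (Φ w) := fun a w => by
      rw [hkey]
      conv_rhs => rw [← hεΦ, hRR]
    refine ⟨φ, fun a w => ?_, fun w => ?_, fun w => ?_, fun w hw hwX => ?_⟩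
    · -- equivariance
      have hl : φ (R a (R f w)) = R f (R a (φ w)) := by
        rw [hφa, hφa, hf]
        simp only [map_sum, LinearMap.sum_apply]
        rw [Finset.sum_comm]
        refine Finset.sum_congr rfl fun i _ => Finset.sum_congr rfl fun j _ => ?_
        conv_rhs => rw [← hΦε (R (v i) w)]
        rw [← hΦε (R (v j) _)]
        simp only [hRR]
        rw [show ε * (v j * (a * (u i * ε * v i))) = ε * (v j * a * u i) * ε * (ε * v i) by
            simp only [← mul_assoc, mul_assoc _ ε ε, h.idem],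
          ← hRR (ε * (v j * a * u i) * ε), hmid, hRR]
        simp only [mul_assoc]
      have h1 : φ (R a (R f w)) = φ (R a w) := by
        rw [hφa, hφa]
        refine Finset.sum_congr rfl fun j _ => ?_
        rw [hRR a f, hRR, hRR (v j) a, ← mul_assoc, ← hRR, hvf]
      have h2 : R f (R a (φ w)) = R a (φ w) := by
        rw [hφa]
        simp only [map_sum]
        refine Finset.sum_congr rfl fun j _ => ?_
        rw [hRR a (u j), hfu]
      rw [← h1, hl, h2]
    · rw [hφa, hφa]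
      exact Finset.sum_congr rfl fun j _ => congrArg _ (hvf _ _)
    · rw [hφa]
      simp only [map_sum]
      exact Finset.sum_congr rfl fun j _ => hfu _ _
    · have hw' : Φ w = (N.subtype ∘ₗ f' ∘ₗ π) (g ((N.subtype ∘ₗ f' ∘ₗ π) w)) := by
        show (φ₀ (π w) : W) = _
        rw [hφ₀ (π w) (Subtype.ext (by
          show R X (R ε w) = 0
          rw [hw, hwX]))]
        rfl
      rw [← hw', hφa]
      have h3 : ∀ j, R (u j) (Φ (R (v j) w)) = R (u j * ε * v j) (Φ w) := by
        intro j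
        conv_lhs => rw [← hw, ← hΦε, hRR, hRR]
        rw [hmid, hRR]
        simp only [mul_assoc]
      rw [Finset.sum_congr rfl fun j _ => h3 j, ← LinearMap.sum_apply, ← map_sum, ← hf, ← hεΦ, hRR,
        h.f_mul_eps, hεΦ]

/-- Semilinear operators preserve the ranges of the powers of `X`. -/
theorem map_mem_range_pow {ρt : W →ₗ[k] W} {α : A ≃ₐ[k] A} (hα : α f = f)
    (hρ : ∀ a v, ρt (R a v) = R (α a) (ρt v)) {n : ℕ} {v : W}
    (hv : v ∈ LinearMap.range (R (X ^ n))) : ρt v ∈ LinearMap.range (R (X ^ n)) := by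
  obtain ⟨w, hw⟩ := h.exists_map_X α hα
  obtain ⟨u, rfl⟩ := hv
  refine ⟨R (w ^ n) (ρt u), ?_⟩
  rw [hρ, map_pow α, hw, (h.central_X w).mul_pow, map_mul, Module.End.mul_apply]

/-- Semilinear operators preserve the kernel of `X`. -/
theorem map_X_eq_zero {ρt : W →ₗ[k] W} {α : A ≃ₐ[k] A} (hα : α f = f)
    (hρ : ∀ a v, ρt (R a v) = R (α a) (ρt v)) {v : W} (hv : R X v = 0) : R X (ρt v) = 0 := by
  obtain ⟨w, hw⟩ := h.exists_map_X α.symm (by rw [AlgEquiv.symm_apply_eq, hα])
  rw [← α.apply_symm_apply X, hw, ← hρ, (h.central_X w).eq, map_mul, Module.End.mul_apply, hv,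
    map_zero, map_zero]

end LocalAlg

end CfsgLib.Blocks.Cyclic
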