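import Cfsg.Agent.Lib.Blocks.Cyclic.Operators

/-!
# Simple modules of a group with a trivial intersection local component

Endomorphisms over the local stabilizer act by scalars on the kernel of `X` modulo the top power;
hence the twists of the local simple module occur in pairwise non-isomorphic simple modules.
-/

set_option autoImplicit false

namespace CfsgLib.Blocks.Cyclic

open MonoidAlgebra

/-- A local component `f` of `C ≤ T ≤ N₁` with defect group `D` whose conjugates meet trivially
outside `N₁`, below the central element `z`. -/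
structure TISystem {k : Type*} [Field k] {G : Type*} [Group G] [Fintype G] (C T N₁ D : Subgroup G)
    (q : ℕ) (f X ε a : MonoidAlgebra k C) (z : MonoidAlgebra k G) : Prop where
  C_le : C ≤ T
  T_le : T ≤ N₁
  N_le : N₁ ≤ Subgroup.normalizer (C : Set G)
  D_le : D ≤ C
  free : ∀ g : G, g ∉ N₁ → ∀ v ∈ D, g⁻¹ * v * g ∈ D → v = 1
  central_free : ∀ g : G, g ∉ C → ∀ v ∈ D, v * g * v⁻¹ = g → v = 1
  local_alg : LocalAlg (k := k) q f X ε
  fix : ∀ (g : Subgroup.normalizer (C : Set G)), (g : G) ∈ T → conjA k C g f = f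
  orth : ∀ (g : Subgroup.normalizer (C : Set G)), (g : G) ∈ N₁ → (g : G) ∉ T →
    f * conjA k C g f = 0
  trace_inv : ∀ (g : Subgroup.normalizer (C : Set G)), (g : G) ∈ D → conjA k C g a = a
  trace : ∀ [Fintype (C ⧸ D.subgroupOf C)], f = ∑ x : C ⧸ D.subgroupOf C,
    conjA k C ⟨((Quotient.out x : C) : G), Subgroup.le_normalizer (Quotient.out x : C).2⟩ a
  index_ne : (C.relIndex T : k) ≠ 0
  z_central : IsCentralElt z
  z_cut : (ofFun fun c : C => z.coeff (c : G)) * f = f

section

variable {k : Type*} [Field k] {G : Type*} [Group G]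

/-- The embedding of `C`. -/
noncomputable def iotaC (k : Type*) [Field k] (C T : Subgroup G) : C.subgroupOf T →* MonoidAlgebra k C :=
  (of k C).comp
    { toFun := fun c => ⟨((c : T) : G), c.2⟩, map_one' := rfl, map_mul' := fun _ _ => rfl }

/-- Restriction of a representation to `T`. -/
noncomputable def resT (T : Subgroup G) {W : Type*} [AddCommGroup W] [Module k W] (ρ : Representation k G W) :
    T →* Module.End k W :=
  ρ.comp T.subtype

/-- Operators commuting with the group are scalars. -/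
theorem exists_scalar_end [IsAlgClosed k] {W : Type*} [AddCommGroup W] [Module k W]
    [FiniteDimensional k W] (ρ : Representation k G W) [ρ.IsIrreducible] {Ψ : Module.End k W} (hΨ : ∀ g, Ψ * ρ g = ρ g * Ψ) :
    ∃ c : k, Ψ = c • 1 := by
  obtain ⟨c, hc⟩ :=
    (Representation.IsIrreducible.algebraMap_intertwiningMap_bijective_of_isAlgClosed (ρ := ρ)).2
      (⟨Ψ, fun g => hΨ g⟩ : Representation.IntertwiningMap ρ ρ)
  refine ⟨c, LinearMap.ext fun w => ?_⟩
  have := congrArg (fun T : Representation.IntertwiningMap ρ ρ => T.toLinearMap w) hc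
  simpa using this.symm

end

namespace TISystem

universe u

variable {k : Type} [Field k] {G : Type u} [Group G] [Fintype G] {C T N₁ D : Subgroup G} {q : ℕ}
  {f X ε a : MonoidAlgebra k C} {z : MonoidAlgebra k G} (S : TISystem C T N₁ D q f X ε a z)
include S

theorem mem_normalizer {t : G} (ht : t ∈ T) : t ∈ Subgroup.normalizer (C : Set G) :=
  S.N_le (S.T_le ht)

theorem normal : (C.subgroupOf T).Normal :=
  (Subgroup.normal_subgroupOf_iff_le_normalizer S.C_le).2 fun _ ht => S.mem_normalizer ht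

/-- The conjugations by `T`. -/
noncomputable def alpha (t : T) : MonoidAlgebra k C ≃ₐ[k] MonoidAlgebra k C :=
  conjA k C ⟨(t : G), S.mem_normalizer t.2⟩

theorem crossData : CrossData f (C.subgroupOf T) S.alpha (iotaC k C T) where
  fix t := S.fix _ t.2
  one a := conjA_one C a
  mul s t a := by
    rw [alpha, alpha, alpha, ← conjA_mul]
    rfl
  conj c a := by
    show conjA k C _ a = of k C _ * a * of k C _
    induction a using MonoidAlgebra.induction_linear with
    | zero => simp
    | add x y hx hy => rw [map_add, hx, hy, mul_add, add_mul]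
    | single d r =>
      rw [conjA_single, of_apply, of_apply, single_mul_single, single_mul_single, one_mul, mul_one]
      rfl
  emb t c d h := by
    show conjA k C _ (of k C _) = of k C _
    rw [of_apply, of_apply, conjA_single]
    congr 1
    exact Subtype.ext (congrArg Subtype.val h).symm

theorem twisted {W : Type*} [AddCommGroup W] [Module k W] (ρ : Representation k G W) :
    Twisted f (C.subgroupOf T) (resA C ρ) ((resT T ρ)) S.alpha where
  fix t := S.fix _ t.2
  comm t a v := resA_conjA C ρ ⟨(t : G), S.mem_normalizer t.2⟩ a v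
  inner c hc := ⟨(iotaC k C T) ⟨c, hc⟩, (resA_of C ρ ⟨(c : G), hc⟩).symm⟩

theorem resT_iota {W : Type*} [AddCommGroup W] [Module k W] (ρ : Representation k G W)
    (c : C.subgroupOf T) : resT T ρ (c : T) = resA C ρ ((iotaC k C T) c) :=
  (resA_of C ρ ⟨((c : T) : G), c.2⟩).symm

theorem index_cast [Fintype (T ⧸ C.subgroupOf T)] :
    (Fintype.card (T ⧸ C.subgroupOf T) : k) ≠ 0 := by
  rw [← Nat.card_eq_fintype_card]
  exact S.index_ne

section Scalar

variable [IsAlgClosed k] {W : Type*} [AddCommGroup W] [Module k W] [FiniteDimensional k W]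
  (ρ : Representation k G W) [ρ.IsIrreducible]

/-- An operator over `T` is a scalar on the kernel of `X`, modulo the top power. -/
theorem scalar_endo {φ : Module.End k W} (hφ : IsEquivariant (resA C ρ) (resA C ρ) φ)
    (hφf : ∀ v, φ (resA C ρ f v) = φ v) (hfφ : ∀ v, resA C ρ f (φ v) = φ v)
    (hφT : ∀ (t : T) v, φ ((resT T ρ) t v) = resT T ρ t (φ v)) :
    ∃ c : k, ∀ m, resA C ρ f m = m → resA C ρ X m = 0 →
      φ m - c • m ∈ LinearMap.range (resA C ρ (X ^ (q - 1))) := by
  classical
  have : Fintype C := Fintype.ofFinite C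
  have : Fintype D := Fintype.ofFinite D
  have : Fintype (C ⧸ D.subgroupOf C) := Fintype.ofFinite _
  set R := resA C ρ
  have hf2 : R f * R f = R f := by rw [← map_mul, S.local_alg.idem_f]
  have hφf' : φ * R f = φ := LinearMap.ext hφf
  have hfφ' : R f * φ = φ := LinearMap.ext hfφ
  have hcT : ∀ t ∈ T, cjOp ρ t φ = φ := fun t ht =>
    cjOp_comm (LinearMap.ext fun v => (hφT ⟨t, ht⟩ v).symm)
  set ψ : Module.End k W := (C.relIndex T : k)⁻¹ • (R a * φ)
  have hψf : ψ * R f = ψ := by rw [smul_mul_assoc, mul_assoc, hφf']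
  have hψD : ∀ v ∈ D, cjOp ρ v ψ = ψ := by
    intro v hv
    have h1 := S.trace_inv ⟨v, Subgroup.le_normalizer (S.D_le hv)⟩ hv
    have h2 : cjOp ρ v (R a) = R a := by
      conv_rhs => rw [← h1]
      rw [resA_conjA_eq]
    have h3 := hcT v (S.C_le (S.D_le hv))
    simp only [cjOp, ψ, mul_smul_comm, smul_mul_assoc] at h2 h3 ⊢
    congr 1
    conv_rhs => rw [← h2, ← h3]
    simp only [← mul_assoc]
    rw [mul_assoc (ρ v * R a) (ρ v⁻¹) (ρ v), ← map_mul, inv_mul_cancel, map_one, mul_one]
  let F : G ⧸ D → Module.End k W := fun y => cjOp ρ (Quotient.out y) ψ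
  have hF : ∀ g : G, F (g : G ⧸ D) = cjOp ρ g ψ := fun g => by
    obtain ⟨v, hv⟩ := QuotientGroup.mk_out_eq_mul D g
    show cjOp ρ (Quotient.out (g : G ⧸ D)) ψ = _
    rw [hv, cjOp_mul, hψD _ v.2]
  have hFsmul : ∀ (g : G) (y : G ⧸ D), F (g • y) = cjOp ρ g (F y) := fun g y => by
    rw [← cjOp_mul, ← hF]
    congr 1
    conv_lhs => rw [← QuotientGroup.out_eq' y]
    rfl
  obtain ⟨c, hc⟩ := exists_scalar_end ρ (Ψ := ∑ y, F y) fun g => by
    have h1 : cjOp ρ g (∑ y, F y) = ∑ y, F y := by
      rw [cjOp, Finset.mul_sum, Finset.sum_mul]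
      exact Fintype.sum_equiv (MulAction.toPerm g) _ _ fun y => (hFsmul g y).symm
    conv_lhs => rw [← h1, cjOp, mul_assoc, mul_assoc, ← map_mul, inv_mul_cancel, map_one, mul_one]
  -- cosets outside `N₁`
  let act : D →* Equiv.Perm (G ⧸ D) := (MulAction.toPermHom G (G ⧸ D)).comp D.subtype
  have houtN : ∀ (u : D) (y : G ⧸ D), Quotient.out (act u y) ∈ N₁ → Quotient.out y ∈ N₁ := by
    intro u y hy
    obtain ⟨v, hv⟩ := QuotientGroup.mk_out_eq_mul D ((u : G) * Quotient.out y)
    have h1 : act u y = (((u : G) * Quotient.out y : G) : G ⧸ D) := by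
      conv_lhs => rw [← QuotientGroup.out_eq' y]
      rfl
    rw [h1, hv] at hy
    have hD : D ≤ N₁ := S.D_le.trans (S.C_le.trans S.T_le)
    have := (N₁.mul_mem_cancel_left (hD u.2)).1 ((N₁.mul_mem_cancel_right (hD v.2)).1 hy)
    exact this
  obtain ⟨η, hη⟩ := sum_free_cjOp ρ act
    (Finset.univ.filter fun y : G ⧸ D => Quotient.out y ∉ N₁)
    (fun u y hy => Finset.mem_filter.2 ⟨Finset.mem_univ _, fun h =>
      (Finset.mem_filter.1 hy).2 (houtN u y h)⟩)
    (fun u y hy hfix => by
      have h1 : ((Quotient.out y : G) : G ⧸ D) = (((u : G) * Quotient.out y : G) : G ⧸ D) := by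
        conv_lhs => rw [QuotientGroup.out_eq', ← hfix]
        conv_lhs => rw [← QuotientGroup.out_eq' y]
        rfl
      rw [QuotientGroup.eq, ← mul_assoc] at h1
      exact Subtype.ext (S.free _ (Finset.mem_filter.1 hy).2 u u.2 h1))
    F (fun u y _ => hFsmul u y)
  -- cosets in `T`
  have hfib : ∀ (g : G), ∑ x : C ⧸ D.subgroupOf C, cjOp ρ (g * ((Quotient.out x : C) : G)) ψ =
      (C.relIndex T : k)⁻¹ • cjOp ρ g φ := by
    intro g
    simp only [cjOp_mul]
    rw [show ∑ x : C ⧸ D.subgroupOf C, cjOp ρ g (cjOp ρ ((Quotient.out x : C) : G) ψ) =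
        cjOp ρ g (∑ x : C ⧸ D.subgroupOf C, cjOp ρ ((Quotient.out x : C) : G) ψ) by
      simp only [cjOp, Finset.mul_sum, Finset.sum_mul]]
    have h1 : ∀ x : C ⧸ D.subgroupOf C, cjOp ρ ((Quotient.out x : C) : G) ψ =
        (C.relIndex T : k)⁻¹ • (R (conjA k C
          ⟨((Quotient.out x : C) : G), Subgroup.le_normalizer (Quotient.out x : C).2⟩ a) * φ) := by
      intro x
      rw [resA_conjA_eq]
      conv_rhs => rw [← hcT _ (S.C_le (Quotient.out x : C).2)]
      simp only [cjOp, ψ, mul_smul_comm, smul_mul_assoc]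
      congr 1
      simp only [← mul_assoc]
      rw [mul_assoc (ρ _ * R a) (ρ _) (ρ _), ← map_mul, inv_mul_cancel, map_one, mul_one]
    rw [Finset.sum_congr rfl fun x _ => h1 x, ← Finset.smul_sum, ← Finset.sum_mul, ← map_sum,
      ← S.trace, hfφ']
    simp [cjOp]
  have hT : ∑ y ∈ Finset.univ.filter (fun y : G ⧸ D => Quotient.out y ∈ T), F y = φ := by
    have : Fintype (T ⧸ C.subgroupOf T) := Fintype.ofFinite _
    let e : (T ⧸ C.subgroupOf T) × (C ⧸ D.subgroupOf C) → G ⧸ D := fun p =>
      ((((Quotient.out p.1 : T) : G) * ((Quotient.out p.2 : C) : G) : G) : G ⧸ D)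
    have hinj : Function.Injective e := by
      intro p p' he
      rw [QuotientGroup.eq] at he
      have h1 : p.1 = p'.1 := by
        rw [← QuotientGroup.out_eq' p.1, ← QuotientGroup.out_eq' p'.1, QuotientGroup.eq,
          Subgroup.mem_subgroupOf, Subgroup.coe_mul, Subgroup.coe_inv]
        have h2 := C.mul_mem (C.mul_mem (Quotient.out p.2 : C).2 (S.D_le he))
          (C.inv_mem (Quotient.out p'.2 : C).2)
        simpa [mul_assoc] using h2
      refine Prod.ext h1 ?_
      rw [h1] at he
      rw [← QuotientGroup.out_eq' p.2, ← QuotientGroup.out_eq' p'.2, QuotientGroup.eq,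
        Subgroup.mem_subgroupOf, Subgroup.coe_mul, Subgroup.coe_inv]
      simpa [mul_assoc] using he
    have himg : Finset.univ.image e =
        Finset.univ.filter (fun y : G ⧸ D => Quotient.out y ∈ T) := by
      ext y
      simp only [Finset.mem_image, Finset.mem_univ, true_and, Finset.mem_filter]
      constructor
      · rintro ⟨p, rfl⟩
        obtain ⟨v, hv⟩ := QuotientGroup.mk_out_eq_mul D
          (((Quotient.out p.1 : T) : G) * ((Quotient.out p.2 : C) : G))
        rw [hv]
        exact mul_mem (mul_mem (Quotient.out p.1 : T).2 (S.C_le (Quotient.out p.2 : C).2))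
          (S.C_le (S.D_le v.2))
      · intro hy
        obtain ⟨c, hc⟩ := QuotientGroup.mk_out_eq_mul (C.subgroupOf T) (⟨Quotient.out y, hy⟩ : T)
        obtain ⟨d, hd⟩ := QuotientGroup.mk_out_eq_mul (D.subgroupOf C)
          (⟨(((c : T) : G))⁻¹, C.inv_mem (Subgroup.mem_subgroupOf.1 c.2)⟩ : C)
        refine ⟨(((⟨Quotient.out y, hy⟩ : T) : T ⧸ C.subgroupOf T),
          ((⟨(((c : T) : G))⁻¹, C.inv_mem (Subgroup.mem_subgroupOf.1 c.2)⟩ : C) :
            C ⧸ D.subgroupOf C)), ?_⟩
        show ((_ * _ : G) : G ⧸ D) = y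
        rw [hc, hd]
        conv_rhs => rw [← QuotientGroup.out_eq' y]
        rw [QuotientGroup.eq]
        simpa [mul_assoc] using Subgroup.mem_subgroupOf.1 d.2
    rw [← himg, Finset.sum_image fun x _ x' _ h => hinj h, Fintype.sum_prod_type]
    simp only [e, hF, hfib]
    rw [Finset.sum_congr rfl fun x _ => by rw [hcT _ (Quotient.out x : T).2], Finset.sum_const,
      Finset.card_univ, ← Nat.cast_smul_eq_nsmul k, smul_smul, ← Nat.card_eq_fintype_card]
    show ((C.relIndex T : k) * (C.relIndex T : k)⁻¹) • φ = φ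
    rw [mul_inv_cancel₀ S.index_ne, one_smul]
  have hmid : ∀ y : G ⧸ D, Quotient.out y ∈ N₁ → Quotient.out y ∉ T → R f * F y * R f = 0 := by
    intro y hN hT
    set g := Quotient.out y
    have h1 : ρ g⁻¹ * R f = R (conjA k C ⟨g⁻¹, S.N_le (inv_mem hN)⟩ f) * ρ g⁻¹ :=
      LinearMap.ext fun w => resA_conjA C ρ ⟨g⁻¹, S.N_le (inv_mem hN)⟩ f w
    show R f * cjOp ρ g ψ * R f = 0
    rw [cjOp, mul_assoc (R f), mul_assoc (ρ g * ψ), h1, ← hψf, ← mul_assoc (ρ g * (ψ * R f)),
      mul_assoc (ρ g) (ψ * R f), mul_assoc ψ, ← map_mul,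
      S.orth ⟨g⁻¹, S.N_le (inv_mem hN)⟩ (inv_mem hN) (fun h => hT (by simpa using inv_mem h))]
    simp
  refine ⟨c, fun m hm hXm => ?_⟩
  set φ' : Module.End k W := c • R f - φ
  have hφ' : IsEquivariant R R φ' := by
    intro b v
    simp only [φ', LinearMap.sub_apply, LinearMap.smul_apply, hφ b v, map_sub, map_smul]
    rw [← Module.End.mul_apply, ← map_mul, (S.local_alg.central_f b).eq, map_mul,
      Module.End.mul_apply]
  have hηeq : φ' = ∑ u : D, cjOp ρ (u : G) (R f * η * R f) := by
    have h1 : R f * (∑ y, F y) * R f = c • R f := by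
      rw [hc, mul_smul_comm, mul_one, smul_mul_assoc, hf2]
    have hDf : ∀ u : D, cjOp ρ (u : G) (R f * η * R f) = R f * cjOp ρ (u : G) η * R f := by
      intro u
      have hcomm : ρ (u : G) * R f = R f * ρ (u : G) := by
        refine LinearMap.ext fun w => ?_
        have := resA_conjA C ρ ⟨(u : G), Subgroup.le_normalizer (S.D_le u.2)⟩ f w
        rw [S.fix _ (S.C_le (S.D_le u.2))] at this
        exact this
      have hcomm' : ρ (u : G)⁻¹ * R f = R f * ρ (u : G)⁻¹ := by
        refine LinearMap.ext fun w => ?_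
        have := resA_conjA C ρ ⟨(u : G)⁻¹, Subgroup.le_normalizer (C.inv_mem (S.D_le u.2))⟩ f w
        rw [S.fix _ (S.C_le (C.inv_mem (S.D_le u.2)))] at this
        exact this
      simp only [cjOp, ← mul_assoc, hcomm]
      simp only [mul_assoc, hcomm']
    rw [Finset.sum_congr rfl fun u _ => hDf u, ← Finset.sum_mul, ← Finset.mul_sum, ← hη]
    show c • R f - φ = _
    rw [← h1, sub_eq_iff_eq_add, ← Finset.sum_filter_add_sum_filter_not Finset.univ
      (fun y : G ⧸ D => Quotient.out y ∈ N₁) F, mul_add, add_mul, add_comm]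
    congr 1
    rw [← Finset.sum_filter_add_sum_filter_not
      (Finset.univ.filter fun y : G ⧸ D => Quotient.out y ∈ N₁)
      (fun y : G ⧸ D => Quotient.out y ∈ T) F, mul_add, add_mul, Finset.filter_filter,
      Finset.filter_filter]
    have h2 : Finset.univ.filter (fun y : G ⧸ D => Quotient.out y ∈ N₁ ∧ Quotient.out y ∈ T) =
        Finset.univ.filter (fun y : G ⧸ D => Quotient.out y ∈ T) :=
      Finset.filter_congr fun y _ => ⟨fun h => h.2, fun h => ⟨S.T_le h, h⟩⟩
    rw [h2, hT, hfφ', hφf', Finset.mul_sum, Finset.sum_mul,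
      Finset.sum_eq_zero fun y hy => hmid y (Finset.mem_filter.1 hy).2.1
        (Finset.mem_filter.1 hy).2.2, add_zero]
  have h3 := mem_of_trace S.local_alg ρ S.D_le
    (fun v hv => S.trace_inv ⟨v, Subgroup.le_normalizer (S.D_le hv)⟩ hv) S.trace hφ' hηeq hm hXm
  have h4 := Submodule.neg_mem _ h3
  simpa [φ', hm, R] using h4

/-- The central element fixes a simple module with a nonzero map from a twist. -/
theorem z_eq_one {w : W} (hwf : resA C ρ f w = w) (hwX : resA C ρ X w = 0)
    (hw : w ∉ LinearMap.range (resA C ρ (X ^ (q - 1)))) : ρ.asAlgebraHom z = 1 := by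
  classical
  have : Fintype C := Fintype.ofFinite C
  have : Fintype D := Fintype.ofFinite D
  have : Fintype (C ⧸ D.subgroupOf C) := Fintype.ofFinite _
  obtain ⟨c, hc⟩ := exists_scalar_end ρ (Ψ := ρ.asAlgebraHom z) fun g => by
    rw [← ρ.asAlgebraHom_single_one g, ← map_mul, ← map_mul, (S.z_central.commute _).eq]
  set R := resA C ρ
  set zC : MonoidAlgebra k C := ofFun fun c : C => z.coeff (c : G) with hzC
  have hsplit : ρ.asAlgebraHom z =
      R zC + ∑ g ∈ Finset.univ.filter (fun g : G => g ∉ C), z.coeff g • ρ g := by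
    rw [Blocks.asAlgebraHom_eq_sum', ← Finset.sum_filter_add_sum_filter_not Finset.univ
      (fun g : G => g ∈ C)]
    congr 1
    show _ = resA C ρ zC
    rw [resA, Blocks.asAlgebraHom_eq_sum']
    exact Finset.sum_subtype _ (by simp) _
  let act : D →* Equiv.Perm G :=
    { toFun := fun u => (MulAut.conj (u : G)).toEquiv
      map_one' := Equiv.ext fun g => by simp
      map_mul' := fun u v => Equiv.ext fun g => by simp }
  obtain ⟨η, hη⟩ := sum_free_cjOp ρ act (Finset.univ.filter (fun g : G => g ∉ C))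
    (fun u g hg => Finset.mem_filter.2 ⟨Finset.mem_univ _, fun h => (Finset.mem_filter.1 hg).2 (by
      have h' : (u : G) * g * (u : G)⁻¹ ∈ C := h
      simpa [mul_assoc] using C.mul_mem (C.mul_mem (C.inv_mem (S.D_le u.2)) h') (S.D_le u.2))⟩)
    (fun u g hg hfix => by
      have h' : (u : G) * g * (u : G)⁻¹ = g := hfix
      exact Subtype.ext (S.central_free g (Finset.mem_filter.1 hg).2 u u.2 h'))
    (fun g => z.coeff g • ρ g) (fun u g _ => by
      show z.coeff ((u : G) * g * (u : G)⁻¹) • ρ ((u : G) * g * (u : G)⁻¹) = _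
      rw [S.z_central g u, map_mul, map_mul, cjOp, mul_smul_comm, smul_mul_assoc])
  set φ' : Module.End k W := (c • 1 - R zC) * R f
  have hφ' : IsEquivariant R R φ' := by
    intro b v
    have hzc : Commute zC b := by
      refine IsCentralElt.commute (fun x y => ?_) b
      simp only [hzC, coeff_ofFun, Subgroup.coe_mul, Subgroup.coe_inv]
      exact S.z_central _ _
    simp only [φ', Module.End.mul_apply, LinearMap.sub_apply, LinearMap.smul_apply,
      Module.End.one_apply, map_sub, map_smul]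
    rw [← Module.End.mul_apply (R f) (R b), ← map_mul, (S.local_alg.central_f b).eq, map_mul,
      Module.End.mul_apply, ← Module.End.mul_apply (R zC) (R b), ← map_mul, hzc.eq, map_mul,
      Module.End.mul_apply]
  have hηeq : φ' = ∑ u : D, cjOp ρ (u : G) (η * R f) := by
    have h1 : c • 1 - R zC = ∑ u : D, cjOp ρ (u : G) η := by
      rw [← hη, ← hc, hsplit, add_sub_cancel_left]
    show (c • 1 - R zC) * R f = _
    rw [h1, Finset.sum_mul]
    refine Finset.sum_congr rfl fun u _ => ?_
    have hcomm' : ρ (u : G)⁻¹ * R f = R f * ρ (u : G)⁻¹ := by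
      refine LinearMap.ext fun w => ?_
      have := resA_conjA C ρ ⟨(u : G)⁻¹, Subgroup.le_normalizer (C.inv_mem (S.D_le u.2))⟩ f w
      rw [S.fix _ (S.C_le (C.inv_mem (S.D_le u.2)))] at this
      exact this
    simp only [cjOp, mul_assoc, hcomm']
  have h3 := mem_of_trace S.local_alg ρ S.D_le
    (fun v hv => S.trace_inv ⟨v, Subgroup.le_normalizer (S.D_le hv)⟩ hv) S.trace hφ' hηeq hwf hwX
  rw [show φ' w = c • w - w by
    show (c • 1 - R zC) (R f w) = _
    rw [hwf, LinearMap.sub_apply]
    conv_lhs => rw [← hwf, ← Module.End.mul_apply (R zC), ← map_mul, hzC, S.z_cut, hwf]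
    rfl] at h3
  nth_rewrite 2 [← one_smul k w] at h3
  rw [← sub_smul] at h3
  by_contra hne
  have hc1 : c ≠ 1 := fun e => hne (by rw [hc, e, one_smul])
  exact hw ((Submodule.smul_mem_iff _ (sub_ne_zero.2 hc1)).1 h3)

end Scalar

end TISystem

end CfsgLib.Blocks.Cyclic
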