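import Cfsg.Agent.Lib.Pairs.AbelianLocal
import Cfsg.Agent.S4633

/-!
# Blocks with cyclic defect group: the inertial quotient and the local blocks
-/

set_option autoImplicit false

namespace CfsgLib.Blocks.Cyclic

open Cfsg CfsgLib.Blocks CfsgLib.Pairs
open scoped Classical

universe u

variable {G : Type u} [Group G] [Fintype G] {p : ℕ} [Fact p.Prime] {M : Ideal AlgInt} [M.IsPrime]
  {B : Set (IrrCharacter G)} {P : Subgroup G}
  {c : Set (IrrCharacter (Subgroup.centralizer (P : Set G)))}

/-- The data of a block with cyclic defect group `P`. -/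
structure Setup (p : ℕ) [Fact p.Prime] (M : Ideal AlgInt) (B : Set (IrrCharacter G)) (P : Subgroup G)
    (c : Set (IrrCharacter (Subgroup.centralizer (P : Set G)))) : Prop where
  modular : IsPModular p M
  block : IsPBlock M B
  defect : IsDefectGroup p M B P
  ne_bot : P ≠ ⊥
  cyclic : IsCyclic P
  induced : IsInducedBlock M (Subgroup.centralizer (P : Set G)) c B

namespace Setup

variable (h : Setup p M B P c)
include h

omit [M.IsPrime] in
theorem comm : ∀ x ∈ P, ∀ y ∈ P, x * y = y * x := by
  intro x hx y hy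
  have := h.cyclic
  let := IsCyclic.commGroup (α := P)
  exact congrArg Subtype.val (mul_comm (⟨x, hx⟩ : P) ⟨y, hy⟩)

omit [M.IsPrime] in
theorem le_centralizer : P ≤ Subgroup.centralizer (P : Set G) := fun x hx =>
  Subgroup.mem_centralizer_iff.2 fun y hy => h.comm y hy x hx

theorem isMaximal : IsMaximalBrauerPair p M B P c :=
  isMaximal_of_isDefectGroup h.modular
    ((inducedFromCent_iff h.modular (IsDefectGroup.isPGroup h.defect) h.le_centralizer
      (isInducedBlock_iff.1 h.induced).1 B).1 h.induced) h.defect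

omit [M.IsPrime] in
/-- Subgroups of `P` are normalized by the normalizer of `P`. -/
theorem normalizer_le {Q : Subgroup G} (hQP : Q ≤ P) :
    Subgroup.normalizer (P : Set G) ≤ Subgroup.normalizer (Q : Set G) := by
  have := h.cyclic
  intro g hg
  rw [Subgroup.mem_normalizer_iff_map_conj_eq]
  have hgP := Subgroup.mem_normalizer_iff_map_conj_eq.1 hg
  let σ : P ≃* P := ((MulAut.conj g).subgroupMap P).trans (MulEquiv.subgroupCongr hgP)
  obtain ⟨z, hz⟩ := IsCyclic.exists_zpow_surjective (G := P)
  obtain ⟨n, hn⟩ := hz (σ z)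
  refine Subgroup.eq_of_le_of_card_ge ?_ (le_of_eq
    (Subgroup.card_map_of_injective (MulEquiv.injective _)).symm)
  rintro _ ⟨y, hy, rfl⟩
  obtain ⟨m, hm⟩ := hz ⟨y, hQP hy⟩
  have hm' : z ^ m = ⟨y, hQP hy⟩ := hm
  have hn' : z ^ n = σ z := hn
  have h1 : σ ⟨y, hQP hy⟩ = (⟨y, hQP hy⟩ : P) ^ n := by
    rw [← hm', map_zpow, ← hn', ← zpow_mul, ← zpow_mul, mul_comm]
  have h2 := congrArg Subtype.val h1
  rw [Subgroup.coe_zpow] at h2
  show (σ ⟨y, hQP hy⟩ : G) ∈ Q
  rw [h2]
  exact Q.zpow_mem hy n

/-- Freeness of the inertial quotient. -/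
theorem free : (Subgroup.centralizer (P : Set G)).relIndex (pairStab P c) ∣ p - 1 ∧
    ∀ g ∈ pairStab P c, ∀ x ∈ P, x ≠ 1 → g * x * g⁻¹ = x → g ∈ Subgroup.centralizer (P : Set G) := by
  have : ((Subgroup.centralizer (P : Set G)).subgroupOf (pairStab P c)).Normal :=
    (Subgroup.normal_subgroupOf_iff_le_normalizer (centralizer_le_pairStab P c)).2
      fun g hg => normalizer_le_normalizer_centralizer P hg.1
  exact (Cfsg.Agent.S4633.result p M h.modular B h.block P h.defect h.ne_bot h.cyclic c h.induced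
    (pairStab P c) (fun g => Iff.rfl) (hn := this)).2

/-- The block induced inside the centralizer of a subgroup of `P` lies below the maximal pair. -/
theorem subpairLE_of_inducedIn {Q : Subgroup G} (hQP : Q ≤ P)
    {f : Set (IrrCharacter (Subgroup.centralizer (Q : Set G)))}
    (hf : IsInducedBlockIn M (Subgroup.centralizer (Q : Set G))
      (Subgroup.centralizer (P : Set G)) c f) :
    IsPBlock M f ∧ SubpairLE p M Q f P c := by
  have hM := h.modular
  have hmax := h.isMaximal
  have hPC := le_centralizer_of_abelian hmax h.comm hQP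
  obtain ⟨f₀, hf₀, hle⟩ := exists_below hM (Nat.card P) (Nat.sub_le _ _) hmax.1.1 hQP
  have hn : IsNormalSubpair p M Q f₀ P c :=
    (unique_below hM (Nat.card P) (Nat.sub_le _ _) hmax.1.1).1 f₀ hle
      (hPC.trans (centralizer_le_normalizer' Q))
  obtain ⟨a, ha⟩ := exists_samePair_down (b := (⟨P, c⟩ : BrauerPairIdx G)) hPC
    (centralizer_le_of_le hQP)
  have hco : ∀ k : Subgroup.centralizer (Q : Set G), blockCoeff f₀ k =
      subgroupBlockCoeff (Subgroup.centralizer (Q : Set G)) f₀ (k : G) := fun k => by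
    unfold subgroupBlockCoeff
    rw [dif_pos k.2]
  have hpair : IsBrauerPairOf p M f₀ a.1 a.2 :=
    ⟨ha.brauerPair_iff.2 hn.2.1, hn.1.2, (ha.memLocalIdeal_iff hco).2 hn.2.2.2.2.2⟩
  have haP : a.1 = P.subgroupOf (Subgroup.centralizer (Q : Set G)) :=
    Subgroup.map_injective (Subgroup.centralizer (Q : Set G)).subtype_injective
      (ha.1.trans (Subgroup.map_subgroupOf_eq_of_le hPC).symm)
  have haC : a.1 ≤ Subgroup.centralizer (a.1 : Set (Subgroup.centralizer (Q : Set G))) := by
    rw [haP]
    exact fun x hx => Subgroup.mem_centralizer_iff.2 fun y hy =>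
      Subtype.ext (h.comm _ hy _ hx)
  rw [inducedIn_iff ha, inducedFromCent_iff hM hpair.1.1 haC hpair.1.2] at hf
  obtain rfl := (existsUnique_block hM hpair.1).unique hf hpair
  exact ⟨hn.1.2, hle⟩

end Setup

end CfsgLib.Blocks.Cyclic
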