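import Cfsg.Agent.Lib.Blocks.Cyclic.NilAlgebra
import Cfsg.Agent.Lib.Blocks.Cyclic.TI
import Cfsg.Agent.Lib.Blocks.Cyclic1.RelTrace
import Cfsg.Agent.S4645

/-!
# The local system of a block with cyclic defect group

For the subgroup `Z` of order `p` of the defect group, the block of `C(Z)` below the maximal pair
gives a trivial intersection system with inertial index that of the block.
-/

set_option autoImplicit false

namespace CfsgLib.Blocks.Cyclic

open Cfsg CfsgLib.Blocks CfsgLib.Pairs MonoidAlgebra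
open scoped Classical

universe u

variable {G : Type u} [Group G] [Fintype G] {p : ℕ} [Fact p.Prime] {M : Ideal AlgInt} [M.IsPrime]
  {B : Set (IrrCharacter G)} {P : Subgroup G}
  {c : Set (IrrCharacter (Subgroup.centralizer (P : Set G)))}

theorem conjA_blockIdemBar {C : Subgroup G} (g : Subgroup.normalizer (C : Set G))
    {f : Set (IrrCharacter C)} (hf : IsPBlock M f) :
    conjA (Res M) C g (blockIdemBar M f) = blockIdemBar M (conjSelf g.2 f) := by
  refine MonoidAlgebra.ext (Finsupp.ext fun x => ?_)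
  obtain ⟨y, rfl⟩ := (conjC C g).surjective x
  rw [conjA, MonoidAlgebra.coeff_domCongr, MulEquiv.symm_apply_apply]
  simp only [blockIdemBar, coeff_red, blockIdemO, coeff_ofFun, dif_pos (blockCoeff_mem hf y),
    dif_pos (blockCoeff_mem (isPBlock_conjSelf g.2 hf) _)]
  exact congrArg _ (Subtype.ext (blockCoeff_conjSelf g.2 f y (conjC C g y) (coe_conjC C g y)).symm)

/-- A block of `C(Z)` below the maximal pair, `Z` of order `p`. -/
structure LocalData (p : ℕ) [Fact p.Prime] (M : Ideal AlgInt) [M.IsPrime]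
    (B : Set (IrrCharacter G)) (P : Subgroup G)
    (c : Set (IrrCharacter (Subgroup.centralizer (P : Set G)))) (Z : Subgroup G)
    (f : Set (IrrCharacter (Subgroup.centralizer (Z : Set G)))) : Prop where
  base : Setup p M B P c
  Z_le : Z ≤ P
  Z_card : Nat.card Z = p
  block : IsPBlock M f
  below : SubpairLE p M Z f P c

theorem Setup.exists_local (h : Setup p M B P c) : ∃ Z f, LocalData p M B P c Z f := by
  have hP := IsDefectGroup.isPGroup h.defect
  obtain ⟨x, hx, hx1⟩ := P.bot_or_exists_ne_one.resolve_left h.ne_bot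
  obtain ⟨n, hn⟩ := hP ⟨x, hx⟩
  obtain ⟨y, hy⟩ := exists_prime_orderOf_dvd_card' (G := P) p (by
    obtain ⟨a, ha⟩ := IsPGroup.iff_card.1 hP
    have : 1 < Nat.card P := (Subgroup.one_lt_card_iff_ne_bot P).2 h.ne_bot
    rw [ha] at this ⊢
    exact dvd_pow_self p fun h0 => by simp [h0] at this)
  have hQ : Subgroup.zpowers (y : G) ≤ P := Subgroup.zpowers_le.2 y.2
  obtain ⟨f, hf, hle⟩ := exists_below h.modular (Nat.card P) (Nat.sub_le _ _) h.isMaximal.1.1 hQ
  have hf' := inducedIn_of_subpair h.modular h.isMaximal h.comm hle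
  refine ⟨Subgroup.zpowers (y : G), f, h, hQ, ?_, (h.subpairLE_of_inducedIn hQ hf').1, hle⟩
  rw [Nat.card_zpowers, Subgroup.orderOf_coe, hy]

namespace LocalData

variable {Z : Subgroup G} {f : Set (IrrCharacter (Subgroup.centralizer (Z : Set G)))}
  (L : LocalData p M B P c Z f)
include L

theorem ne_bot : Z ≠ ⊥ := fun e => by
  have := L.Z_card
  rw [e, Subgroup.card_bot] at this
  exact (Fact.out : p.Prime).one_lt.ne this

theorem le_centralizer : P ≤ Subgroup.centralizer (Z : Set G) := fun x hx =>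
  Subgroup.mem_centralizer_iff.2 fun y hy => L.base.comm y (L.Z_le hy) x hx

theorem s4645 : pairStab Z f = pairStab P c ⊔ Subgroup.centralizer (Z : Set G) ∧
    (Subgroup.centralizer (Z : Set G)).relIndex (pairStab Z f) =
      (Subgroup.centralizer (P : Set G)).relIndex (pairStab P c) ∧
    blockRank p f = 1 ∧ IsNilpotentBlock p M f :=
  Cfsg.Agent.S4645.result p M L.base.modular B L.base.block P L.base.defect L.base.ne_bot
    L.base.cyclic c L.base.induced (pairStab P c) (fun _ => Iff.rfl) Z L.Z_le L.ne_bot f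
    (inducedIn_of_subpair L.base.modular L.base.isMaximal L.base.comm L.below) (pairStab Z f)
    (fun _ => Iff.rfl)

theorem defectGroup :
    IsDefectGroup p M f (P.subgroupOf (Subgroup.centralizer (Z : Set G))) := by
  have hfc : (blockFusion L.base.modular L.base.isMaximal).IsFullyCentralized Z := by
    refine ⟨L.Z_le, fun R hR => ?_⟩
    rw [CfsgLib.Fusion.centralizerIn_eq_self L.base.comm L.Z_le,
      CfsgLib.Fusion.centralizerIn_eq_self L.base.comm (CfsgLib.Fusion.isConj_le_right hR)]
  have h := (isFullyCentralized_iff (isBlockFusionSystemOn_blockFusion L.base.modular L.base.isMaximal)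
    L.base.modular L.below).1 hfc
  rwa [inf_eq_left.2 L.le_centralizer] at h

theorem pairOf : IsBrauerPairOf p M B Z f :=
  (subpairLE_pairOf_iff L.base.modular (a := ⟨Z, f⟩) (b := ⟨P, c⟩) L.below B).1 L.base.isMaximal.1

theorem le_zpowers {v : G} (hv : v ∈ P) (hv1 : v ≠ 1) : Z ≤ Subgroup.zpowers v := by
  have hP := IsDefectGroup.isPGroup L.base.defect
  have := L.base.cyclic
  have : Fintype P := Fintype.ofFinite P
  have hZP : Nat.card (Z.subgroupOf P) = p := by
    rw [Nat.card_congr (Subgroup.subgroupOfEquivOfLe L.Z_le).toEquiv, L.Z_card]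
  obtain ⟨n, hn⟩ := hP ⟨v, hv⟩
  obtain ⟨j, -, hj⟩ := (Nat.dvd_prime_pow (Fact.out : p.Prime)).1 (orderOf_dvd_of_pow_eq_one hn)
  have hj1 : 1 ≤ j := by
    by_contra h0
    rw [show j = 0 by omega, pow_zero, orderOf_eq_one_iff] at hj
    exact hv1 (congrArg Subtype.val hj)
  set y : P := ⟨v, hv⟩ ^ p ^ (j - 1) with hy
  have hyo : orderOf y = p := by
    rw [hy, orderOf_pow' _ (pow_ne_zero _ (Fact.out : p.Prime).ne_zero), hj,
      Nat.gcd_eq_right (pow_dvd_pow p (by omega)), Nat.pow_div (by omega)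
        (Fact.out : p.Prime).pos, show j - (j - 1) = 1 by omega, pow_one]
  have hsub : Z.subgroupOf P ≤ Subgroup.zpowers y := by
    intro x hx
    by_contra hxy
    have hsub : insert x ((Subgroup.zpowers y : Set P).toFinset) ⊆
        Finset.univ.filter fun t : P => t ^ p = 1 := by
      intro t ht
      rw [Finset.mem_insert, Set.mem_toFinset] at ht
      refine Finset.mem_filter.2 ⟨Finset.mem_univ _, ?_⟩
      rcases ht with rfl | ht
      · have h := pow_card_eq_one' (x := (⟨t, hx⟩ : Z.subgroupOf P))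
        rw [hZP] at h
        exact congrArg Subtype.val h
      · obtain ⟨i, rfl⟩ := ht
        show (y ^ i) ^ p = 1
        rw [← zpow_natCast, ← zpow_mul, mul_comm, zpow_mul, zpow_natCast, ← hyo, pow_orderOf_eq_one,
          one_zpow]
    have hle := (Finset.card_le_card hsub).trans
      (IsCyclic.card_pow_eq_one_le (Fact.out : p.Prime).pos)
    rw [Finset.card_insert_of_notMem (by rwa [Set.mem_toFinset]), Set.toFinset_card,
      ← Nat.card_eq_fintype_card] at hle
    have : Nat.card (Subgroup.zpowers y) = p := by rw [Nat.card_zpowers, hyo]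
    exact absurd hle (by simp only [SetLike.coe_sort_coe]; omega)
  intro z hz
  obtain ⟨i, hi⟩ := hsub (show (⟨z, L.Z_le hz⟩ : P) ∈ Z.subgroupOf P from hz)
  refine ⟨(p ^ (j - 1) : ℕ) * i, ?_⟩
  have h2 : ((y ^ i : P) : G) = z := congrArg Subtype.val hi
  rw [← h2]
  show v ^ _ = ((y ^ i : P) : G)
  rw [hy, Subgroup.coe_zpow, Subgroup.coe_pow, zpow_mul, zpow_natCast]

theorem mem_centralizer_of_commute {g v : G} (hv : v ∈ P) (hv1 : v ≠ 1) (hc : Commute v g) :
    g ∈ Subgroup.centralizer (Z : Set G) := Subgroup.mem_centralizer_iff.2 fun z hz => by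
  obtain ⟨i, hi⟩ := L.le_zpowers hv hv1 hz
  exact hi ▸ (hc.zpow_left i).eq

theorem orderOf_eq {z : G} (hz : z ∈ Z) (hz1 : z ≠ 1) : orderOf z = p := by
  have h : orderOf (⟨z, hz⟩ : Z) ∣ p := L.Z_card ▸ orderOf_dvd_natCard (⟨z, hz⟩ : Z)
  rw [Subgroup.orderOf_mk] at h
  exact ((Nat.dvd_prime (Fact.out : p.Prime)).1 h).resolve_left fun e => hz1 (orderOf_eq_one_iff.1 e)

theorem free {g v : G} (hg : g ∉ Subgroup.normalizer (Z : Set G)) (hv : v ∈ P)
    (hgv : g⁻¹ * v * g ∈ P) : v = 1 := by
  by_contra hv1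
  refine hg ?_
  have h1 : g⁻¹ * v * g ≠ 1 := fun h => hv1 (by
    have := congrArg (fun t => g * t * g⁻¹) h
    simpa [mul_assoc] using this)
  have hle : Z ≤ Z.map (MulAut.conj g).toMonoidHom := by
    obtain ⟨z, hz, hz1⟩ := Z.bot_or_exists_ne_one.resolve_left L.ne_bot
    obtain ⟨i, hi⟩ := L.le_zpowers hv hv1 hz
    have hw : g⁻¹ * z * g = (g⁻¹ * v * g) ^ i := by
      rw [← hi]
      have := (map_zpow (MulAut.conj g⁻¹) v i)
      simpa [MulAut.conj_apply] using this
    have hwP : g⁻¹ * z * g ∈ P := hw ▸ P.zpow_mem hgv i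
    have hwp : orderOf (g⁻¹ * z * g) = p := by
      rw [show g⁻¹ * z * g = MulAut.conj g⁻¹ z by simp [MulAut.conj_apply],
        MulEquiv.orderOf_eq (MulAut.conj g⁻¹) z, L.orderOf_eq hz hz1]
    have hw1 : g⁻¹ * z * g ≠ 1 := fun e => by
      rw [e, orderOf_one] at hwp
      exact (Fact.out : p.Prime).one_lt.ne hwp
    have hZ : Z = Subgroup.zpowers (g⁻¹ * z * g) :=
      Subgroup.eq_of_le_of_card_ge (L.le_zpowers hwP hw1) (by
        rw [Nat.card_zpowers, hwp, L.Z_card])
    have hzz : Subgroup.zpowers z = Z :=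
      Subgroup.eq_of_le_of_card_ge (Subgroup.zpowers_le.2 hz) (by
        rw [Nat.card_zpowers, L.orderOf_eq hz hz1, L.Z_card])
    conv_lhs => rw [← hzz]
    rw [Subgroup.zpowers_le]
    refine ⟨g⁻¹ * z * g, hZ ▸ Subgroup.mem_zpowers _, ?_⟩
    simp [MulAut.conj_apply, mul_assoc]
  exact Subgroup.mem_normalizer_iff_map_conj_eq.2 (Subgroup.eq_of_le_of_card_ge hle
    (le_of_eq (Subgroup.card_map_of_injective (MulEquiv.injective _)))).symm

theorem isCyclic_quotient [((Subgroup.centralizer (Z : Set G)).subgroupOf (pairStab Z f)).Normal] :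
    IsCyclic (pairStab Z f ⧸ (Subgroup.centralizer (Z : Set G)).subgroupOf (pairStab Z f)) := by
  have : IsCyclic Z := isCyclic_of_prime_card L.Z_card
  let φ : pairStab Z f →* MulAut Z :=
    Z.normalizerMonoidHom.comp (Subgroup.inclusion (pairStab_le_normalizer Z f))
  have hker : φ.ker = (Subgroup.centralizer (Z : Set G)).subgroupOf (pairStab Z f) := by
    ext t
    rw [MonoidHom.mem_ker, Subgroup.mem_subgroupOf, Subgroup.mem_centralizer_iff]
    constructor
    · intro h z hz
      have h1 := congrArg Subtype.val (MulEquiv.congr_fun h ⟨z, hz⟩)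
      have h2 : (t : G) * z * (t : G)⁻¹ = z := h1
      exact (mul_inv_eq_iff_eq_mul.1 h2).symm
    · intro h
      refine MulEquiv.ext fun z => Subtype.ext ?_
      show (t : G) * z * (t : G)⁻¹ = z
      rw [← h z z.2, mul_inv_cancel_right]
  have : IsCyclic (ZMod (Nat.card Z))ˣ := by
    rw [L.Z_card]
    exact ZMod.isCyclic_units_prime (Fact.out : p.Prime)
  have : IsCyclic (MulAut Z) :=
    isCyclic_of_surjective _ (IsCyclic.mulAutMulEquiv Z).symm.surjective
  have : IsCyclic (pairStab Z f ⧸ φ.ker) :=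
    isCyclic_of_injective _ (QuotientGroup.kerLift_injective φ)
  exact isCyclic_of_surjective _ (QuotientGroup.quotientMulEquivOfEq hker).surjective

theorem exists_system : ∃ X ε a,
    TISystem (Subgroup.centralizer (Z : Set G)) (pairStab Z f) (Subgroup.normalizer (Z : Set G)) P
      (Nat.card P) (blockIdemBar M f) X ε a (blockIdemBar M B) ∧
    ∀ z ∈ Z.subgroupOf (Subgroup.centralizer (Z : Set G)), z ≠ 1 → ∃ l : ℕ, ¬ p ∣ l ∧
      single z 1 * blockIdemBar M f = blockIdemBar M f * (1 + X ^ (Nat.card P / p)) ^ l := by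
  have hM := L.base.modular
  have hp := (Fact.out : p.Prime)
  have := charP_residueField hM
  have hnil := L.s4645.2.2.2
  have hdef := L.defectGroup
  have hDp := IsDefectGroup.isPGroup hdef
  have hab : ∀ x ∈ (P.subgroupOf (Subgroup.centralizer (Z : Set G))), ∀ y ∈ (P.subgroupOf (Subgroup.centralizer (Z : Set G))), x * y = y * x := fun x hx y hy =>
    Subtype.ext (L.base.comm _ hx _ hy)
  have hcard : Nat.card (P.subgroupOf (Subgroup.centralizer (Z : Set G))) = Nat.card P :=
    Nat.card_congr (Subgroup.subgroupOfEquivOfLe L.le_centralizer).toEquiv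
  have : IsCyclic (P.subgroupOf (Subgroup.centralizer (Z : Set G))) := by
    have := L.base.cyclic
    exact isCyclic_of_surjective _ (Subgroup.subgroupOfEquivOfLe L.le_centralizer).symm.surjective
  have hD1 : (P.subgroupOf (Subgroup.centralizer (Z : Set G))) ≠ ⊥ := by
    rw [← Subgroup.one_lt_card_iff_ne_bot, hcard, Subgroup.one_lt_card_iff_ne_bot]
    exact L.base.ne_bot
  obtain ⟨N⟩ := exists_nilParam hM hnil hdef hab
  have := Fintype.ofFinite (IrrCharacter (P.subgroupOf (Subgroup.centralizer (Z : Set G))))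
  obtain ⟨X, ε, hloc, hz⟩ := N.exists_localAlg hM hab L.block hDp hD1
  rw [hcard] at hloc hz
  obtain ⟨a, ha1, ha2⟩ := CfsgLib.Cyclic1.exists_relTrace hM L.block hdef
  refine ⟨X, ε, a, ⟨centralizer_le_pairStab Z f, pairStab_le_normalizer Z f,
    normalizer_le_normalizer_centralizer Z, L.le_centralizer, fun g hg v hv hgv => L.free hg hv hgv,
    fun g hg v hv hc => ?_, hloc, fun g hg => ?_, fun g hg1 hg => ?_, fun g hg => ?_, ?_, ?_,
    isCentralElt_blockIdemBar L.base.block, ?_⟩, fun z hz' hz1 => ?_⟩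
  · by_contra hv1
    exact hg (L.mem_centralizer_of_commute hv hv1 (mul_inv_eq_iff_eq_mul.1 hc))
  · obtain ⟨hn, hst⟩ := stabilizesBlock_iff.1 hg.2
    rw [conjA_blockIdemBar g L.block, show conjSelf g.2 f = f from hst]
  · rw [conjA_blockIdemBar g L.block]
    refine blockIdemBar_mul_of_ne L.block (isPBlock_conjSelf g.2 L.block) fun e => hg ?_
    exact ⟨hg1, stabilizesBlock_iff.2 ⟨g.2, e.symm⟩⟩
  · refine MonoidAlgebra.ext (Finsupp.ext fun x => ?_)
    obtain ⟨y, rfl⟩ := (conjC (Subgroup.centralizer (Z : Set G)) g).surjective x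
    rw [conjA, MonoidAlgebra.coeff_domCongr, MulEquiv.symm_apply_apply]
    have h := ha1 ⟨(g : G), L.le_centralizer hg⟩ hg y
    rw [show conjC (Subgroup.centralizer (Z : Set G)) g y = ⟨(g : G), L.le_centralizer hg⟩ * y * (⟨(g : G), L.le_centralizer hg⟩ : (Subgroup.centralizer (Z : Set G)))⁻¹
      from Subtype.ext (coe_conjC (Subgroup.centralizer (Z : Set G)) g y), h]
  · intro _
    refine MonoidAlgebra.ext (Finsupp.ext fun y => ?_)
    rw [← ha2 y, finsum_eq_sum_of_fintype, MonoidAlgebra.coeff_sum, Finsupp.coe_finsetSum,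
      Finset.sum_apply]
    refine Finset.sum_congr rfl fun q _ => ?_
    rw [conjA, MonoidAlgebra.coeff_domCongr]
    congr 1
    refine (MulEquiv.eq_symm_apply _).2 (Subtype.ext ?_)
    rw [coe_conjC]
    simp [mul_assoc]
  · rw [L.s4645.2.1]
    intro h0
    have hd := L.base.free.1
    have hp1 : p ∣ (Subgroup.centralizer (P : Set G)).relIndex (pairStab P c) :=
      (CharP.cast_eq_zero_iff (Res M) p _).1 h0
    have h2 := hp.two_le
    have h3 := Nat.le_of_dvd (show 0 < p - 1 by omega) (hp1.trans hd)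
    omega
  · have h := resC_mul_orbitIdem hM L.pairOf
    have horb : orbitIdem M Z f * blockIdemBar M f = blockIdemBar M f := by
      rw [orbitIdem, Finset.sum_mul, Finset.sum_eq_single f]
      · exact blockIdemBar_mul_self L.block
      · exact fun b hb hne => blockIdemBar_mul_of_ne (isPBlock_of_mem_orbit L.block hb) L.block hne
      · exact fun h => absurd (self_mem_orbit Z f) h
    calc _ = resC Z (blockIdemBar M B) * blockIdemBar M f := by
          rfl
      _ = _ := by rw [← horb, ← mul_assoc, h]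
  · have hzP : z ∈ (P.subgroupOf (Subgroup.centralizer (Z : Set G))) := Subgroup.mem_subgroupOf.2 (L.Z_le (Subgroup.mem_subgroupOf.1 hz'))
    have hzp : orderOf z = p := by
      rw [← Subgroup.orderOf_coe z]
      exact L.orderOf_eq (Subgroup.mem_subgroupOf.1 hz') fun e => hz1 (Subtype.ext e)
    exact hz z hzP hzp fun y => Subtype.ext
      (Subgroup.mem_centralizer_iff.1 y.2 z (Subgroup.mem_subgroupOf.1 hz'))

end LocalData

end CfsgLib.Blocks.Cyclic
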