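import Cfsg.Agent.Lib.Blocks.Cyclic.NilValues
import Cfsg.Agent.Lib.Blocks.Cyclic.LocalAlg
import Cfsg.Agent.Lib.Blocks.Brauer.Corner
import Cfsg.Agent.Lib.Blocks.Brauer.Integral

/-!
# The algebra of a nilpotent block with cyclic defect group

The combinations of the character idempotents by the parametrizing linear characters reduce to a
copy of the defect group in the centre of the block; a rank one idempotent has corner spanned by
it.
-/

set_option autoImplicit false

namespace CfsgLib.Blocks.Cyclic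

open Cfsg CfsgLib.Blocks CfsgLib.Pairs CfsgLib.Star CfsgLib.Char CfsgLib.IBr MonoidAlgebra

variable {G : Type*} [Group G] [Fintype G] {p : ℕ} [Fact p.Prime] {M : Ideal AlgInt} [M.IsPrime]
  {f : Set (IrrCharacter G)} {D : Subgroup G}

omit [Fintype G] [Fact p.Prime] [M.IsPrime] in
theorem exists_linear [Finite G] (hab : ∀ x ∈ D, ∀ y ∈ D, x * y = y * x) (μ : IrrCharacter D) :
    ∃ l : D →* ℂˣ, (μ : D → ℂ) = fun g => (l g : ℂ) :=
  exists_linear_of_degree_one (IsIrr.isCharacter μ.2)
    (Clifford.apply_one_eq_one_of_commute (fun a b => Subtype.ext (hab _ a.2 _ b.2)) μ)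

omit [Fact p.Prime] [Fintype G] in
theorem resHom_eq_one_of_pow [CharP (Res M) p] [Fact p.Prime] {w : localRing M} {k : ℕ}
    (h : w ^ p ^ k = 1) : resHom M w = 1 := by
  have h1 : (resHom M w - 1) ^ p ^ k = 0 := by
    rw [sub_pow_char_pow, one_pow, ← map_pow, h, map_one, sub_self]
  exact sub_eq_zero.1 (eq_zero_of_pow_eq_zero h1)

namespace NilParam

variable (N : NilParam p M f D) [Fintype (IrrCharacter D)]

/-- The central element attached to an element of the defect group. -/
noncomputable def aEl (g : D) : MonoidAlgebra ℂ G :=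
  ∑ μ : IrrCharacter D, (μ : D → ℂ) g • blockIdem {N.chi μ}

omit [Fact p.Prime] in
theorem isCentralElt_aEl (g : D) : IsCentralElt (N.aEl g) :=
  IsCentralElt.sum _ fun μ _ => (isCentralElt_blockIdem _).smul _

omit [Fact p.Prime] in
theorem aEl_one (hab : ∀ x ∈ D, ∀ y ∈ D, x * y = y * x) : N.aEl 1 = blockIdem f := by
  classical
  refine eq_of_omega_eq (N.isCentralElt_aEl 1) (isCentralElt_blockIdem f) fun ψ => ?_
  rw [omega_blockIdem, aEl, map_sum]
  simp only [map_smul, omega_blockIdem, Set.mem_singleton_iff,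
    Clifford.apply_one_eq_one_of_commute (fun a b : D => Subtype.ext (hab _ a.2 _ b.2)),
    smul_eq_mul, one_mul]
  split_ifs with h
  · obtain ⟨μ, rfl⟩ := N.surj ψ h
    simp [N.inj.eq_iff]
  · exact Finset.sum_eq_zero fun μ _ => if_neg fun e => h (by rw [e]; exact N.mem μ)

omit [Fact p.Prime] in
theorem aEl_mul (hab : ∀ x ∈ D, ∀ y ∈ D, x * y = y * x) (g h : D) :
    N.aEl g * N.aEl h = N.aEl (g * h) := by
  classical
  rw [aEl, aEl, aEl, Finset.sum_mul]
  refine Finset.sum_congr rfl fun μ _ => ?_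
  obtain ⟨l, hl⟩ := exists_linear hab μ
  rw [Finset.mul_sum, Finset.sum_eq_single μ]
  · rw [smul_mul_smul_comm, blockIdem_mul_self, hl]
    simp
  · intro ν _ hν
    rw [smul_mul_smul_comm, blockIdem_mul, Set.singleton_inter_eq_empty.2, blockIdem_empty, smul_zero]
    simp [N.inj.eq_iff, Ne.symm hν]
  · exact fun h => absurd (Finset.mem_univ _) h

variable (hM : IsPModular p M)
include hM

omit [Fintype (IrrCharacter D)] in
/-- The scale is a unit at `M`. -/
theorem exists_scale :
    ∃ c : localRing M, IsUnit c ∧ (c : ℂ) * (Nat.card G : ℂ) = N.deg * (Nat.card D : ℂ) := by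
  have hp := (Fact.out : p.Prime)
  have hn0 : N.deg * Nat.card D ≠ 0 := mul_ne_zero N.deg_pos.ne' Nat.card_pos.ne'
  set n := (Nat.card G).factorization p with hn
  have hfac : (N.deg * Nat.card D).factorization p = n := by
    rw [Nat.factorization_mul N.deg_pos.ne' Nat.card_pos.ne', Finsupp.add_apply]
    exact N.deg_factor
  obtain ⟨r, hr⟩ := Nat.ordProj_dvd (Nat.card G) p
  obtain ⟨s, hs⟩ := Nat.ordProj_dvd (N.deg * Nat.card D) p
  rw [hfac] at hs
  have hr' : ¬ p ∣ r := by
    intro hd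
    refine Nat.pow_succ_factorization_not_dvd Nat.card_pos.ne' hp (n := Nat.card G) ?_
    obtain ⟨i, rfl⟩ := hd
    exact ⟨i, by rw [pow_succ, mul_assoc]; exact hr⟩
  have hs' : ¬ p ∣ s := by
    intro hd
    refine Nat.pow_succ_factorization_not_dvd hn0 hp ?_
    obtain ⟨i, rfl⟩ := hd
    exact ⟨i, by rw [hfac, hs]; ring⟩
  obtain ⟨w, hw⟩ := isUnit_iff_exists_inv.1 ((isUnit_natCast_iff hM).2 hr')
  refine ⟨(s : localRing M) * w, ((isUnit_natCast_iff hM).2 hs').mul
    (IsUnit.of_mul_eq_one _ (by rw [mul_comm]; exact hw)), ?_⟩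
  have hw' : (r : ℂ) * (w : ℂ) = 1 := by simpa using congrArg Subtype.val hw
  have hs2 : (N.deg : ℂ) * (Nat.card D : ℂ) = ((p ^ n : ℕ) : ℂ) * s := by
    rw [← Nat.cast_mul, hs, Nat.cast_mul]
  rw [hs2, show (Nat.card G : ℂ) = ((p ^ n : ℕ) : ℂ) * r by rw [← Nat.cast_mul, ← hr]]
  push_cast
  linear_combination (s : ℂ) * (p : ℂ) ^ n * hw'

variable (hab : ∀ x ∈ D, ∀ y ∈ D, x * y = y * x)
include hab

/-- The coefficients, through the local values. -/
theorem exists_coeff (x : G) [Fintype D] : ∃ (c : localRing M) (φ : D → localRing M), IsUnit c ∧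
    (∀ g : D, (N.aEl g).coeff x = (c : ℂ) * (φ g⁻¹ : ℂ)) ∧
    ∀ μ, (N.chi μ : G → ℂ) x⁻¹ = ∑ v : D, (μ : D → ℂ) v * (φ v : ℂ) := by
  classical
  obtain ⟨c, hc, hcval⟩ := N.exists_scale hM
  obtain ⟨u, hu⟩ : ∃ u, IsPPart p x⁻¹ u := ⟨_, isPPart_pPt _⟩
  obtain ⟨φ, hφ, -, hform⟩ := N.formula x⁻¹ u hu
  refine ⟨c, fun v => ⟨φ v, hφ v⟩, hc, fun g => ?_, fun μ => hform μ⟩
  have hG : (Nat.card G : ℂ) ≠ 0 := Nat.cast_ne_zero.2 Nat.card_pos.ne'
  have := Fintype.ofFinite (IrrCharacter G)
  rw [aEl, MonoidAlgebra.coeff_sum, Finsupp.coe_finsetSum, Finset.sum_apply]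
  have hterm : ∀ μ : IrrCharacter D, ((μ : D → ℂ) g • blockIdem {N.chi μ}).coeff x =
      (Nat.card G : ℂ)⁻¹ * N.deg * ∑ v : D, (μ : D → ℂ) (g * v) * φ v := by
    intro μ
    obtain ⟨l, hl⟩ := exists_linear hab μ
    rw [coeff_smul, Finsupp.smul_apply, coeff_blockIdem, blockCoeff_eq_sum,
      show Finset.univ.filter (· ∈ ({N.chi μ} : Set (IrrCharacter G))) = {N.chi μ} by ext; simp,
      Finset.sum_singleton, N.apply_one, hform μ, smul_eq_mul, hl]
    simp only [map_mul, Units.val_mul, Finset.mul_sum]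
    exact Finset.sum_congr rfl fun v _ => by ring
  rw [Finset.sum_congr rfl fun μ _ => hterm μ, ← Finset.mul_sum, Finset.sum_comm]
  have hone : ∀ μ : IrrCharacter D, (μ : D → ℂ) 1 = 1 :=
    Clifford.apply_one_eq_one_of_commute (fun a b : D => Subtype.ext (hab _ a.2 _ b.2))
  rw [Finset.sum_eq_single g⁻¹]
  · rw [← Finset.sum_mul, mul_inv_cancel,
      show ∑ μ : IrrCharacter D, (μ : D → ℂ) 1 = (Nat.card D : ℂ) by
        rw [← sum_sq_degree (G := D)]
        exact Finset.sum_congr rfl fun μ _ => by rw [hone, one_pow]]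
    show _ = (c : ℂ) * φ g⁻¹
    field_simp
    linear_combination (-φ g⁻¹) * hcval
  · intro v _ hv
    rw [← Finset.sum_mul, show ∑ μ : IrrCharacter D, (μ : D → ℂ) (g * v) = 0 from ?_, zero_mul]
    rw [← sum_degree_mul_apply_of_ne_one (G := D) (g := g * v) fun h => hv (eq_inv_of_mul_eq_one_right h)]
    exact Finset.sum_congr rfl fun μ _ => by rw [hone, one_mul]
  · exact fun h => absurd (Finset.mem_univ _) h

open scoped Classical in
/-- The central element over the local ring. -/
noncomputable def aElO (g : D) : MonoidAlgebra (localRing M) G :=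
  ofFun fun x => if h : (N.aEl g).coeff x ∈ localRing M then ⟨_, h⟩ else 0

theorem inc_aElO (g : D) : inc M (N.aElO g) = N.aEl g := by
  ext x
  have := Fintype.ofFinite D
  obtain ⟨c, φ, -, hx, -⟩ := N.exists_coeff hM hab x
  have h : (N.aEl g).coeff x ∈ localRing M := by rw [hx]; exact mul_mem c.2 (φ _).2
  rw [coeff_inc, aElO, coeff_ofFun, dif_pos h]

/-- The reduced central element. -/
noncomputable def aBar (g : D) : MonoidAlgebra (Res M) G := red M (N.aElO g)

theorem isCentralElt_aBar (g : D) : IsCentralElt (N.aBar g) := by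
  refine isCentralElt_red fun x y => Subtype.ext ?_
  rw [← coeff_inc, ← coeff_inc, N.inc_aElO hM hab]
  exact N.isCentralElt_aEl g x y

theorem aBar_one (hf : IsPBlock M f) : N.aBar 1 = blockIdemBar M f := by
  rw [aBar, blockIdemBar,
    inc_injective (a₁ := N.aElO 1) (a₂ := blockIdemO M f)
      (by rw [N.inc_aElO hM hab, inc_blockIdemO hf, N.aEl_one hab])]

theorem aBar_mul (g h : D) : N.aBar g * N.aBar h = N.aBar (g * h) := by
  rw [aBar, aBar, ← map_mul, aBar,
    inc_injective (a₁ := N.aElO g * N.aElO h) (a₂ := N.aElO (g * h))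
      (by rw [map_mul, N.inc_aElO hM hab, N.inc_aElO hM hab, N.inc_aElO hM hab, N.aEl_mul hab])]

/-- A central element of the defect group acts as its image. -/
theorem single_mul_blockIdemBar (hf : IsPBlock M f) (hD : IsPGroup p D) (z : D)
    (hz : ∀ g, Commute (z : G) g) :
    single (z : G) 1 * blockIdemBar M f = N.aBar z := by
  classical
  have := charP_residueField hM
  have := Fintype.ofFinite D
  obtain ⟨a, ha⟩ := IsPGroup.iff_card.1 hD
  obtain ⟨b, hb⟩ := hD z
  have hzp : IsPPart p (z : G) (z : G) := by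
    refine ⟨1, by simp, Commute.one_right _, ?_, by simpa using hM.1.ne_one⟩
    obtain ⟨i, -, hi⟩ := (Nat.dvd_prime_pow (Fact.out : p.Prime)).1
      (orderOf_dvd_of_pow_eq_one (x := (z : G)) (by rw [← Subgroup.coe_pow, hb, Subgroup.coe_one]))
    exact ⟨i, hi⟩
  obtain ⟨φ, -, hφz, hform⟩ := N.formula (z : G) z hzp
  have hsum : ∀ μ : IrrCharacter D, (N.chi μ : G → ℂ) z = (μ : D → ℂ) z * φ z := fun μ => by
    rw [hform μ, Finset.sum_eq_single z]
    · intro v _ hv
      by_contra h
      obtain ⟨x, hx⟩ := isConj_iff.1 (hφz v fun e => h (by rw [e, mul_zero]))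
      exact hv (Subtype.ext (by rw [← hx, (hz x).symm.eq, mul_inv_cancel_right]))
    · exact fun h => absurd (Finset.mem_univ _) h
  have hcen : IsCentralElt (single (z : G) (1 : ℂ)) := fun g h => by
    simp only [coeff_single, Finsupp.single_apply]
    congr 1
    rw [eq_iff_iff]
    refine ⟨fun e => ?_, fun e => ?_⟩
    · rw [show g = h⁻¹ * (h * g * h⁻¹) * h by group, ← e, mul_assoc, (hz h).eq, inv_mul_cancel_left]
    · rw [← e, (hz h).symm.eq, mul_inv_cancel_right]
  have homega : ∀ ψ : IrrCharacter G, omega (ψ : G → ℂ) (single (z : G) 1) =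
      (ψ : G → ℂ) z / (ψ : G → ℂ) 1 := fun ψ => by
    rw [omega_apply]
    simp [coeff_single, Finsupp.single_apply]
  set r : ℂ := φ z / N.deg with hr
  have hr1 : r ^ p ^ b = 1 := by
    obtain ⟨l, hl⟩ := exists_linear hab (trivChar D)
    have h := congrArg (omega ((N.chi (trivChar D)) : G → ℂ))
      (show single (z : G) (1 : ℂ) ^ p ^ b = 1 by
        rw [single_pow, one_pow, ← Subgroup.coe_pow, hb, Subgroup.coe_one, MonoidAlgebra.one_def])
    rw [omega_pow _ hcen, omega_one, homega, hsum, N.apply_one, trivChar_apply, one_mul] at h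
    exact h
  set w : localRing M := ⟨r, mem_localRing_of_pow_eq_one
    (pow_ne_zero _ (Fact.out : p.Prime).ne_zero) hr1⟩
  have hw : resHom M w = 1 := resHom_eq_one_of_pow (k := b) (Subtype.ext (by simpa using hr1))
  have key : inc M (single (z : G) 1 * blockIdemO M f) = inc M (w • N.aElO z) := by
    have hinc : inc M (single (z : G) (1 : localRing M)) = single (z : G) (1 : ℂ) := by
      ext x
      simp [coeff_single, Finsupp.single_apply, apply_ite Subtype.val]
    have hsm : inc M (w • N.aElO z) = r • N.aEl z := by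
      ext x
      rw [coeff_inc, coeff_smul, Finsupp.smul_apply, coeff_smul, Finsupp.smul_apply,
        ← N.inc_aElO hM hab z, coeff_inc]
      rfl
    rw [map_mul, hinc, inc_blockIdemO hf, hsm]
    refine eq_of_omega_eq (hcen.mul (isCentralElt_blockIdem f)) ((N.isCentralElt_aEl z).smul r)
      fun ψ => ?_
    rw [omega_mul ψ hcen, homega, omega_blockIdem, map_smul, aEl, map_sum]
    simp only [map_smul, omega_blockIdem, Set.mem_singleton_iff, smul_eq_mul]
    split_ifs with h
    · obtain ⟨μ, rfl⟩ := N.surj ψ h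
      simp only [N.inj.eq_iff, mul_ite, mul_one, mul_zero, Finset.sum_ite_eq, Finset.mem_univ,
        if_true, hsum, N.apply_one, hr]
      ring
    · rw [Finset.sum_eq_zero fun μ _ => by rw [if_neg fun e => h (by rw [e]; exact N.mem μ), mul_zero],
        mul_zero, mul_zero]
  have := congrArg (red M) (inc_injective key)
  rw [map_mul, red_single, map_one] at this
  rw [blockIdemBar, this, aBar]
  ext x
  simp [hw]

/-- The sum over the defect group does not vanish where the values are units. -/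
theorem coeff_sum_aBar [Fintype D] (hD : IsPGroup p D) (μ : IrrCharacter D) (x : G) :
    ∃ c : Res M, c ≠ 0 ∧ (∑ g : D, N.aBar g).coeff x =
      c * resHom M ⟨(N.chi μ : G → ℂ) x⁻¹, apply_mem_localRing (N.chi μ) _⟩ := by
  classical
  have := charP_residueField hM
  obtain ⟨c, φ, hc, hx, hform⟩ := N.exists_coeff hM hab x
  refine ⟨resHom M c, (hc.map (resHom M)).ne_zero, ?_⟩
  obtain ⟨l, hl⟩ := exists_linear hab μ
  obtain ⟨a, ha⟩ := IsPGroup.iff_card.1 hD
  have hcoeff : ∀ g : D, (N.aBar g).coeff x = resHom M (c * φ g⁻¹) := fun g => by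
    rw [aBar, coeff_red]
    congr 1
    refine Subtype.ext ?_
    rw [← coeff_inc, N.inc_aElO hM hab, hx]
    rfl
  have hlv : ∀ v : D, ((l v : ℂˣ) : ℂ) ^ p ^ a = 1 := fun v => by
    rw [← Units.val_pow_eq_pow_val, ← map_pow, ← ha, pow_card_eq_one', map_one, Units.val_one]
  let L : D → localRing M := fun v =>
    ⟨_, mem_localRing_of_pow_eq_one (pow_ne_zero _ (Fact.out : p.Prime).ne_zero) (hlv v)⟩
  have hval : (⟨(N.chi μ : G → ℂ) x⁻¹, apply_mem_localRing (N.chi μ) _⟩ : localRing M) =
      ∑ v : D, L v * φ v := Subtype.ext (by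
    show (N.chi μ : G → ℂ) x⁻¹ = _
    rw [hform μ, hl]
    simp [L])
  rw [hval, map_sum, Finset.mul_sum, MonoidAlgebra.coeff_sum, Finsupp.coe_finsetSum, Finset.sum_apply]
  refine Fintype.sum_equiv (Equiv.inv D) _ _ fun g => ?_
  rw [hcoeff, Equiv.inv_apply, map_mul, map_mul,
    resHom_eq_one_of_pow (w := L g⁻¹) (k := a) (Subtype.ext (by simpa [L] using hlv g⁻¹)), one_mul]

include N in
omit hab [Fintype (IrrCharacter D)] in
/-- The block has a single Brauer character, of multiplicity one. -/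
theorem exists_brauer (hf : IsPBlock M f) (E : Data G M) [Fintype (IrrCharacter G)] :
    ∃ δ, E.block hM δ = f ∧ (∀ δ', E.block hM δ' = f → δ' = δ) ∧ ∀ χ ∈ f, E.dec χ δ = 1 := by
  classical
  obtain ⟨μ₀⟩ : Nonempty (IrrCharacter D) := ⟨trivChar D⟩
  have hreg : ∀ χ ∈ f, pRegularPart p (χ : G → ℂ) = pRegularPart p (N.chi μ₀ : G → ℂ) := by
    intro χ hχ
    obtain ⟨ν, rfl⟩ := N.surj χ hχ
    funext g
    by_cases hg : p ∣ orderOf g
    · simp [pRegularPart, IsPRegular, hg]
    · simp [pRegularPart, IsPRegular, hg, N.regular ν μ₀ g hg]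
  have h0 : pRegularPart p (N.chi μ₀ : G → ℂ) ≠ 0 := fun h => by
    have := congrFun h 1
    simp [pRegularPart, IsPRegular, hM.1.ne_one, N.apply_one, N.deg_pos.ne'] at this
  have hcard : Nat.card {δ // E.block hM δ = f} = 1 := by
    rw [E.card_block_eq hM hf, blockRank,
      show (fun χ : IrrCharacter G => pRegularPart p (χ : G → ℂ)) '' f =
        {pRegularPart p (N.chi μ₀ : G → ℂ)} by
        ext v
        simp only [Set.mem_image, Set.mem_singleton_iff]
        exact ⟨fun ⟨χ, hχ, e⟩ => e ▸ hreg χ hχ, fun e => ⟨_, N.mem μ₀, e.symm⟩⟩,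
      finrank_span_singleton h0]
  obtain ⟨hsub, ⟨⟨δ, hδ⟩⟩⟩ := Nat.card_eq_one_iff_unique.1 hcard
  have huniq : ∀ δ', E.block hM δ' = f → δ' = δ := fun δ' h' =>
    congrArg Subtype.val (hsub.elim ⟨δ', h'⟩ ⟨δ, hδ⟩)
  refine ⟨δ, hδ, huniq, fun χ hχ => ?_⟩
  have hexp : ∀ χ ∈ f, pRegularPart p (χ : G → ℂ) = (E.dec χ δ : ℂ) • E.phi p δ := by
    intro χ hχ
    rw [E.pRegularPart_eq_sum hM χ, Finset.sum_eq_single δ]
    · intro δ' _ hne
      rw [E.dec_eq_zero_of_ne hM hf hχ fun h => hne (huniq δ' h), Nat.cast_zero, zero_smul]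
    · exact fun h => absurd (Finset.mem_univ _) h
  obtain ⟨c, hc, hphi⟩ := exists_int_combination hM E δ
  have hphi0 : E.phi p δ ≠ 0 := (E.linearIndependent_phi hM).ne_zero δ
  have hdec : ∀ ψ ∈ f, E.dec ψ δ = E.dec χ δ := fun ψ hψ => by
    have h := ((hexp ψ hψ).symm.trans ((hreg ψ hψ).trans (hreg χ hχ).symm)).trans (hexp χ hχ)
    exact_mod_cast smul_left_injective ℂ hphi0 h
  have h1 : E.phi p δ = ((∑ ψ, c ψ : ℤ) * (E.dec χ δ : ℤ) : ℤ) • E.phi p δ := by
    conv_lhs => rw [hphi]
    rw [Finset.sum_mul, Finset.sum_smul]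
    refine Finset.sum_congr rfl fun ψ _ => ?_
    by_cases hψ : c ψ = 0
    · simp [hψ]
    · have hψf : ψ ∈ f := hδ ▸ hc ψ hψ
      rw [hexp ψ hψf, hdec ψ hψf, smul_smul, ← Int.cast_smul_eq_zsmul ℂ]
      push_cast
      rfl
  have h2 : ((∑ ψ, c ψ) * (E.dec χ δ : ℤ) : ℤ) = 1 := by
    rw [← Int.cast_smul_eq_zsmul ℂ] at h1
    have h3 := smul_left_injective ℂ hphi0
      (show (((∑ ψ, c ψ) * (E.dec χ δ : ℤ) : ℤ) : ℂ) • E.phi p δ = ((1 : ℤ) : ℂ) • E.phi p δ by
        simpa using h1.symm)
    exact Int.cast_injective h3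
  exact Nat.dvd_one.1 (Int.natCast_dvd_natCast.1 ⟨∑ ψ, c ψ, by rw [Nat.cast_one, ← h2, mul_comm]⟩)

include N in
theorem exists_localAlg (hf : IsPBlock M f) (hD : IsPGroup p D) [IsCyclic D] (hD1 : D ≠ ⊥) :
    ∃ X ε : MonoidAlgebra (Res M) G,
      LocalAlg (k := Res M) (Nat.card D) (blockIdemBar M f) X ε ∧
      ∀ z ∈ D, orderOf z = p → (∀ g, Commute z g) → ∃ l : ℕ, ¬ p ∣ l ∧
        single z 1 * blockIdemBar M f = blockIdemBar M f * (1 + X ^ (Nat.card D / p)) ^ l := by
  classical
  have hp := (Fact.out : p.Prime)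
  have := charP_residueField hM
  have : CharP (MonoidAlgebra (Res M) G) p := by
    exact charP_of_injective_algebraMap (R := Res M) (A := MonoidAlgebra (Res M) G)
      (algebraMap (Res M) _).injective p
  have := Fintype.ofFinite D
  have := Fintype.ofFinite (IrrCharacter G)
  set q := Nat.card D with hq
  obtain ⟨a, ha⟩ := IsPGroup.iff_card.1 hD
  rw [← hq] at ha
  have hq2 : 2 ≤ q := (Subgroup.one_lt_card_iff_ne_bot D).2 hD1
  have ha1 : 1 ≤ a := by
    by_contra h0
    rw [show a = 0 by omega, pow_zero] at ha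
    omega
  set F := blockIdemBar M f with hF
  have hFc : ∀ y, Commute F y := (isCentralElt_blockIdemBar hf).commute
  have hFF : F * F = F := blockIdemBar_mul_self hf
  obtain ⟨g₀, hg₀⟩ := IsCyclic.exists_generator (α := D)
  have hord : orderOf g₀ = q := orderOf_eq_card_of_forall_mem_zpowers hg₀
  set X := N.aBar g₀ - F with hX
  have hXc : ∀ y, Commute X y := fun y => ((N.isCentralElt_aBar hM hab g₀).commute y).sub_left (hFc y)
  have hgF : N.aBar g₀ * F = N.aBar g₀ := by
    rw [hF, ← N.aBar_one hM hab hf, N.aBar_mul hM hab, mul_one]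
  have hXF : X * F = X := by rw [hX, sub_mul, hgF, hFF]
  have hpow : ∀ n : ℕ, F * (1 + X) ^ n = N.aBar (g₀ ^ n) := by
    intro n
    induction n with
    | zero => rw [pow_zero, pow_zero, mul_one, N.aBar_one hM hab hf]
    | succ n ih =>
      rw [pow_succ, pow_succ, ← mul_assoc, ih, mul_add, mul_one, hX, mul_sub, N.aBar_mul hM hab,
        hF, ← N.aBar_one hM hab hf, N.aBar_mul hM hab, mul_one]
      abel
  have hXq : X ^ q = 0 := by
    have h := hpow q
    rw [show g₀ ^ q = 1 by rw [← hord]; exact pow_orderOf_eq_one g₀, N.aBar_one hM hab hf, ← hF, ha,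
      add_pow_char_pow_of_commute p _ (Commute.one_left X), one_pow, ← ha, mul_add, mul_one,
      add_eq_left] at h
    calc X ^ q = X ^ (q - 1) * (X * F) := by
          rw [hXF, ← pow_succ, Nat.sub_add_cancel (show 1 ≤ q by omega)]
      _ = F * X ^ q := by
          rw [← mul_assoc, ← pow_succ, Nat.sub_add_cancel (show 1 ≤ q by omega), (hFc _).eq]
      _ = 0 := h
  have hgeom : X ^ (q - 1) = ∑ g : D, N.aBar g := by
    have hpoly : ∀ (R : Type) [CommRing R] [CharP R p], ∀ u : R,
        (∑ i ∈ Finset.range q, u ^ i) * (u - 1) = (u - 1) ^ q := fun R _ _ u => by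
      rw [geom_sum_mul, ha, sub_pow_char_pow, one_pow]
    have hP : (∑ i ∈ Finset.range q, (1 + Polynomial.X : Polynomial (Res M)) ^ i) =
        Polynomial.X ^ (q - 1) := by
      have h := hpoly _ (1 + Polynomial.X : Polynomial (Res M))
      rw [add_sub_cancel_left, ← Nat.sub_add_cancel (show 1 ≤ q by omega), pow_succ,
        Nat.sub_add_cancel (show 1 ≤ q by omega)] at h
      exact mul_right_cancel₀ Polynomial.X_ne_zero h
    have h := congrArg (fun P : Polynomial (Res M) => F * Polynomial.aeval X P) hP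
    simp only [map_sum, map_pow, map_add, map_one, Polynomial.aeval_X, Finset.mul_sum, hpow] at h
    have hFX : F * X ^ (q - 1) = X ^ (q - 1) := by
      rw [← Nat.sub_add_cancel (show 1 ≤ q - 1 by omega), pow_succ', ← mul_assoc, (hFc X).eq, hXF]
    rw [← hFX, ← h]
    refine Finset.sum_bij (fun i _ => g₀ ^ i) (fun _ _ => Finset.mem_univ _) ?_ ?_ fun _ _ => rfl
    · intro i hi j hj e
      rw [Finset.mem_range] at hi hj
      exact pow_injOn_Iio_orderOf (by simpa [hord] using hi) (by simpa [hord] using hj) e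
    · intro g _
      obtain ⟨n, hn⟩ := (mem_zpowers_iff_mem_range_orderOf.1 (hg₀ g) : _) |> Finset.mem_image.1
      exact ⟨n, by rw [← hord]; exact hn.1, hn.2⟩
  obtain ⟨E⟩ := nonempty_data (G := G) (M := M)
  obtain ⟨δ, hδ, huniq, hdec⟩ := N.exists_brauer hM hf E
  set ε := E.ε δ * F with hεd
  have hεF : ε * F = ε := by rw [hεd, mul_assoc, hFF]
  have hεε : ε * ε = ε := by
    rw [hεd, mul_assoc, ← mul_assoc F, (hFc _).eq, mul_assoc (E.ε δ), hFF, ← mul_assoc, E.hε]
  have hψF : ∀ δ', E.ψ F δ' = if δ' = δ then 1 else 0 := fun δ' => by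
    split_ifs with h
    · exact h ▸ E.psi_blockIdemBar hM hf hδ
    · exact E.psi_blockIdemBar_of_ne hM hf fun hb => h (huniq δ' hb)
  have hψε : ∀ δ', E.ψ ε δ' = E.ψ (E.ε δ) δ' := fun δ' => by
    rw [hεd, map_mul, Pi.mul_apply, hψF]
    split_ifs with h
    · rw [mul_one]
    · rw [E.hεψ, Pi.single_eq_of_ne h, zero_mul]
  have hfull : ∃ (m : ℕ) (u v : Fin m → MonoidAlgebra (Res M) G), F = ∑ j, u j * ε * v j := by
    choose u hu using fun i : Fin (E.d δ) =>
      E.surj (Pi.single δ (Matrix.single i 0 (1 : Res M)))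
    choose v hv using fun i : Fin (E.d δ) =>
      E.surj (Pi.single δ (Matrix.single 0 i (1 : Res M)))
    set T := F * ∑ i, u i * ε * v i with hT
    have hψT : E.ψ T = E.ψ F := by
      funext δ'
      simp only [hT, map_mul, map_sum, Pi.mul_apply, Finset.sum_apply, hψF, hu, hv, hψε, E.hεψ]
      split_ifs with h
      · subst h
        simp [Matrix.sum_single_eq_diagonal]
      · rw [zero_mul]
    obtain ⟨n, hn⟩ := E.nil (F - T) (by rw [map_sub, hψT, sub_self])
    have hTF : F * (F - T) = F - T := by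
      rw [mul_sub, hFF, hT, ← mul_assoc, hFF]
    set s := ∑ i ∈ Finset.range n, (F - T) ^ i with hs
    have hs1 : (1 - (F - T)) * s = 1 := by
      rw [hs, mul_neg_geom_sum, hn, sub_zero]
    have hFT : F * (1 - (F - T)) = T := by rw [mul_sub, mul_one, hTF, sub_sub_cancel]
    refine ⟨E.d δ, fun i => F * u i, fun i => v i * s, ?_⟩
    calc F = F * ((1 - (F - T)) * s) := by rw [hs1, mul_one]
      _ = T * s := by rw [← mul_assoc, hFT]
      _ = _ := by
        simp only [hT, Finset.mul_sum, Finset.sum_mul, mul_assoc]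
  have hsumne : (∑ g : D, N.aBar g) ≠ 0 := by
    intro h0
    have hμ := N.mem (trivChar D)
    obtain ⟨qe, hqe, -, hqr⟩ := exists_lift_idem (E.hε δ) (invUnder_one (E.ε δ))
    have h1 : ((E.dec (N.chi (trivChar D)) δ : ℤ) : ℂ) =
        ∑ w, (qe.coeff w : ℂ) * (N.chi (trivChar D) : G → ℂ) w := by
      rw [E.dec_cast, mult_cast hM _ (E.hε δ),
        sv_eq hM _ (isPPart_one hM) (E.hε δ) (invUnder_one _) hqe (invUnder_one _) (by rw [hqr]),
        tr]
      simp
    have h2 : (1 : localRing M) =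
        ∑ w, qe.coeff w * ⟨(N.chi (trivChar D) : G → ℂ) w, apply_mem_localRing _ _⟩ := by
      refine Subtype.ext ?_
      rw [hdec _ hμ] at h1
      simpa using h1
    have h3 := congrArg (resHom M) h2
    rw [map_one, map_sum] at h3
    refine one_ne_zero (h3.trans (Finset.sum_eq_zero fun w _ => ?_))
    obtain ⟨c, hc, hcw⟩ := N.coeff_sum_aBar hM hab hD (trivChar D) w⁻¹
    rw [h0] at hcw
    simp only [coeff_zero, Finsupp.coe_zero, Pi.zero_apply, inv_inv, zero_eq_mul] at hcw
    rw [map_mul, hcw.resolve_left hc, mul_zero]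
  obtain ⟨m, uu, vv, hFeq⟩ := hfull
  have htop : X ^ (q - 1) * ε ≠ 0 := by
    intro h0
    refine hsumne ?_
    rw [← hgeom]
    have hXFq : X ^ (q - 1) * F = X ^ (q - 1) := by
      rw [← Nat.sub_add_cancel (show 1 ≤ q - 1 by omega), pow_succ, mul_assoc, hXF]
    rw [← hXFq, hFeq, Finset.mul_sum]
    refine Finset.sum_eq_zero fun j _ => ?_
    rw [← mul_assoc, ← mul_assoc, ((hXc _).pow_left _).eq, mul_assoc (uu j), h0, mul_zero, zero_mul]
  have hdim : Module.finrank (Res M) (LinearMap.range (compr (Res M) ε)) = q := by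
    have h := finrank_corner_eq (p := p) hM hεε
    have hsum : ∑ χ : IrrCharacter G, mult (M := M) (χ : G → ℂ) ε ^ 2 = (q : ℤ) := by
      have hm : ∀ χ : IrrCharacter G, mult (M := M) (χ : G → ℂ) ε = if χ ∈ f then 1 else 0 := by
        intro χ
        rw [E.mult_eq_sum hM χ hεε, Finset.sum_eq_single δ]
        · rw [Data.rk, hψε, E.hεψ, Pi.single_eq_same, rank_single_one, Nat.cast_one, one_mul]
          split_ifs with hχ
          · rw [hdec χ hχ, Nat.cast_one]
          · rw [Nat.cast_eq_zero]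
            by_contra hne
            exact hχ (hδ ▸ E.mem_block_of_dec hM hne)
        · intro b _ hb
          rw [Data.rk, hψε, E.hεψ, Pi.single_eq_of_ne hb, Matrix.rank_zero, Nat.cast_zero, zero_mul]
        · exact fun h => absurd (Finset.mem_univ _) h
      simp only [hm, ite_pow, one_pow, zero_pow two_ne_zero, ← Finset.sum_filter, Finset.sum_const,
        nsmul_eq_mul, mul_one]
      congr 1
      have := IsCyclic.commGroup (α := D)
      have hcardI : Fintype.card (IrrCharacter D) = q := by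
        have hone : ∀ μ : IrrCharacter D, (μ : D → ℂ) 1 = 1 :=
          Clifford.apply_one_eq_one_of_commute (fun a b : D => Subtype.ext (hab _ a.2 _ b.2))
        have h := sum_sq_degree (G := D)
        simp only [hone, one_pow, Finset.sum_const, nsmul_eq_mul, mul_one] at h
        exact_mod_cast h
      rw [← hcardI, ← Finset.card_univ]
      refine (Finset.card_bij (fun μ _ => N.chi μ) (fun μ _ => by simp [N.mem μ])
        (fun _ _ _ _ e => N.inj e) fun χ hχ => ?_).symm
      obtain ⟨μ, hμ⟩ := N.surj χ (Finset.mem_filter.1 hχ).2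
      exact ⟨μ, Finset.mem_univ _, hμ⟩
    rw [hsum] at h
    exact_mod_cast h
  refine ⟨X, ε, ⟨hq2, hFc, hFF, hXc, hXF, hXq, hεε, hεF, ?_, ⟨m, uu, vv, hFeq⟩, htop⟩, ?_⟩
  · let Φ : (Fin q → Res M) →ₗ[Res M] LinearMap.range (compr (Res M) ε) :=
      LinearMap.codRestrict _ (Fintype.linearCombination (Res M) fun i : Fin q => X ^ (i : ℕ) * ε)
        fun c => (mem_range_compr hεε).2 (by
          simp only [Fintype.linearCombination_apply, Finset.mul_sum, Finset.sum_mul, mul_smul_comm,
            smul_mul_assoc]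
          refine Finset.sum_congr rfl fun i _ => ?_
          rw [← mul_assoc ε, ← ((hXc ε).pow_left _).eq,
            mul_assoc _ ε ε, hεε, mul_assoc _ ε ε, hεε])
    have hinj : Function.Injective Φ := by
      have hli : LinearIndependent (Res M) fun i : Fin q => X ^ (i : ℕ) * ε := by
        rw [Fintype.linearIndependent_iff]
        intro c hc
        suffices h : ∀ n (hn : n < q), c ⟨n, hn⟩ = 0 from fun i => h i i.2
        intro n
        induction n using Nat.strong_induction_on with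
        | _ n ih =>
          intro hn
          have h2 := congrArg (fun y => X ^ (q - 1 - n) * y) hc
          simp only [mul_zero, Finset.mul_sum] at h2
          rw [Finset.sum_eq_single (⟨n, hn⟩ : Fin q)] at h2
          · rw [mul_smul_comm, ← mul_assoc, ← pow_add, Nat.sub_add_cancel (by omega)] at h2
            exact (smul_eq_zero.1 h2).resolve_right htop
          · intro j _ hj
            rw [mul_smul_comm, ← mul_assoc, ← pow_add]
            rcases lt_or_gt_of_ne (fun e => hj (Fin.ext e) : (j : ℕ) ≠ n) with hlt | hgt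
            · rw [show c j = 0 from ih j hlt j.2, zero_smul]
            · rw [show q - 1 - n + j = q + ((j : ℕ) - n - 1) by omega, pow_add, hXq, zero_mul,
                zero_mul, smul_zero]
          · simp
      intro c d hcd
      exact (linearIndependent_iff_injective_fintypeLinearCombination.1 hli)
        (congrArg Subtype.val hcd)
    have hsurj : Function.Surjective Φ :=
      (LinearMap.injective_iff_surjective_of_finrank_eq_finrank (by simp [hdim])).1 hinj
    intro y
    obtain ⟨c, hc⟩ := hsurj ⟨ε * y * ε, y, compr_apply ε y⟩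
    exact ⟨c, (congrArg Subtype.val hc).symm⟩
  · intro z hz ho hzc
    obtain ⟨n, hn⟩ : ∃ n : ℕ, g₀ ^ n = ⟨z, hz⟩ :=
      (isOfFinOrder_of_finite g₀).mem_powers_iff_mem_zpowers.2 (hg₀ _)
    have hqp : q = q / p * p := (Nat.div_mul_cancel (ha ▸ dvd_pow_self p (by omega))).symm
    have hdiv : q / p ∣ n := by
      have h1 : g₀ ^ (n * p) = 1 := by
        rw [pow_mul, hn]
        refine Subtype.ext ?_
        rw [Subgroup.coe_pow, ← ho, pow_orderOf_eq_one, Subgroup.coe_one]
      have h2 := orderOf_dvd_of_pow_eq_one h1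
      rw [hord, hqp] at h2
      exact Nat.dvd_of_mul_dvd_mul_right hp.pos h2
    obtain ⟨l, rfl⟩ := hdiv
    refine ⟨l, fun hl => ?_, ?_⟩
    · obtain ⟨i, rfl⟩ := hl
      rw [← mul_assoc, ← hqp, pow_mul, ← hord, pow_orderOf_eq_one, one_pow] at hn
      have : z = 1 := by simpa using (congrArg Subtype.val hn).symm
      rw [this, orderOf_one] at ho
      exact hp.ne_one ho.symm
    · have := N.single_mul_blockIdemBar hM hab hf hD ⟨z, hz⟩ hzc
      rw [← hF] at this
      rw [this, ← hn, ← hpow, pow_mul]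
      congr 2
      rw [show q / p = p ^ (a - 1) by
        rw [ha, Nat.pow_div ha1 hp.pos |>.symm, pow_one],
        add_pow_char_pow_of_commute p _ (Commute.one_left X), one_pow]

end NilParam

end CfsgLib.Blocks.Cyclic
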