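import Cfsg.Agent.Lib.Blocks.Star.Nilpotent
import Cfsg.Agent.Lib.Blocks.HeightZero
import Cfsg.Agent.Lib.Blocks.DefectNumber
import Cfsg.Agent.Lib.Blocks.RegularValues
import Cfsg.Agent.Lib.Char.AbelianInertia

/-!
# The values of a nilpotent block with abelian defect group

The characters are parametrized by the linear characters of the defect group, and at an element
with `p`-part `u` each is a combination of their values at the conjugates of `u`, with coefficients
independent of the parameter and integral at `M`.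
-/

set_option autoImplicit false

open scoped ComplexConjugate

namespace CfsgLib.Blocks.Cyclic

open Cfsg CfsgLib.Blocks CfsgLib.Pairs CfsgLib.Star CfsgLib.Char

/-- The parametrization of a nilpotent block with abelian defect group. -/
structure NilParam {G : Type*} [Group G] (p : ℕ) (M : Ideal AlgInt) [M.IsPrime]
    (f : Set (IrrCharacter G)) (D : Subgroup G) where
  /-- The parametrization. -/
  chi : IrrCharacter D → IrrCharacter G
  /-- The common degree. -/
  deg : ℕ
  mem : ∀ μ, chi μ ∈ f
  inj : Function.Injective chi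
  surj : ∀ χ ∈ f, ∃ μ, chi μ = χ
  deg_pos : 0 < deg
  deg_factor : deg.factorization p + (Nat.card D).factorization p = (Nat.card G).factorization p
  apply_one : ∀ μ, (chi μ : G → ℂ) 1 = deg
  regular : ∀ μ ν (g : G), ¬ p ∣ orderOf g → (chi μ : G → ℂ) g = (chi ν : G → ℂ) g
  formula : ∀ (g u : G), IsPPart p g u → ∃ φ : D → ℂ, (∀ v, φ v ∈ localRing M) ∧
    (∀ v, φ v ≠ 0 → IsConj u (v : G)) ∧
    ∀ [Fintype D], ∀ μ, (chi μ : G → ℂ) g = ∑ v : D, (μ : D → ℂ) v * φ v

variable {G : Type*} [Group G] [Fintype G] {p : ℕ} [Fact p.Prime] {M : Ideal AlgInt} [M.IsPrime]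
  {f : Set (IrrCharacter G)} {D : Subgroup G}

/-- The parametrization exists. -/
theorem exists_nilParam (hM : IsPModular p M) (hnil : IsNilpotentBlock p M f)
    (hD : IsDefectGroup p M f D) (hab : ∀ x ∈ D, ∀ y ∈ D, x * y = y * x) :
    Nonempty (NilParam p M f D) := by
  classical
  have hB := hnil.1
  obtain ⟨e, he⟩ := exists_pairOf_of_isDefectGroup hM hB hD
  have hmax := isMaximal_of_isDefectGroup hM he hD
  have hF := isBlockFusionSystemOn_blockFusion hM hmax
  have hinn := (nilpotent_iff_inner hF hM).1 hnil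
  obtain ⟨χ, hχ, hχ0⟩ := exists_height_zero (p := p) (IsPBlock.nonempty hB)
  obtain ⟨Φ, hΦ⟩ := exists_equiv_of_nilpotent hM hF hχ hinn hnil hχ0
  have hcomm : ∀ a b : D, a * b = b * a := fun a b => Subtype.ext (hab _ a.2 _ b.2)
  have hone : ∀ μ : IrrCharacter D, (μ : D → ℂ) 1 = 1 :=
    Clifford.apply_one_eq_one_of_commute hcomm
  have hext1 : ∀ μ : IrrCharacter D, extP D (μ : D → ℂ) (1 : G) = 1 := fun μ => by
    rw [← Subgroup.coe_one D, extP_coe, hone]
  have hreg : ∀ μ (g : G), ¬ p ∣ orderOf g →
      (((Φ μ : f) : IrrCharacter G) : G → ℂ) g = (χ : G → ℂ) g := fun μ g hg => by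
    rw [hΦ, star_apply_regular hM hF hχ (isStableChar_extP hinn μ) hg, hext1, one_mul]
  refine ⟨⟨fun μ => (Φ μ : f), charDegree (χ : G → ℂ), fun μ => (Φ μ).2,
    fun a b h => Φ.injective (Subtype.ext h), fun ψ hψ => ⟨Φ.symm ⟨ψ, hψ⟩, by simp⟩,
    Blocks.charDegree_pos χ, ?_, fun μ => ?_, fun μ ν g hg => by rw [hreg μ g hg, hreg ν g hg],
    fun g u hu => ?_⟩⟩
  · rw [IsDefectGroup.card_eq hM hB hD, Nat.factorization_pow, Finsupp.smul_apply,
      (Fact.out : p.Prime).factorization_self, smul_eq_mul, mul_one,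
      (blockHeight_eq_zero_iff_minExp hχ).1 hχ0]
    have hle : minExp p f ≤ (Nat.card G).factorization p := by
      rw [← (blockHeight_eq_zero_iff_minExp hχ).1 hχ0]
      exact (Nat.factorization_le_iff_dvd (Blocks.charDegree_pos χ).ne' Nat.card_pos.ne').2
        (Blocks.charDegree_dvd_card χ) p
    show minExp p f + ((Nat.card G).factorization p - minExp p f) = _
    omega
  · rw [hreg μ 1 (by simpa using hM.1.ne_one), apply_one_eq_charDegree]
  · obtain ⟨s, hs, hc, hk, hso⟩ := id hu
    have hsC : s ∈ Subgroup.centralizer (Subgroup.zpowers u : Set G) := by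
      refine Subgroup.mem_centralizer_iff.2 fun z hz => ?_
      obtain ⟨n, rfl⟩ := Subgroup.mem_zpowers_iff.1 hz
      exact (hc.zpow_left n).eq
    have := Fintype.ofFinite {b : Set (IrrCharacter
      (Subgroup.centralizer (Subgroup.zpowers u : Set G))) // IsPBlock M b}
    set sC : Subgroup.centralizer (Subgroup.zpowers u : Set G) := ⟨s, hsC⟩
    have hsC' : ¬ p ∣ orderOf sC := by rwa [Subgroup.orderOf_mk]
    set part : {b : Set (IrrCharacter (Subgroup.centralizer (Subgroup.zpowers u : Set G))) //
        IsPBlock M b} → ℂ := fun b => blockPart b.1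
      (fun c : Subgroup.centralizer (Subgroup.zpowers u : Set G) => (χ : G → ℂ) (u * (c : G))) sC
    -- the element of `D` attached to a pair
    have hv : ∀ b : {b : Set (IrrCharacter (Subgroup.centralizer (Subgroup.zpowers u : Set G))) //
        IsPBlock M b}, ∃ v : D, part b ≠ 0 → IsConj u (v : G) ∧ ∀ μ : IrrCharacter D,
          wt p M D e (extP D (μ : D → ℂ)) u ⟨Subgroup.zpowers u, b.1⟩ = (μ : D → ℂ) v := by
      intro b
      by_cases h0 : part b = 0
      · exact ⟨1, fun h => absurd h0 h⟩
      have hpair : IsBrauerPairOf p M f (Subgroup.zpowers u) b.1 := by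
        by_contra hnot
        exact h0 (part_eq_zero_of_not_pairOf hM hk hB hχ b.2 hnot hsC')
      obtain ⟨x, hx⟩ := exists_conj_le hM hF.1 hpair
      have hmem : x * u * x⁻¹ ∈ D := le_of_subpairLE hx ⟨u, Subgroup.mem_zpowers u, rfl⟩
      refine ⟨⟨_, hmem⟩, fun _ => ⟨isConj_iff.2 ⟨x, rfl⟩, fun μ => ?_⟩⟩
      rw [wt_eq hM hF (isStableChar_extP hinn μ) (a := ⟨Subgroup.zpowers u, b.1⟩)
        (Subgroup.mem_zpowers u) hx, extP, dif_pos hmem]
    choose v hv using hv
    have hpart : ∀ b, part b ∈ localRing M := by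
      intro b
      simp only [part]
      rw [blockPart_eq_sum_blockCoeff]
      · exact sum_mem fun k _ => mul_mem (blockCoeff_mem b.2 k) (apply_mem_localRing χ _)
      · intro c d
        have hcomm' : Commute u (d : G) :=
          Subgroup.mem_centralizer_iff.1 d.2 u (Subgroup.mem_zpowers u)
        show (χ : G → ℂ) (u * ((d * c * d⁻¹ : Subgroup.centralizer (Subgroup.zpowers u : Set G)) : G)) =
          (χ : G → ℂ) (u * (c : G))
        rw [show u * ((d * c * d⁻¹ : Subgroup.centralizer (Subgroup.zpowers u : Set G)) : G) =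
            (d : G) * (u * c) * (d : G)⁻¹ by
          simp only [Subgroup.coe_mul, Subgroup.coe_inv, ← mul_assoc, hcomm'.eq]]
        exact Char.IsIrr.isClassFunction χ.2 _ _
    refine ⟨fun w => ∑ b ∈ Finset.univ.filter (fun b => v b = w), part b,
      fun w => sum_mem fun b _ => hpart b, fun w hw => ?_, fun {_} μ => ?_⟩
    · obtain ⟨b, hb, hne⟩ := Finset.exists_ne_zero_of_sum_ne_zero hw
      rw [← (Finset.mem_filter.1 hb).2]
      exact (hv b hne).1
    · simp only [Finset.mul_sum]
      rw [hΦ, ← hs, show u * s = u * ((sC : Subgroup.centralizer (Subgroup.zpowers u : Set G)) : G) from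
        rfl, star_eq_sum_blockPart hM hF (isStableChar_extP hinn μ) χ hk hsC']
      rw [← Finset.sum_fiberwise Finset.univ v]
      refine Finset.sum_congr rfl fun w _ => Finset.sum_congr rfl fun b hb => ?_
      rw [← (Finset.mem_filter.1 hb).2]
      by_cases h0 : part b = 0
      · rw [show blockPart b.1 _ sC = part b from rfl, h0, mul_zero, mul_zero]
      · rw [(hv b h0).2 μ]

end CfsgLib.Blocks.Cyclic
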