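import Cfsg.Agent.Lib.Blocks.Cyclic.Twists
import Cfsg.Agent.Lib.Blocks.PrimeSylow.Stable

/-!
# Restriction to a subgroup, conjugation, and traces of operators
-/

set_option autoImplicit false

namespace CfsgLib.Blocks.Cyclic

open MonoidAlgebra

variable {k : Type*} [Field k] {G : Type*} [Group G] {W : Type*} [AddCommGroup W] [Module k W]

/-- Conjugation by a normalizing element. -/
abbrev conjC (C : Subgroup G) (g : Subgroup.normalizer (C : Set G)) : C ≃* C :=
  C.normalizerMonoidHom g

theorem coe_conjC (C : Subgroup G) (g : Subgroup.normalizer (C : Set G)) (c : C) :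
    ((conjC C g c : C) : G) = g * c * (g : G)⁻¹ := rfl

/-- Conjugation on the group algebra of a subgroup. -/
noncomputable def conjA (k : Type*) [Field k] (C : Subgroup G)
    (g : Subgroup.normalizer (C : Set G)) : MonoidAlgebra k C ≃ₐ[k] MonoidAlgebra k C :=
  MonoidAlgebra.domCongr k k (conjC C g)

theorem conjA_single (C : Subgroup G) (g : Subgroup.normalizer (C : Set G)) (c : C) (r : k) :
    conjA k C g (single c r) = single (conjC C g c) r :=
  MonoidAlgebra.domCongr_single _ _ _

theorem conjA_one (C : Subgroup G) (a : MonoidAlgebra k C) : conjA k C 1 a = a := by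
  induction a using MonoidAlgebra.induction_linear with
  | zero => exact map_zero _
  | add x y hx hy => rw [map_add, hx, hy]
  | single c r => rw [conjA_single, show conjC C 1 c = c from Subtype.ext (by rw [coe_conjC]; simp)]

theorem conjA_mul (C : Subgroup G) (g h : Subgroup.normalizer (C : Set G)) (a : MonoidAlgebra k C) :
    conjA k C (g * h) a = conjA k C g (conjA k C h a) := by
  induction a using MonoidAlgebra.induction_linear with
  | zero => simp
  | add x y hx hy => rw [map_add, map_add, map_add, hx, hy]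
  | single c r =>
    rw [conjA_single, conjA_single, conjA_single,
      show conjC C (g * h) c = conjC C g (conjC C h c) from Subtype.ext (by
        simp only [coe_conjC, Subgroup.coe_mul, mul_inv_rev, mul_assoc])]

/-- The action of the group algebra of a subgroup. -/
noncomputable def resA (C : Subgroup G) (ρ : Representation k G W) :
    MonoidAlgebra k C →ₐ[k] Module.End k W :=
  Representation.asAlgebraHom (k := k) (G := C) (V := W) (ρ.comp C.subtype)

theorem resA_single (C : Subgroup G) (ρ : Representation k G W) (c : C) (r : k) :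
    resA C ρ (single c r) = r • ρ (c : G) :=
  Representation.asAlgebraHom_single _ _ _

theorem resA_of (C : Subgroup G) (ρ : Representation k G W) (c : C) :
    resA C ρ (of k C c) = ρ (c : G) := by
  rw [of_apply, resA_single, one_smul]

theorem resA_conjA (C : Subgroup G) (ρ : Representation k G W) (g : Subgroup.normalizer (C : Set G))
    (a : MonoidAlgebra k C) (v : W) :
    ρ (g : G) (resA C ρ a v) = resA C ρ (conjA k C g a) (ρ (g : G) v) := by
  induction a using MonoidAlgebra.induction_linear with
  | zero => simp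
  | add x y hx hy => simp only [map_add, LinearMap.add_apply, hx, hy]
  | single c r =>
    rw [conjA_single, resA_single, resA_single, LinearMap.smul_apply, LinearMap.smul_apply,
      map_smul, ← Module.End.mul_apply, ← map_mul, ← Module.End.mul_apply, ← map_mul, coe_conjC]
    congr 3
    group

/-- A map commuting with the elements of `C` commutes with its group algebra. -/
theorem isEquivariant_resA (C : Subgroup G) {V : Type*} [AddCommGroup V] [Module k V]
    {S : MonoidAlgebra k C →ₐ[k] Module.End k V} (ρ : Representation k G W) {L : V →ₗ[k] W}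
    (hL : ∀ (c : C) v, L (S (of k C c) v) = ρ (c : G) (L v)) :
    IsEquivariant S (resA C ρ) L := by
  intro a v
  induction a using MonoidAlgebra.induction_linear with
  | zero => simp
  | add x y hx hy => simp only [map_add, LinearMap.add_apply, hx, hy]
  | single c r =>
    rw [show single c r = r • of k C c by rw [of_apply, smul_single, smul_eq_mul, mul_one], map_smul,
      map_smul, LinearMap.smul_apply, LinearMap.smul_apply, map_smul, hL, resA_of]

variable {q : ℕ} {C : Subgroup G} {f X ε : MonoidAlgebra k C}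

/-- The conjugate of an operator. -/
noncomputable def cjOp (ρ : Representation k G W) (g : G) (ψ : Module.End k W) : Module.End k W :=
  ρ g * ψ * ρ g⁻¹

theorem cjOp_apply (ρ : Representation k G W) (g : G) (ψ : Module.End k W) (w : W) :
    cjOp ρ g ψ w = ρ g (ψ (ρ g⁻¹ w)) := rfl

theorem cjOp_mul (ρ : Representation k G W) (g h : G) (ψ : Module.End k W) :
    cjOp ρ (g * h) ψ = cjOp ρ g (cjOp ρ h ψ) := by
  simp only [cjOp, mul_inv_rev, map_mul, mul_assoc]

theorem cjOp_one (ρ : Representation k G W) (ψ : Module.End k W) : cjOp ρ 1 ψ = ψ := by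
  simp [cjOp]

theorem cjOp_comm {ρ : Representation k G W} {g : G} {ψ : Module.End k W}
    (h : ρ g * ψ = ψ * ρ g) : cjOp ρ g ψ = ψ := by
  rw [cjOp, h, mul_assoc, ← map_mul, mul_inv_cancel, map_one, mul_one]

/-- Traces from the trivial subgroup of `C` send the kernel of `X` into the top power. -/
theorem sum_cjOp_mem [Fintype C] [FiniteDimensional k W] (h : LocalAlg (k := k) q f X ε)
    (ρ : Representation k G W) (η : Module.End k W) {m : W} (hfm : resA C ρ f m = m)
    (hXm : resA C ρ X m = 0) :
    resA C ρ f (∑ x : C, cjOp ρ (x : G) η m) ∈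
      LinearMap.range (resA C ρ (X ^ (q - 1))) := by
  classical
  let B := Module.finBasis k W
  let Λ : Fin (Module.finrank k W) → W → MonoidAlgebra k C := fun b w =>
    ofFun fun x : C => B.repr (η (ρ ((x : G))⁻¹ w)) b
  have hadd : ∀ b (u v : W), Λ b (u + v) = Λ b u + Λ b v := fun b u v =>
    MonoidAlgebra.ext (Finsupp.ext fun x => by simp [Λ])
  have hsmul : ∀ b (r : k) (v : W), Λ b (r • v) = r • Λ b v := fun b r v =>
    MonoidAlgebra.ext (Finsupp.ext fun x => by simp [Λ])
  have hzero : ∀ b, Λ b 0 = 0 := fun b => MonoidAlgebra.ext (Finsupp.ext fun x => by simp [Λ])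
  have hmul : ∀ b a w, a * Λ b w = Λ b (resA C ρ a w) := by
    intro b a w
    induction a using MonoidAlgebra.induction_linear with
    | zero => simp [hzero]
    | add x y hx hy => rw [add_mul, hx, hy, map_add, LinearMap.add_apply, hadd]
    | single y r =>
      rw [resA_single, LinearMap.smul_apply, hsmul]
      refine MonoidAlgebra.ext (Finsupp.ext fun x => ?_)
      rw [MonoidAlgebra.single_mul_apply, coeff_smul, Finsupp.smul_apply, smul_eq_mul]
      simp only [Λ, coeff_ofFun, ← Module.End.mul_apply, ← map_mul, Subgroup.coe_mul,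
        Subgroup.coe_inv, mul_inv_rev, inv_inv]
      rw [mul_assoc, ← map_mul]
  have hsum : ∑ x : C, cjOp ρ (x : G) η m = ∑ b, resA C ρ (Λ b m) (B b) := by
    have : ∀ b, resA C ρ (Λ b m) (B b) = ∑ x : C, B.repr (η (ρ ((x : G))⁻¹ m)) b • ρ (x : G) (B b) :=
      fun b => by
        rw [resA, Blocks.asAlgebraHom_eq_sum', LinearMap.sum_apply]
        rfl
    rw [Finset.sum_congr rfl fun b _ => this b, Finset.sum_comm]
    refine Finset.sum_congr rfl fun x _ => ?_
    rw [cjOp_apply]
    conv_lhs => rw [← B.sum_repr (η (ρ ((x : G))⁻¹ m)), map_sum]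
    simp only [map_smul]
  rw [hsum, map_sum]
  refine Submodule.sum_mem _ fun b _ => ?_
  obtain ⟨y, hy⟩ := h.exists_of_X_mul_eq_zero (a := Λ b m) (by rw [hmul, hfm])
    (by rw [hmul, hXm, hzero])
  refine h.apply_mem_range_pow _ _ ?_
  rw [hy, map_mul]
  exact ⟨_, rfl⟩

/-- A sum over a free `D`-set of conjugates is a trace from the trivial subgroup. -/
theorem sum_free_cjOp {D : Subgroup G} [Fintype D] (ρ : Representation k G W) {Y : Type*}
    [DecidableEq Y] (act : D →* Equiv.Perm Y) (s : Finset Y) (hs : ∀ u, ∀ y ∈ s, act u y ∈ s)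
    (hfree : ∀ u, ∀ y ∈ s, act u y = y → u = 1) (F : Y → Module.End k W)
    (hF : ∀ u, ∀ y ∈ s, F (act u y) = cjOp ρ (u : G) (F y)) :
    ∃ η : Module.End k W, ∑ y ∈ s, F y = ∑ u : D, cjOp ρ (u : G) η := by
  let L : D → Module.End k W →ₗ[k] Module.End k W := fun u =>
    { toFun := fun ψ => cjOp ρ (u : G) ψ
      map_add' := fun a b => by simp [cjOp, mul_add, add_mul]
      map_smul' := fun r a => by simp [cjOp] }
  obtain ⟨η, hη⟩ := PrimeSylow.sum_free_mem act s hs hfree F L hF
  exact ⟨η, hη.symm.trans (by rw [LinearMap.sum_apply]; rfl)⟩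

variable [Fintype C]

/-- The action of a conjugate element of the group algebra. -/
theorem resA_conjA_eq (ρ : Representation k G W) (g : Subgroup.normalizer (C : Set G))
    (a : MonoidAlgebra k C) : resA C ρ (conjA k C g a) = cjOp ρ (g : G) (resA C ρ a) := by
  refine LinearMap.ext fun w => ?_
  rw [cjOp_apply, resA_conjA, rep_self_inv]

variable [FiniteDimensional k W] {D : Subgroup G} [Fintype D]

/-- An operator over `C` which is a trace from the trivial subgroup of `D` sends the kernel of `X`
into the top power, when the idempotent is a trace from `D`. -/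
theorem mem_of_trace (h : LocalAlg (k := k) q f X ε) (ρ : Representation k G W) (hDC : D ≤ C)
    {a : MonoidAlgebra k C}
    (ha : ∀ (v : G) (hv : v ∈ D), conjA k C ⟨v, Subgroup.le_normalizer (hDC hv)⟩ a = a)
    [Fintype (C ⧸ D.subgroupOf C)]
    (hf : f = ∑ x : C ⧸ D.subgroupOf C,
      conjA k C ⟨((Quotient.out x : C) : G), Subgroup.le_normalizer (Quotient.out x : C).2⟩ a)
    {φ η : Module.End k W} (hφ : IsEquivariant (resA C ρ) (resA C ρ) φ)
    (hη : φ = ∑ u : D, cjOp ρ (u : G) η) {m : W} (hfm : resA C ρ f m = m)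
    (hXm : resA C ρ X m = 0) : φ m ∈ LinearMap.range (resA C ρ (X ^ (q - 1))) := by
  have hC : ∀ x : C, cjOp ρ (x : G) φ = φ := fun x => cjOp_comm (LinearMap.ext fun w => by
    have := hφ (of k C x) w
    rw [resA_of] at this
    exact this.symm)
  have h1 : φ * resA C ρ f = ∑ x : C, cjOp ρ (x : G) (η * resA C ρ a) := by
    rw [hf, map_sum, Finset.mul_sum]
    have h2 : ∀ x : C ⧸ D.subgroupOf C, φ * resA C ρ (conjA k C
        ⟨((Quotient.out x : C) : G), Subgroup.le_normalizer (Quotient.out x : C).2⟩ a) =
        ∑ u : D, cjOp ρ (((Quotient.out x : C) : G) * u) (η * resA C ρ a) := by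
      intro x
      rw [resA_conjA_eq]
      conv_lhs => rw [← hC (Quotient.out x)]
      rw [cjOp, cjOp, show ∀ A' B' C' D' E' F' : Module.End k W,
        A' * B' * C' * (D' * E' * F') = A' * B' * (C' * D') * E' * F' from fun _ _ _ _ _ _ => by
          simp only [mul_assoc], ← map_mul, inv_mul_cancel, map_one, mul_one,
        mul_assoc (ρ _) φ, hη, Finset.sum_mul, Finset.mul_sum, Finset.sum_mul]
      refine Finset.sum_congr rfl fun u _ => ?_
      rw [cjOp_mul]
      show _ = ρ _ * cjOp ρ (u : G) (η * resA C ρ a) * ρ _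
      congr 2
      have h3 : cjOp ρ (u : G) (resA C ρ a) = resA C ρ a := by
        conv_rhs => rw [← ha u u.2]
        rw [resA_conjA_eq]
      conv_lhs => rw [← h3]
      simp only [cjOp, mul_assoc]
      congr 2
      rw [← mul_assoc (ρ (u : G)⁻¹) (ρ (u : G)), ← map_mul, inv_mul_cancel, map_one, one_mul]
    rw [Finset.sum_congr rfl fun x _ => h2 x, ← Fintype.sum_prod_type'
      (f := fun (x : C ⧸ D.subgroupOf C) (u : D) =>
        cjOp ρ (((Quotient.out x : C) : G) * u) (η * resA C ρ a))]
    let e : (C ⧸ D.subgroupOf C) × D → C := fun z =>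
      Quotient.out z.1 * ⟨(z.2 : G), hDC z.2.2⟩
    refine Fintype.sum_bijective e ⟨fun z z' he => ?_, fun c => ?_⟩ _ _ fun z => rfl
    · have h4 : ((e z : C) : C ⧸ D.subgroupOf C) = z.1 := by
        conv_rhs => rw [← QuotientGroup.out_eq' z.1]
        exact QuotientGroup.mk_mul_of_mem _ z.2.2
      have h5 : ((e z' : C) : C ⧸ D.subgroupOf C) = z'.1 := by
        conv_rhs => rw [← QuotientGroup.out_eq' z'.1]
        exact QuotientGroup.mk_mul_of_mem _ z'.2.2
      have h6 : z.1 = z'.1 := by rw [← h4, ← h5, he]
      refine Prod.ext h6 (Subtype.ext ?_)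
      have := congrArg Subtype.val he
      simpa [e, h6] using this
    · obtain ⟨d, hd⟩ := QuotientGroup.mk_out_eq_mul (D.subgroupOf C) c
      refine ⟨(QuotientGroup.mk c, ⟨(((d : C) : G))⁻¹, D.inv_mem (Subgroup.mem_subgroupOf.1 d.2)⟩),
        Subtype.ext ?_⟩
      show ((Quotient.out (QuotientGroup.mk c : C ⧸ D.subgroupOf C) : C) : G) * _ = c
      rw [hd]
      simp
  have h7 := sum_cjOp_mem h ρ (η * resA C ρ a) hfm hXm
  rw [← LinearMap.sum_apply, ← h1, Module.End.mul_apply, hfm, ← hφ, hfm] at h7
  exact h7

end CfsgLib.Blocks.Cyclic
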