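import Cfsg.Agent.Lib.Blocks.Cyclic.Layers

/-!
# Averaging and separation of twisted simple modules

If every equivariant endomorphism acts on the kernel of `X` modulo the top power by a scalar, then
maps from two different twists of the simple module cannot both be outside the top power.
-/

set_option autoImplicit false

namespace CfsgLib.Blocks.Cyclic

variable {k A : Type*} [Field k] [Ring A] [Algebra k A] {T : Type*} [Group T] {C : Subgroup T}
  {V W : Type*} [AddCommGroup V] [Module k V] [AddCommGroup W] [Module k W]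

/-- A group acting semilinearly over the algebra, a subgroup acting through it. -/
structure Twisted (f : A) (C : Subgroup T) (R : A →ₐ[k] Module.End k W)
    (ρ : T →* Module.End k W) (α : T → A ≃ₐ[k] A) : Prop where
  fix : ∀ t, α t f = f
  comm : ∀ t a v, ρ t (R a v) = R (α t a) (ρ t v)
  inner : ∀ c ∈ C, ∃ a, ρ c = R a

omit [Ring A] [Algebra k A] in
theorem rep_inv_self (ρ : T →* Module.End k W) (t : T) (w : W) : ρ t⁻¹ (ρ t w) = w := by
  rw [← Module.End.mul_apply, ← map_mul, inv_mul_cancel, map_one, Module.End.one_apply]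

omit [Ring A] [Algebra k A] in
theorem rep_self_inv (ρ : T →* Module.End k W) (t : T) (w : W) : ρ t (ρ t⁻¹ w) = w := by
  rw [← Module.End.mul_apply, ← map_mul, mul_inv_cancel, map_one, Module.End.one_apply]

variable [Fintype (T ⧸ C)]

/-- The average over the cosets of `C`. -/
noncomputable def avg (C : Subgroup T) [Fintype (T ⧸ C)] (σ : T →* Module.End k V)
    (ρ : T →* Module.End k W) (L : V →ₗ[k] W) : V →ₗ[k] W :=
  (Fintype.card (T ⧸ C) : k)⁻¹ •
    ∑ x : T ⧸ C, ρ (Quotient.out x) ∘ₗ L ∘ₗ σ (Quotient.out x)⁻¹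

omit [Ring A] [Algebra k A] in
theorem avg_apply (σ : T →* Module.End k V) (ρ : T →* Module.End k W) (L : V →ₗ[k] W) (v : V) :
    avg C σ ρ L v = (Fintype.card (T ⧸ C) : k)⁻¹ •
      ∑ x : T ⧸ C, ρ (Quotient.out x) (L (σ (Quotient.out x)⁻¹ v)) := by
  simp [avg]

omit [Ring A] [Algebra k A] in
/-- The average is equivariant. -/
theorem avg_rep {σ : T →* Module.End k V} {ρ : T →* Module.End k W} {L : V →ₗ[k] W}
    (hC : ∀ c ∈ C, ∀ v, L (σ c v) = ρ c (L v)) (t : T) (v : V) :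
    avg C σ ρ L (σ t v) = ρ t (avg C σ ρ L v) := by
  rw [avg_apply, avg_apply, map_smul, map_sum]
  congr 1
  refine (Fintype.sum_equiv (MulAction.toPerm t) _ _ fun x => ?_).symm
  obtain ⟨c, hc⟩ := QuotientGroup.mk_out_eq_mul C (t * Quotient.out x)
  have hx : (Quotient.out (t • x : T ⧸ C)) = t * Quotient.out x * (c : T) := by
    have h1 : (t • x : T ⧸ C) = ((t * Quotient.out x : T) : T ⧸ C) := by
      conv_lhs => rw [← QuotientGroup.out_eq' x]
      rfl
    rw [h1]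
    exact hc
  show _ = ρ (Quotient.out (t • x : T ⧸ C)) (L (σ (Quotient.out (t • x : T ⧸ C))⁻¹ (σ t v)))
  rw [hx, mul_inv_rev, map_mul σ, Module.End.mul_apply, hC _ (inv_mem c.2),
    map_mul ρ _ (c : T), Module.End.mul_apply, rep_self_inv, map_mul ρ, Module.End.mul_apply,
    mul_inv_rev, map_mul σ, Module.End.mul_apply, rep_inv_self]

omit [Ring A] [Algebra k A] in
/-- The average of a map congruent to an equivariant one is congruent to it. -/
theorem avg_sub_mem {σ : T →* Module.End k V} {ρ : T →* Module.End k W} {L L' : V →ₗ[k] W}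
    (he : (Fintype.card (T ⧸ C) : k) ≠ 0) {U : Submodule k W}
    (hU : ∀ t, ∀ w ∈ U, ρ t w ∈ U) (heq : ∀ t v, L' (σ t v) = ρ t (L' v)) {v : V}
    (h : ∀ t, L (σ t v) - L' (σ t v) ∈ U) : avg C σ ρ L v - L' v ∈ U := by
  rw [avg_apply]
  have h1 : L' v = (Fintype.card (T ⧸ C) : k)⁻¹ • ∑ _x : T ⧸ C, L' v := by
    rw [Finset.sum_const, Finset.card_univ, ← Nat.cast_smul_eq_nsmul k, smul_smul,
      inv_mul_cancel₀ he, one_smul]
  rw [h1, ← smul_sub, ← Finset.sum_sub_distrib]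
  refine U.smul_mem _ (Submodule.sum_mem _ fun x _ => ?_)
  have h2 := hU (Quotient.out x) _ (h (Quotient.out x)⁻¹)
  rwa [map_sub, heq, rep_self_inv] at h2

variable {q : ℕ} {f X ε : A} {R : A →ₐ[k] Module.End k W} {ρ : T →* Module.End k W}
  {α : T → A ≃ₐ[k] A} (ht : Twisted f C R ρ α) {S : A →ₐ[k] Module.End k V}
  {σ : T →* Module.End k V} (hs : Twisted f C S σ α)
include ht hs

/-- The average commutes with the algebra. -/
theorem avg_isEquivariant {L : V →ₗ[k] W} (hL : IsEquivariant S R L) :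
    IsEquivariant S R (avg C σ ρ L) := by
  intro a v
  rw [avg_apply, avg_apply, map_smul, map_sum]
  congr 1
  refine Finset.sum_congr rfl fun x _ => ?_
  set t := Quotient.out x
  have h1 : σ t⁻¹ (S a v) = S ((α t).symm a) (σ t⁻¹ v) := by
    conv_lhs => rw [← (α t).apply_symm_apply a, ← rep_self_inv σ t v, ← hs.comm, rep_inv_self]
  rw [h1, hL, ht.comm, AlgEquiv.apply_symm_apply]

omit hs in
/-- Scalar endomorphisms separate the twists. -/
theorem false_of_two_maps (h : LocalAlg (k := k) q f X ε) (he : (Fintype.card (T ⧸ C) : k) ≠ 0)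
    (hscal : ∀ φ : Module.End k W, IsEquivariant R R φ → (∀ v, φ (R f v) = φ v) →
      (∀ v, R f (φ v) = φ v) → (∀ t v, φ (ρ t v) = ρ t (φ v)) →
      ∃ c : k, ∀ m, R f m = m → R X m = 0 → φ m - c • m ∈ LinearMap.range (R (X ^ (q - 1))))
    {σ₁ σ₂ : T →* Module.End k (Top k X ε)} (h₁ : Twisted f C (topRep X ε) σ₁ α)
    {χ : T → k} (hχ : ∀ t v, σ₂ t v = χ t • σ₁ t v) (hne : ∃ t, χ t ≠ 1)
    {L₁ L₂ : Top k X ε →ₗ[k] W} (hL₁ : IsEquivariant (topRep X ε) R L₁)
    (hL₂ : IsEquivariant (topRep X ε) R L₂) (hr₁ : ∀ t v, L₁ (σ₁ t v) = ρ t (L₁ v))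
    (hr₂ : ∀ t v, L₂ (σ₂ t v) = ρ t (L₂ v))
    (hn₁ : L₁ (topGen X ε) ∉ LinearMap.range (R (X ^ (q - 1))))
    (hn₂ : L₂ (topGen X ε) ∉ LinearMap.range (R (X ^ (q - 1)))) : False := by
  classical
  set U := LinearMap.range (R (X ^ (q - 1)))
  have hU : ∀ t, ∀ w ∈ U, ρ t w ∈ U := fun t w hw => h.map_mem_range_pow R (ht.fix t) (ht.comm t) hw
  set w₁ := L₁ (topGen X ε) with hw₁
  set w₂ := L₂ (topGen X ε) with hw₂
  have hprop : ∀ {L : Top k X ε →ₗ[k] W}, IsEquivariant (topRep X ε) R L →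
      R ε (L (topGen X ε)) = L (topGen X ε) ∧ R X (L (topGen X ε)) = 0 ∧
      ∀ v, R f (L v) = L v ∧ R X (L v) = 0 := by
    intro L hL
    refine ⟨by rw [← hL, h.topRep_eps_gen], by rw [← hL, h.topRep_X]; simp, fun v => ⟨?_, ?_⟩⟩
    · rw [← hL, h.topRep_f]; rfl
    · rw [← hL, h.topRep_X]; simp
  obtain ⟨hε₁, hX₁, hall₁⟩ := hprop hL₁
  obtain ⟨hε₂, hX₂, hall₂⟩ := hprop hL₂
  obtain ⟨s, f₀, ⟨m₀, hm₀ε, hm₀X, hm₀s, hm₀⟩, hf₀, hf₀', hlift⟩ := h.exists_lifts R hε₁ hX₁ hn₁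
  have hf₁ : ∀ {w : W}, R ε w = w → R f w = w := fun {w} hw => by
    rw [← hw, ← Module.End.mul_apply, ← map_mul, h.f_mul_eps]
  obtain ⟨m, u, v, hf⟩ := h.full
  have hsplit : ∀ w, R f w = w → R X w = 0 → ∀ φ : Module.End k W, IsEquivariant R R φ →
      φ w = ∑ j, R (u j) (φ (R ε (R (v j) w))) ∧ ∀ j, R ε (R ε (R (v j) w)) = R ε (R (v j) w) ∧
        R X (R ε (R (v j) w)) = 0 := by
    intro w hw hwX φ hφ
    refine ⟨?_, fun j => ⟨by rw [← Module.End.mul_apply, ← map_mul, h.idem], by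
      rw [h.apply_X_comm, h.apply_X_comm, hwX, map_zero, map_zero]⟩⟩
    conv_lhs => rw [← hw, hf, map_sum, LinearMap.sum_apply, map_sum]
    refine Finset.sum_congr rfl fun j _ => ?_
    rw [map_mul, map_mul, Module.End.mul_apply, Module.End.mul_apply, hφ]
  have havg : ∀ φ : Module.End k W, IsEquivariant R R φ → (∀ v, φ (R f v) = φ v) →
      (∀ v, R f (φ v) = φ v) → ∃ c : k, ∀ m, R f m = m → R X m = 0 →
        avg C ρ ρ φ m - c • m ∈ U := by
    intro φ hφ hφf hfφ
    have hC : ∀ c ∈ C, ∀ v, φ (ρ c v) = ρ c (φ v) := fun c hc v => by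
      obtain ⟨a, ha⟩ := ht.inner c hc
      rw [ha, hφ]
    refine hscal _ (avg_isEquivariant ht ht hφ) (fun v => ?_) (fun v => ?_) (avg_rep hC)
    · rw [avg_apply, avg_apply]
      congr 1
      refine Finset.sum_congr rfl fun x _ => ?_
      congr 1
      set t := (Quotient.out x)⁻¹
      rw [ht.comm, ht.fix, hφf]
    · rw [avg_apply, map_smul, map_sum]
      congr 1
      refine Finset.sum_congr rfl fun x _ => ?_
      rw [← ht.fix (Quotient.out x), ← ht.comm, hfφ]
  -- every kernel vector lies in the layer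
  have hlayer : ∀ w, R f w = w → R X w = 0 → w ∈ LinearMap.range (R (X ^ s)) := by
    obtain ⟨φ, hφ, hφf, hfφ, hφw⟩ := hlift LinearMap.id
    obtain ⟨c, hc⟩ := havg φ hφ hφf hfφ
    have hin : ∀ w, R f w = w → R X w = 0 → φ w ∈ LinearMap.range (R (X ^ s)) := fun w hw hwX => by
      obtain ⟨h1, h2⟩ := hsplit w hw hwX φ hφ
      rw [h1]
      refine Submodule.sum_mem _ fun j _ => h.apply_mem_range_pow R _ ?_
      rw [hφw _ (h2 j).1 (h2 j).2]
      exact (hf₀ _).2.2
    have hid : ∀ w, R f w = w → R X w = 0 → w ∈ LinearMap.range (R (X ^ s)) → φ w - w ∈ U := by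
      intro w hw hwX hws
      obtain ⟨h1, h2⟩ := hsplit w hw hwX φ hφ
      obtain ⟨h1', -⟩ := hsplit w hw hwX 1 (fun _ _ => rfl)
      rw [h1]
      conv => enter [2, 2]; rw [show w = (1 : Module.End k W) w from rfl, h1']
      rw [← Finset.sum_sub_distrib]
      refine Submodule.sum_mem _ fun j _ => ?_
      rw [← map_sub, Module.End.one_apply, hφw _ (h2 j).1 (h2 j).2, LinearMap.id_apply]
      refine h.apply_mem_range_pow R _ ?_
      set z := R ε (R (v j) w)
      have hz : z ∈ LinearMap.range (R (X ^ s)) :=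
        h.apply_mem_range_pow R _ (h.apply_mem_range_pow R _ hws)
      have e1 := hf₀' z (h2 j).1 (h2 j).2 hz
      have e2 := hf₀' (f₀ z) (hf₀ z).1 (hf₀ z).2.1 (hf₀ z).2.2
      have := U.add_mem e2 e1
      rwa [sub_add_sub_cancel] at this
    have hc1 : c = 1 := by
      by_contra hne
      refine hm₀ ?_
      have h1 : avg C ρ ρ φ m₀ - (1 : Module.End k W) m₀ ∈ U := by
        refine avg_sub_mem he hU (fun _ _ => rfl) fun t => hid _ ?_ ?_ ?_
        · rw [← ht.fix t, ← ht.comm, hf₁ hm₀ε]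
        · exact h.map_X_eq_zero R (ht.fix t) (ht.comm t) hm₀X
        · exact h.map_mem_range_pow R (ht.fix t) (ht.comm t) hm₀s
      have h2 := U.sub_mem (hc _ (hf₁ hm₀ε) hm₀X) h1
      rw [Module.End.one_apply, sub_sub_sub_cancel_left] at h2
      nth_rewrite 1 [← one_smul k m₀] at h2
      rw [← sub_smul] at h2
      exact (Submodule.smul_mem_iff _ (sub_ne_zero.2 (Ne.symm hne))).1 h2
    intro w hw hwX
    have h1 := hc w hw hwX
    rw [hc1, one_smul] at h1
    have h2 : avg C ρ ρ φ w ∈ LinearMap.range (R (X ^ s)) := by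
      rw [avg_apply]
      refine Submodule.smul_mem _ _ (Submodule.sum_mem _ fun x _ => ?_)
      refine h.map_mem_range_pow R (ht.fix _) (ht.comm _) (hin _ ?_ ?_)
      · rw [← ht.fix (Quotient.out x)⁻¹, ← ht.comm, hw]
      · exact h.map_X_eq_zero R (ht.fix _) (ht.comm _) hwX
    have h3 : U ≤ LinearMap.range (R (X ^ s)) := by
      obtain ⟨y, hy⟩ := hm₀s
      intro z hz
      by_cases hs' : s ≤ q - 1
      · obtain ⟨z', rfl⟩ := hz
        refine ⟨R (X ^ (q - 1 - s)) z', ?_⟩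
        rw [← Module.End.mul_apply, ← map_mul, ← pow_add, Nat.add_sub_cancel' hs']
      · exfalso
        refine hm₀ ⟨R (X ^ (s - (q - 1))) y, ?_⟩
        rw [← hy, ← Module.End.mul_apply, ← map_mul, ← pow_add, Nat.add_sub_cancel' (by omega)]
    have := Submodule.sub_mem _ h2 (h3 h1)
    rwa [sub_sub_cancel] at this
  -- the images are independent modulo the top power
  have hindep : ∀ c : k, c • w₁ + w₂ ∉ U := by
    intro c hc
    obtain ⟨t, ht1⟩ := hne
    have hall : ∀ x, c • L₁ x + L₂ x ∈ U := fun x => by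
      obtain ⟨b, rfl⟩ := exists_topRep_gen X ε x
      rw [hL₁, hL₂, ← map_smul, ← map_add]
      exact h.apply_mem_range_pow R _ hc
    have h1 : (c * χ t) • w₁ + w₂ ∈ U := by
      have h2 := hU t⁻¹ _ (hall (σ₂ t (topGen X ε)))
      rw [map_add, map_smul, hr₂, rep_inv_self, hχ, map_smul, map_smul, hr₁, rep_inv_self,
        smul_smul] at h2
      exact h2
    have h3 := U.sub_mem h1 hc
    rw [add_sub_add_right_eq_sub, ← sub_smul, ← mul_sub_one] at h3
    by_cases hc0 : c = 0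
    · rw [hc0, zero_smul, zero_add] at hc
      exact hn₂ hc
    exact hn₁ ((Submodule.smul_mem_iff _ (mul_ne_zero hc0 (sub_ne_zero.2 ht1))).1 h3)
  -- a functional separating them
  have hsep : ∃ l : W →ₗ[k] k, (∀ z ∈ U, l z = 0) ∧ l w₁ = 1 ∧ l w₂ = 0 := by
    have hnot : (U.mkQ w₁ : W ⧸ U) ∉ Submodule.span k {U.mkQ w₂} := by
      intro hmem
      obtain ⟨c, hc⟩ := Submodule.mem_span_singleton.1 hmem
      rw [← map_smul, Submodule.mkQ_apply, Submodule.mkQ_apply, Submodule.Quotient.eq] at hc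
      by_cases hc0 : c = 0
      · rw [hc0, zero_smul, zero_sub, Submodule.neg_mem_iff] at hc
        exact hn₁ hc
      refine hindep (-c⁻¹) ?_
      have := U.smul_mem c⁻¹ hc
      rwa [smul_sub, smul_smul, inv_mul_cancel₀ hc0, one_smul, sub_eq_add_neg, add_comm,
        ← neg_smul] at this
    obtain ⟨l, hl1, hl2⟩ := Submodule.exists_dual_map_eq_bot_of_notMem hnot inferInstance
    refine ⟨(l (U.mkQ w₁))⁻¹ • (l ∘ₗ U.mkQ), fun z hz => ?_, ?_, ?_⟩
    · simp [(Submodule.Quotient.mk_eq_zero U).2 hz]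
    · simp only [LinearMap.smul_apply, LinearMap.comp_apply, smul_eq_mul]
      exact inv_mul_cancel₀ hl1
    · have : l (U.mkQ w₂) = 0 := by
        have h0 := Submodule.mem_map_of_mem (f := l) (Submodule.mem_span_singleton_self (U.mkQ w₂))
        rwa [hl2, Submodule.mem_bot] at h0
      simp only [LinearMap.smul_apply, LinearMap.comp_apply, this, smul_zero]
  obtain ⟨l, hlU, hl1, hl2⟩ := hsep
  obtain ⟨φ, hφ, hφf, hfφ, hφw⟩ := hlift (l.smulRight w₁)
  have hf₀w : ∀ {w}, R ε w = w → R X w = 0 → f₀ w - w ∈ U := fun {w} hw hwX =>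
    hf₀' w hw hwX (hlayer w (hf₁ hw) hwX)
  have hl' : ∀ {w}, R ε w = w → R X w = 0 → l (f₀ w) = l w := fun {w} hw hwX => by
    rw [← sub_eq_zero, ← map_sub]
    exact hlU _ (hf₀w hw hwX)
  have hφ₁ : φ w₁ - w₁ ∈ U := by
    rw [hφw _ hε₁ hX₁, LinearMap.smulRight_apply, hl' hε₁ hX₁, hl1, one_smul]
    exact hf₀w hε₁ hX₁
  have hφ₂ : φ w₂ = 0 := by
    rw [hφw _ hε₂ hX₂, LinearMap.smulRight_apply, hl' hε₂ hX₂, hl2, zero_smul, map_zero]
  have hall : ∀ x, φ (L₁ x) - L₁ x ∈ U ∧ φ (L₂ x) = 0 := fun x => by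
    obtain ⟨b, rfl⟩ := exists_topRep_gen X ε x
    rw [hL₁, hL₂, hφ, hφ, ← map_sub, ← hw₁, ← hw₂, hφ₂, map_zero]
    exact ⟨h.apply_mem_range_pow R _ hφ₁, rfl⟩
  obtain ⟨c, hc⟩ := havg φ hφ hφf hfφ
  have h1 : avg C ρ ρ φ w₁ - (1 : Module.End k W) w₁ ∈ U := by
    refine avg_sub_mem he hU (fun _ _ => rfl) fun t => ?_
    rw [hw₁, ← hr₁, Module.End.one_apply]
    exact (hall _).1
  have h2 : avg C ρ ρ φ w₂ - (0 : Module.End k W) w₂ ∈ U := by
    refine avg_sub_mem he hU (fun t v => by simp) fun t => ?_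
    rw [hw₂, ← hr₂, (hall _).2]
    simp
  have h3 := U.sub_mem h2 (hc w₂ (hall₂ _).1 hX₂)
  rw [LinearMap.zero_apply, sub_zero, sub_sub_cancel] at h3
  have hc0 : c = 0 := by
    by_contra hne'
    exact hn₂ ((Submodule.smul_mem_iff _ hne').1 h3)
  have h4 := U.sub_mem (hc w₁ (hall₁ _).1 hX₁) h1
  rw [hc0, zero_smul, sub_zero, Module.End.one_apply, sub_sub_cancel] at h4
  exact hn₁ h4

end CfsgLib.Blocks.Cyclic
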