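import Cfsg.Agent.Lib.Blocks.Cyclic.LocalAlg

/-!
# The simple module of a component with truncated polynomial corner
-/

set_option autoImplicit false

namespace CfsgLib.Blocks.Cyclic

variable {k A : Type*} [Field k] [Ring A] [Algebra k A]

/-- The left ideal at `ε`, as a subspace. -/
def leftSpace (k : Type*) [Field k] {A : Type*} [Ring A] [Algebra k A] (ε : A) : Submodule k A :=
  LinearMap.range (LinearMap.mulRight k ε)

theorem mul_mem_leftSpace {ε : A} (b : A) {a : A} (ha : a ∈ leftSpace k ε) :
    b * a ∈ leftSpace k ε := by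
  obtain ⟨c, rfl⟩ := ha
  exact ⟨b * c, mul_assoc b c ε⟩

/-- The kernel of the projection onto the simple quotient. -/
def radSpace (k : Type*) [Field k] {A : Type*} [Ring A] [Algebra k A] (X ε : A) :
    Submodule k (leftSpace k ε) :=
  (leftSpace k (X * ε)).comap (leftSpace k ε).subtype

/-- The simple module. -/
abbrev Top (k : Type*) [Field k] {A : Type*} [Ring A] [Algebra k A] (X ε : A) : Type _ :=
  (leftSpace k ε) ⧸ radSpace k X ε

/-- The element of the simple module given by `ε`. -/
def topGen (X ε : A) : Top k X ε :=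
  Submodule.Quotient.mk ⟨ε, 1, one_mul ε⟩

/-- Left multiplication on the left ideal. -/
def leftMul (ε : A) : A →ₐ[k] Module.End k (leftSpace k ε) where
  toFun b :=
    { toFun := fun a => ⟨b * a, mul_mem_leftSpace b a.2⟩
      map_add' := fun _ _ => Subtype.ext (mul_add _ _ _)
      map_smul' := fun _ _ => Subtype.ext (mul_smul_comm _ _ _) }
  map_one' := LinearMap.ext fun a => Subtype.ext (one_mul _)
  map_mul' b c := LinearMap.ext fun a => Subtype.ext (mul_assoc _ _ _)
  map_zero' := LinearMap.ext fun a => Subtype.ext (zero_mul _)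
  map_add' b c := LinearMap.ext fun a => Subtype.ext (add_mul _ _ _)
  commutes' r := LinearMap.ext fun a => Subtype.ext (by
    show algebraMap k A r * (a : A) = _
    rw [← Algebra.smul_def]
    rfl)

/-- The action on the simple module. -/
def topRep (X ε : A) : A →ₐ[k] Module.End k (Top k X ε) where
  toFun b := (radSpace k X ε).mapQ (radSpace k X ε) (leftMul ε b)
    fun _ ha => mul_mem_leftSpace b ha
  map_one' := Submodule.linearMap_qext _ (LinearMap.ext fun a =>
    congrArg Submodule.Quotient.mk (Subtype.ext (one_mul (a : A))))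
  map_mul' b c := Submodule.linearMap_qext _ (LinearMap.ext fun a =>
    congrArg Submodule.Quotient.mk (Subtype.ext (mul_assoc b c (a : A))))
  map_zero' := Submodule.linearMap_qext _ (LinearMap.ext fun a => by
    show Submodule.Quotient.mk (leftMul ε (0 : A) a) = _
    rw [map_zero]
    rfl)
  map_add' b c := Submodule.linearMap_qext _ (LinearMap.ext fun a =>
    congrArg Submodule.Quotient.mk (Subtype.ext (add_mul b c (a : A))))
  commutes' r := Submodule.linearMap_qext _ (LinearMap.ext fun a => by
    show Submodule.Quotient.mk (leftMul ε (algebraMap k A r) a) = _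
    rw [AlgHom.commutes]
    rfl)

theorem exists_topRep_gen (X ε : A) (v : Top k X ε) : ∃ b : A, topRep X ε b (topGen X ε) = v := by
  obtain ⟨⟨_, b, rfl⟩, rfl⟩ := Submodule.Quotient.mk_surjective _ v
  exact ⟨b, rfl⟩

namespace LocalAlg

variable {q : ℕ} {f X ε : A} (h : LocalAlg (k := k) q f X ε)
include h

theorem topRep_eps_gen : topRep (k := k) X ε ε (topGen X ε) = topGen X ε :=
  congrArg Submodule.Quotient.mk (Subtype.ext h.idem)

theorem topGen_ne_zero : topGen (k := k) X ε ≠ 0 := by
  intro h0
  obtain ⟨a, ha⟩ := (Submodule.Quotient.mk_eq_zero _).1 h0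
  have ha' : ε = a * (X * ε) := ha.symm
  refine h.top ?_
  have : X ^ (q - 1) * (a * (X * ε)) = 0 := by
    rw [← mul_assoc, (h.central_pow (q - 1) a).eq, mul_assoc a, ← mul_assoc (X ^ (q - 1)),
      ← pow_succ, h.pow_eq_zero_of_le (by have := h.two_le; omega), zero_mul, mul_zero]
  rwa [← ha'] at this

theorem topRep_X : topRep (k := k) X ε X = 0 :=
  Submodule.linearMap_qext _ (LinearMap.ext fun a => by
    obtain ⟨_, b, rfl⟩ := a
    refine (Submodule.Quotient.mk_eq_zero _).2 ⟨b, ?_⟩
    show b * (X * ε) = X * (b * ε)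
    rw [← mul_assoc, ← (h.central_X b).eq, mul_assoc])

theorem topRep_f : topRep (k := k) X ε f = 1 :=
  Submodule.linearMap_qext _ (LinearMap.ext fun a => by
    obtain ⟨_, b, rfl⟩ := a
    refine congrArg Submodule.Quotient.mk (Subtype.ext ?_)
    show f * (b * ε) = b * ε
    rw [← mul_assoc, (h.central_f b).eq, mul_assoc, h.f_mul_eps])

/-- The corner of the simple module is a line. -/
theorem exists_smul_gen (v : Top k X ε) : ∃ r : k, topRep X ε ε v = r • topGen X ε := by
  obtain ⟨b, rfl⟩ := exists_topRep_gen X ε v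
  obtain ⟨c, hc⟩ := h.corner b
  have h2 := h.two_le
  refine ⟨c ⟨0, by omega⟩, ?_⟩
  conv_lhs => rw [← h.topRep_eps_gen, ← Module.End.mul_apply, ← map_mul, ← Module.End.mul_apply,
    ← map_mul, hc]
  rw [map_sum, LinearMap.sum_apply, Finset.sum_eq_single (⟨0, by omega⟩ : Fin q)]
  · rw [map_smul, LinearMap.smul_apply, pow_zero, one_mul, h.topRep_eps_gen]
  · intro i _ hi
    obtain ⟨n, hn⟩ := Nat.exists_eq_add_of_le' (Nat.one_le_iff_ne_zero.2
      fun e => hi (Fin.ext (e.trans rfl)))
    rw [hn, map_smul, pow_succ', map_mul, map_mul, h.topRep_X]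
    simp
  · simp

/-- The module is simple. -/
theorem exists_topRep_eq_gen {v : Top k X ε} (hv : v ≠ 0) :
    ∃ a : A, topRep X ε a v = topGen X ε := by
  obtain ⟨m, u, w, hf⟩ := h.full
  obtain ⟨j, hj⟩ : ∃ j, topRep X ε ε (topRep X ε (w j) v) ≠ 0 := by
    by_contra hcon
    push Not at hcon
    refine hv ?_
    rw [← Module.End.one_apply (R := k) v, ← h.topRep_f, hf, map_sum, LinearMap.sum_apply]
    exact Finset.sum_eq_zero fun j _ => by
      rw [map_mul, map_mul, Module.End.mul_apply, Module.End.mul_apply, hcon, map_zero]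
  obtain ⟨r, hr⟩ := h.exists_smul_gen (topRep X ε (w j) v)
  have hr0 : r ≠ 0 := fun e => hj (by rw [hr, e, zero_smul])
  refine ⟨r⁻¹ • (ε * w j), ?_⟩
  rw [map_smul, LinearMap.smul_apply, map_mul, Module.End.mul_apply, hr, smul_smul,
    inv_mul_cancel₀ hr0, one_smul]

end LocalAlg

section HomOf

variable {W : Type*} [AddCommGroup W] [Module k W] (R : A →ₐ[k] Module.End k W) (X ε : A)

open scoped Classical in
/-- The map from the simple module determined by the image of `ε`. -/
noncomputable def homOf (w : W) : Top k X ε →ₗ[k] W :=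
  if hw : R X (R ε w) = 0 then
    (radSpace k X ε).liftQ (LinearMap.applyₗ w ∘ₗ R.toLinearMap ∘ₗ (leftSpace k ε).subtype)
      (by
        rintro a ⟨b, hb⟩
        have hb' : b * (X * ε) = (a : A) := hb
        show R (a : A) w = 0
        rw [← hb', map_mul, map_mul, Module.End.mul_apply, Module.End.mul_apply, hw, map_zero])
  else 0

variable {R X ε}

theorem homOf_gen {w : W} (hw : R X w = 0) (hε : R ε w = w) :
    homOf R X ε w (topGen X ε) = w := by
  rw [homOf, dif_pos (by rw [hε, hw])]
  exact hε

theorem homOf_topRep {w : W} (a : A) (v : Top k X ε) :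
    homOf R X ε w (topRep X ε a v) = R a (homOf R X ε w v) := by
  by_cases hw : R X (R ε w) = 0
  · rw [homOf, dif_pos hw]
    obtain ⟨b, rfl⟩ := Submodule.Quotient.mk_surjective _ v
    show R (a * (b : A)) w = R a (R (b : A) w)
    rw [map_mul, Module.End.mul_apply]
  · rw [homOf, dif_neg hw]
    simp

/-- A map out of the simple module is determined by the image of `ε`. -/
theorem ext_topGen {L L' : Top k X ε →ₗ[k] W}
    (hL : ∀ a v, L (topRep X ε a v) = R a (L v)) (hL' : ∀ a v, L' (topRep X ε a v) = R a (L' v))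
    (he : L (topGen X ε) = L' (topGen X ε)) : L = L' := by
  refine LinearMap.ext fun v => ?_
  obtain ⟨b, rfl⟩ := exists_topRep_gen X ε v
  rw [hL, hL', he]

end HomOf

end CfsgLib.Blocks.Cyclic
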