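import Cfsg.Agent.Lib.Blocks.Cyclic.TI

/-!
# Independence of traces of pairwise non-isomorphic simple modules
-/

set_option autoImplicit false

namespace CfsgLib.Blocks.Cyclic

open MonoidAlgebra CfsgLib.Blocks

universe u

variable {k : Type} [Field k] [IsAlgClosed k] {G : Type u} [Group G] [Fintype G] {ι : Type*}
  [Fintype ι]

/-- The traces of pairwise non-isomorphic simple modules are independent. -/
theorem linearIndependent_trace {W : ι → Type u} [∀ i, AddCommGroup (W i)] [∀ i, Module k (W i)]
    [∀ i, FiniteDimensional k (W i)] (σ : ∀ i, Representation k G (W i))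
    (hirr : ∀ i, (σ i).IsIrreducible)
    (hdist : ∀ i j, i ≠ j → ∀ L : W i →ₗ[k] W j,
      (∀ g w, L (σ i g w) = σ j g (L w)) → Function.Bijective L → False) :
    LinearIndependent k fun i g => LinearMap.trace k (W i) (σ i g) := by
  classical
  let M := ∀ i, (σ i).asModule
  have hcomp : ∀ (f : Module.End (MonoidAlgebra k G) M) (i j : ι),
      ∃ c : k, (i ≠ j → c = 0) ∧ ∀ v : (σ i).asModule, f (Pi.single i v) j =
        if h : i = j then c • (h ▸ v) else 0 := by
    intro f i j
    let g : (σ i).asModule →ₗ[MonoidAlgebra k G] (σ j).asModule :=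
      (LinearMap.proj j : M →ₗ[MonoidAlgebra k G] (σ j).asModule) ∘ₗ f ∘ₗ
        LinearMap.single (MonoidAlgebra k G) (fun l => (σ l).asModule) i
    by_cases hij : i = j
    · subst hij
      have := hirr i
      obtain ⟨c, hc⟩ := (IsSimpleModule.algebraMap_end_bijective_of_isAlgClosed k
        (A := MonoidAlgebra k G) (V := (σ i).asModule)).2 g
      refine ⟨c, fun h => absurd rfl h, fun v => ?_⟩
      rw [dif_pos rfl]
      show g v = c • v
      rw [← hc]
      rfl
    · refine ⟨0, fun _ => rfl, fun v => ?_⟩
      rw [dif_neg hij]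
      have := hirr i
      have := hirr j
      rcases LinearMap.bijective_or_eq_zero g with hb | h0
      · refine (hdist i j hij ((σ j).asModuleEquiv.toLinearMap ∘ₗ g.restrictScalars k ∘ₗ
          (σ i).asModuleEquiv.symm.toLinearMap) (fun x w => ?_) ?_).elim
        · simp only [LinearMap.comp_apply, LinearEquiv.coe_coe, LinearMap.coe_restrictScalars]
          rw [Representation.asModuleEquiv_symm_map_rho, map_smul,
            Representation.asModuleEquiv_map_smul, Representation.asAlgebraHom_of]
        · simp only [LinearMap.coe_comp, LinearEquiv.coe_coe, LinearMap.coe_restrictScalars]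
          exact (σ j).asModuleEquiv.bijective.comp (hb.comp (σ i).asModuleEquiv.symm.bijective)
      · show g v = 0
        rw [h0]; rfl
  rw [Fintype.linearIndependent_iff]
  intro c hc i
  have := hirr i
  have := Representation.IsIrreducible.finrank_intertwiningMap_self (σ i)
  have hnt : Nontrivial (σ i).asModule := IsSimpleModule.nontrivial (MonoidAlgebra k G) _
  obtain ⟨v₀, hv₀⟩ := exists_ne (0 : (σ i).asModule)
  obtain ⟨φ, hφ⟩ := Module.Projective.exists_dual_ne_zero k hv₀
  let φ' := (φ v₀)⁻¹ • φ
  let Fk : M →ₗ[k] M := (LinearMap.single k (fun l => (σ l).asModule) i) ∘ₗ (φ'.smulRight v₀) ∘ₗ LinearMap.proj i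
  have hF : ∀ (f : Module.End (MonoidAlgebra k G) M) (x : M), Fk (f x) = f (Fk x) := by
    intro f x
    have hx : x = ∑ j, Pi.single j (x j) := (Finset.univ_sum_single x).symm
    choose cc hcc hcv using hcomp f
    have hfx : f x i = cc i i • x i := by
      conv_lhs => rw [hx, map_sum, Finset.sum_apply, Finset.sum_eq_single i
        (fun j _ hj => by rw [hcv, dif_neg hj]) (by simp), hcv, dif_pos rfl]
    funext j
    show Pi.single i (φ' (f x i) • v₀) j = f (Pi.single i (φ' (x i) • v₀)) j
    rw [hcv, hfx, map_smul, smul_eq_mul]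
    by_cases hij : i = j
    · subst hij
      rw [dif_pos rfl]
      exact (Pi.single_eq_same i _).trans (mul_smul _ _ _)
    · rw [dif_neg hij]
      exact Pi.single_eq_of_ne (Ne.symm hij) _
  let F : Module.End (Module.End (MonoidAlgebra k G) M) M :=
    { toFun := Fk, map_add' := Fk.map_add, map_smul' := fun f x => hF f x }
  let B := Module.finBasis k M
  obtain ⟨r, hr⟩ := jacobson_density F (Finset.univ.image B)
  have hr' : ∀ x : M, Fk x = r • x := by
    intro x
    rw [← B.sum_repr x, map_sum, Finset.smul_sum]
    refine Finset.sum_congr rfl fun a _ => ?_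
    rw [map_smul, smul_comm, ← hr (B a) (Finset.mem_image_of_mem _ (Finset.mem_univ _))]
    rfl
  have htr : ∀ j, ∑ g, r.coeff g * LinearMap.trace k (W j) (σ j g) = if j = i then 1 else 0 := by
    intro j
    have e1 : ∑ g, r.coeff g * LinearMap.trace k (W j) (σ j g) =
        LinearMap.trace k (W j) ((σ j).asAlgebraHom r) := by
      rw [asAlgebraHom_eq_sum', map_sum]
      exact Finset.sum_congr rfl fun g _ => by rw [map_smul, smul_eq_mul]
    rw [e1]
    have e2 : ∀ v : (σ j).asModule,
        (σ j).asAlgebraHom r ((σ j).asModuleEquiv v) = (σ j).asModuleEquiv (Fk (Pi.single j v) j) :=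
      fun v => by
        rw [hr', Pi.smul_apply, Pi.single_eq_same, Representation.asModuleEquiv_map_smul]
    by_cases hji : j = i
    · subst hji
      rw [if_pos rfl]
      have : (σ j).asAlgebraHom r = ((φ' ∘ₗ (σ j).asModuleEquiv.symm.toLinearMap).smulRight
          ((σ j).asModuleEquiv v₀)) := LinearMap.ext fun w => by
        obtain ⟨v, rfl⟩ := (σ j).asModuleEquiv.surjective w
        rw [e2]
        show (σ j).asModuleEquiv (Pi.single j (φ' ((Pi.single j v : M) j) • v₀) j) = _
        erw [Pi.single_eq_same, Pi.single_eq_same]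
        simp
      rw [this, LinearMap.trace_smulRight]
      simp [φ', inv_mul_cancel₀ hφ]
    · rw [if_neg hji]
      have : (σ j).asAlgebraHom r = 0 := LinearMap.ext fun w => by
        obtain ⟨v, rfl⟩ := (σ j).asModuleEquiv.surjective w
        rw [e2]
        show (σ j).asModuleEquiv (Pi.single i (φ' ((Pi.single j v : M) i) • v₀) j) = _
        erw [Pi.single_eq_of_ne hji]
        exact map_zero _
      rw [this, map_zero]
  have h := congrArg (fun f : G → k => ∑ g, r.coeff g * f g) hc
  simp only [Finset.sum_apply, Pi.smul_apply, smul_eq_mul, Finset.mul_sum, Pi.zero_apply,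
    mul_zero, Finset.sum_const_zero] at h
  rw [Finset.sum_comm] at h
  simp only [mul_left_comm (r.coeff _) (c _), ← Finset.mul_sum, htr, mul_ite, mul_one, mul_zero,
    Finset.sum_ite_eq', Finset.mem_univ, if_true] at h
  exact h

end CfsgLib.Blocks.Cyclic
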