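import Cfsg.Agent.Lib.Blocks.Cyclic.Separation

/-!
# Twists of the simple module over a cyclic quotient, and descent along extensions
-/

set_option autoImplicit false

namespace CfsgLib.Blocks.Cyclic

variable {k A : Type*} [Field k] [Ring A] [Algebra k A] {T : Type*} [Group T] {C : Subgroup T}
  {q : ℕ} {f X ε : A}

/-- The semilinear structure given by an embedding of the subgroup and conjugation. -/
structure CrossData (f : A) (C : Subgroup T) (α : T → A ≃ₐ[k] A) (ι : C →* A) : Prop where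
  fix : ∀ t, α t f = f
  one : ∀ a, α 1 a = a
  mul : ∀ s t a, α (s * t) a = α s (α t a)
  conj : ∀ (c : C) a, α (c : T) a = ι c * a * ι c⁻¹
  emb : ∀ t (c d : C), (d : T) = t * c * t⁻¹ → α t (ι c) = ι d

/-- The descent of a good map along a short exact sequence. -/
theorem good_descent (h : LocalAlg (k := k) q f X ε) [Fintype (T ⧸ C)]
    (he : (Fintype.card (T ⧸ C) : k) ≠ 0) {α : T → A ≃ₐ[k] A} {ι : C →* A}
    {σ : T →* Module.End k (Top k X ε)} (hs : Twisted f C (topRep X ε) σ α)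
    (hσι : ∀ c : C, σ (c : T) = topRep X ε (ι c))
    {W W' U : Type*} [AddCommGroup W] [Module k W] [AddCommGroup W'] [Module k W'] [AddCommGroup U]
    [Module k U] {R : A →ₐ[k] Module.End k W} {R' : A →ₐ[k] Module.End k W'}
    {RU : A →ₐ[k] Module.End k U} {ρ : T →* Module.End k W} {ρ' : T →* Module.End k W'}
    {ρU : T →* Module.End k U} (ht : Twisted f C R ρ α) (hρι : ∀ c : C, ρ (c : T) = R (ι c))
    {j : U →ₗ[k] W} {π : W →ₗ[k] W'} (hj : Function.Injective j) (hπ : Function.Surjective π)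
    (hexact : ∀ w, π w = 0 → ∃ x, j x = w) (hjR : ∀ a x, j (RU a x) = R a (j x))
    (hjρ : ∀ t x, j (ρU t x) = ρ t (j x)) (hπR : ∀ a w, π (R a w) = R' a (π w))
    (hπρ : ∀ t w, π (ρ t w) = ρ' t (π w))
    {L : Top k X ε →ₗ[k] W} (hL : IsEquivariant (topRep X ε) R L)
    (hLρ : ∀ t v, L (σ t v) = ρ t (L v))
    (hn : L (topGen X ε) ∉ LinearMap.range (R (X ^ (q - 1)))) :
    (∃ L' : Top k X ε →ₗ[k] W', IsEquivariant (topRep X ε) R' L' ∧
      (∀ t v, L' (σ t v) = ρ' t (L' v)) ∧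
      L' (topGen X ε) ∉ LinearMap.range (R' (X ^ (q - 1)))) ∨
    ∃ L' : Top k X ε →ₗ[k] U, IsEquivariant (topRep X ε) RU L' ∧
      (∀ t v, L' (σ t v) = ρU t (L' v)) ∧
      L' (topGen X ε) ∉ LinearMap.range (RU (X ^ (q - 1))) := by
  classical
  by_cases hcase : π (L (topGen X ε)) ∈ LinearMap.range (R' (X ^ (q - 1)))
  swap
  · refine Or.inl ⟨π ∘ₗ L, fun a v => ?_, fun t v => ?_, hcase⟩
    · show π (L _) = R' a (π (L v))
      rw [hL, hπR]
    · simp only [LinearMap.comp_apply, hLρ, hπρ]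
  obtain ⟨y', hy'⟩ := hcase
  obtain ⟨y, rfl⟩ := hπ y'
  set w := L (topGen X ε)
  have hεw : R ε w = w := by rw [← hL, h.topRep_eps_gen]
  set w₂ := R (X ^ (q - 1)) (R ε y) with hw₂
  have hεw₂ : R ε w₂ = w₂ := by
    rw [hw₂, ← h.apply_pow_comm, ← Module.End.mul_apply (R ε), ← map_mul, h.idem]
  have hXw₂ : R X w₂ = 0 := by
    rw [hw₂, ← Module.End.mul_apply, ← map_mul, ← pow_succ',
      h.pow_eq_zero_of_le (by have := h.two_le; omega), map_zero, LinearMap.zero_apply]
  have hπw₂ : π w₂ = π w := by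
    rw [hw₂, h.apply_pow_comm, hπR, hπR, hy', ← hπR, hεw]
  set L₂ := homOf R X ε w₂
  have hL₂ : IsEquivariant (topRep X ε) R L₂ := fun a v => homOf_topRep a v
  have hL₂C : ∀ c ∈ C, ∀ v, L₂ (σ c v) = ρ c (L₂ v) := fun c hc v => by
    rw [hσι ⟨c, hc⟩, hρι ⟨c, hc⟩, hL₂]
  set L₃ := avg C σ ρ L₂
  have hL₃ : IsEquivariant (topRep X ε) R L₃ := avg_isEquivariant ht hs hL₂
  have hsame : ∀ v, π (L₂ v) = π (L v) := fun v => by
    obtain ⟨b, rfl⟩ := exists_topRep_gen X ε v
    rw [hL₂, hL, hπR, hπR, homOf_gen hXw₂ hεw₂, hπw₂]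
  have hker : ∀ v, L₃ v - L v ∈ LinearMap.ker π := fun v => by
    refine avg_sub_mem he (fun t x hx => ?_) hLρ fun t => ?_
    · rw [LinearMap.mem_ker, hπρ, LinearMap.mem_ker.1 hx, map_zero]
    · rw [LinearMap.mem_ker, map_sub, hsame, sub_self]
  have hσ₃ : L₃ (topGen X ε) ∈ LinearMap.range (R (X ^ (q - 1))) := by
    have := avg_sub_mem (σ := σ) (ρ := ρ) (L := L₂) (L' := 0) (v := topGen X ε) he
      (U := LinearMap.range (R (X ^ (q - 1))))
      (fun t x hx => h.map_mem_range_pow R (ht.fix t) (ht.comm t) hx) (by simp) fun t => by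
        obtain ⟨b, hb⟩ := exists_topRep_gen X ε (σ t (topGen X ε))
        rw [← hb, hL₂, homOf_gen hXw₂ hεw₂, LinearMap.zero_apply, sub_zero]
        exact h.apply_mem_range_pow R _ ⟨_, rfl⟩
    simpa using this
  have hmem : ∀ v, ∃ x, j x = L v - L₃ v := fun v => hexact _ (by
    have := LinearMap.mem_ker.1 (hker v)
    rw [map_sub, sub_eq_zero] at this
    rw [map_sub, this, sub_self])
  choose x hx using hmem
  refine Or.inr ⟨{ toFun := x, map_add' := fun a b => hj ?_, map_smul' := fun r a => hj ?_ },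
    fun a v => hj ?_, fun t v => hj ?_, fun hmem => hn ?_⟩
  · simp only [map_add, hx]; abel
  · simp only [map_smul, hx, RingHom.id_apply, smul_sub]
  · show j (x _) = j (RU a (x v))
    rw [hjR, hx, hx, hL, hL₃, map_sub]
  · show j (x _) = j (ρU t (x v))
    rw [hjρ, hx, hx, hLρ, avg_rep hL₂C, map_sub]
  · obtain ⟨z, hz⟩ := hmem
    have h1 : L (topGen X ε) - L₃ (topGen X ε) ∈ LinearMap.range (R (X ^ (q - 1))) :=
      ⟨j z, by rw [← hjR, hz]; exact hx _⟩
    have := Submodule.add_mem _ h1 hσ₃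
    rwa [sub_add_cancel] at this

variable [IsAlgClosed k]

/-- The endomorphisms of the simple module are scalars. -/
theorem exists_scalar_of_commute (h : LocalAlg (k := k) q f X ε) {Z : Module.End k (Top k X ε)}
    (hZ : ∀ a v, Z (topRep X ε a v) = topRep X ε a (Z v)) : ∃ r : k, Z = r • 1 := by
  obtain ⟨r, hr⟩ := h.exists_smul_gen (Z (topGen X ε))
  rw [← hZ, h.topRep_eps_gen] at hr
  refine ⟨r, ext_topGen (R := topRep X ε) hZ (fun a v => ?_) (by rw [hr]; rfl)⟩
  simp

/-- The simple module extends to the group, in as many twists as the index. -/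
theorem exists_twists (h : LocalAlg (k := k) q f X ε) {α : T → A ≃ₐ[k] A} {ι : C →* A}
    (hd : CrossData f C α ι) [C.Normal] (hcyc : IsCyclic (T ⧸ C)) [Finite (T ⧸ C)]
    (he : (Nat.card (T ⧸ C) : k) ≠ 0) [FiniteDimensional k (Top k X ε)] :
    ∃ σ : Fin (Nat.card (T ⧸ C)) → T →* Module.End k (Top k X ε),
      (∀ i, Twisted f C (topRep X ε) (σ i) α ∧ ∀ c : C, σ i (c : T) = topRep X ε (ι c)) ∧
      ∀ i j, i ≠ j → ∃ χ : T → k, (∀ t v, σ j t v = χ t • σ i t v) ∧ ∃ t, χ t ≠ 1 := by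
  classical
  obtain ⟨g, hg⟩ := hcyc.exists_generator
  induction g using QuotientGroup.induction_on with
  | H τ =>
  set e := Nat.card (T ⧸ C) with he'
  have hepos : 0 < e := Nat.card_pos
  set S := topRep (k := k) X ε
  -- the intertwiner
  set R' : A →ₐ[k] Module.End k (Top k X ε) := S.comp (α τ).toAlgHom
  have hR'X : R' X = 0 := by
    obtain ⟨w, hw⟩ := h.exists_map_X (α τ) (hd.fix τ)
    show S (α τ X) = 0
    rw [hw, map_mul, h.topRep_X, zero_mul]
  obtain ⟨m, u, v, hf⟩ := h.full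
  obtain ⟨w₀, hw₀, hw₀ne⟩ : ∃ w, R' ε w = w ∧ w ≠ 0 := by
    by_contra hcon
    push Not at hcon
    refine h.topGen_ne_zero (k := k) ?_
    have h1 : R' f (topGen X ε) = topGen X ε := by
      show S (α τ f) _ = _
      rw [hd.fix, h.topRep_f]; rfl
    rw [← h1, hf, map_sum, LinearMap.sum_apply]
    refine Finset.sum_eq_zero fun j _ => ?_
    rw [map_mul, map_mul, Module.End.mul_apply, Module.End.mul_apply,
      hcon (R' ε (R' (v j) _)) (by rw [← Module.End.mul_apply, ← map_mul, h.idem]), map_zero]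
  set Y : Module.End k (Top k X ε) := homOf R' X ε w₀
  have hY : ∀ a x, Y (S a x) = S (α τ a) (Y x) := fun a x => homOf_topRep a x
  have hYgen : Y (topGen X ε) = w₀ := homOf_gen (by rw [hR'X]; rfl) hw₀
  have hYinj : Function.Injective Y := by
    refine (injective_iff_map_eq_zero Y).2 fun x hx => ?_
    by_contra hne
    obtain ⟨a, ha⟩ := h.exists_topRep_eq_gen hne
    exact hw₀ne (by rw [← hYgen, ← ha, hY, hx, map_zero])
  -- the embedding of `C`
  let sC : C →* (Module.End k (Top k X ε))ˣ := (S.toMonoidHom.comp ι).toHomUnits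
  have hsC : ∀ c : C, ((sC c : (Module.End k (Top k X ε))ˣ) : Module.End k (Top k X ε)) = S (ι c) :=
    fun c => rfl
  have hτe : τ ^ e ∈ C := by
    rw [← QuotientGroup.eq_one_iff, QuotientGroup.mk_pow, he', pow_card_eq_one']
  have hYpow : ∀ (n : ℕ) a x, (Y ^ n) (S a x) = S (α (τ ^ n) a) ((Y ^ n) x) := by
    intro n
    induction n with
    | zero => intro a x; simp [hd.one]
    | succ n ih =>
      intro a x
      rw [pow_succ, Module.End.mul_apply, hY, ih, ← hd.mul, ← pow_succ, Module.End.mul_apply]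
  set c₀ : C := ⟨τ ^ e, hτe⟩
  obtain ⟨r, hr⟩ := exists_scalar_of_commute h (Z := S (ι c₀⁻¹) * Y ^ e) (fun a x => by
    show S (ι c₀⁻¹) ((Y ^ e) (S a x)) = S a (S (ι c₀⁻¹) ((Y ^ e) x))
    rw [hYpow, show τ ^ e = (c₀ : T) from rfl, hd.conj, ← Module.End.mul_apply, ← map_mul,
      ← mul_assoc, ← mul_assoc, ← map_mul, inv_mul_cancel, map_one, one_mul, map_mul,
      Module.End.mul_apply])
  have hYe : Y ^ e = r • S (ι c₀) := by
    have := congrArg (S (ι c₀) * ·) hr
    simp only [← mul_assoc, ← map_mul, mul_inv_cancel, map_one, one_mul, mul_smul_comm, mul_one]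
      at this
    exact this
  have hr0 : r ≠ 0 := by
    intro hr0
    rw [hr0, zero_smul] at hYe
    have h1 : Function.Injective (Y ^ e : Module.End k (Top k X ε)) := by
      rw [Module.End.coe_pow]
      exact hYinj.iterate e
    exact h.topGen_ne_zero (h1 (show (Y ^ e) (topGen X ε) = (Y ^ e) 0 by rw [hYe]; rfl))
  obtain ⟨s, hs⟩ := IsAlgClosed.exists_pow_nat_eq r⁻¹ hepos
  have hs0 : s ≠ 0 := fun h0 => by
    rw [h0, zero_pow hepos.ne'] at hs
    exact inv_ne_zero hr0 hs.symm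
  set Y' : Module.End k (Top k X ε) := s • Y
  have hY'inj : Function.Injective Y' := fun a b hab => hYinj (smul_right_injective _ hs0 hab)
  have hY'u : IsUnit Y' := (Module.End.isUnit_iff Y').2
    ⟨hY'inj, LinearMap.injective_iff_surjective.1 hY'inj⟩
  set U := hY'u.unit with hU
  have hUe : U ^ e = sC c₀ := by
    refine Units.ext ?_
    rw [Units.val_pow_eq_pow_val, hU, IsUnit.unit_spec, hsC, smul_pow, hYe, hs, smul_smul,
      inv_mul_cancel₀ hr0, one_smul]
  -- semilinear pairs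
  let P : Subgroup (T × (Module.End k (Top k X ε))ˣ) :=
    { carrier := {z | ∀ a x, (z.2 : Module.End k (Top k X ε)) (S a x) =
        S (α z.1 a) ((z.2 : Module.End k (Top k X ε)) x)}
      one_mem' := fun a x => by simp [hd.one]
      mul_mem' := fun {y z} hy hz a x => by
        simp only [Prod.fst_mul, Prod.snd_mul, Units.val_mul, Module.End.mul_apply]
        rw [hz, hy, hd.mul]
      inv_mem' := fun {z} hz a x => by
        simp only [Prod.fst_inv, Prod.snd_inv]
        have h1 := hz (α z.1⁻¹ a) ((z.2⁻¹ : (Module.End k (Top k X ε))ˣ).val x)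
        have e1 : ∀ y, (z.2 : Module.End k (Top k X ε))
            ((z.2⁻¹ : (Module.End k (Top k X ε))ˣ).val y) = y := fun y => by
          rw [← Module.End.mul_apply, Units.mul_inv, Module.End.one_apply]
        have e2 : ∀ y, (z.2⁻¹ : (Module.End k (Top k X ε))ˣ).val
            ((z.2 : Module.End k (Top k X ε)) y) = y := fun y => by
          rw [← Module.End.mul_apply, Units.inv_mul, Module.End.one_apply]
        rw [← hd.mul, mul_inv_cancel, hd.one, e1] at h1
        rw [← h1, e2] }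
  have hτP : ((τ, U) : T × _) ∈ P := fun a x => by
    show Y' (S a x) = S (α τ a) (Y' x)
    simp only [Y', LinearMap.smul_apply, hY, map_smul]
  have hcomm : ∀ (n : ℤ) (c d : C), (d : T) = τ ^ n * c * (τ ^ n)⁻¹ →
      U ^ n * sC c = sC d * U ^ n := by
    intro n c d hdc
    refine Units.ext (LinearMap.ext fun x => ?_)
    simp only [Units.val_mul, Module.End.mul_apply, hsC]
    have := P.zpow_mem hτP n (ι c) x
    change ((U ^ n : (Module.End k (Top k X ε))ˣ) : Module.End k (Top k X ε)) _ = S (α (τ ^ n) (ι c)) _ at this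
    rw [this, hd.emb _ c d hdc]
    rfl
  have hex : ∀ t : T, ∃ (c : C) (n : ℤ), t = c * τ ^ n := by
    intro t
    obtain ⟨n, hn⟩ := Subgroup.mem_zpowers_iff.1 (hg (t : T ⧸ C))
    have hmem : t * (τ ^ n)⁻¹ ∈ C := by
      rw [← QuotientGroup.eq_one_iff, QuotientGroup.mk_mul, QuotientGroup.mk_inv,
        QuotientGroup.mk_zpow, hn, mul_inv_cancel]
    exact ⟨⟨_, hmem⟩, n, (inv_mul_cancel_right t (τ ^ n)).symm⟩
  choose cT nT hT using hex
  have hord : orderOf (τ : T ⧸ C) = e := orderOf_eq_card_of_forall_mem_zpowers hg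
  have hwd : ∀ (c : C) (n : ℤ) (c' : C) (n' : ℤ), (c : T) * τ ^ n = c' * τ ^ n' →
      sC c * U ^ n = sC c' * U ^ n' := by
    intro c n c' n' heq
    have h1 : (τ : T ⧸ C) ^ (n - n') = 1 := by
      rw [← QuotientGroup.mk_zpow, QuotientGroup.eq_one_iff,
        show τ ^ (n - n') = ((c⁻¹ * c' : C) : T) by
          rw [zpow_sub, Subgroup.coe_mul, Subgroup.coe_inv, mul_inv_eq_iff_eq_mul, mul_assoc,
            ← heq, inv_mul_cancel_left]]
      exact (c⁻¹ * c').2
    rw [← orderOf_dvd_iff_zpow_eq_one, hord] at h1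
    obtain ⟨j, hj⟩ := h1
    rw [show n = (e : ℤ) * j + n' by omega, zpow_add, zpow_mul, zpow_natCast, hUe, ← mul_assoc,
      ← map_zpow, ← map_mul]
    congr 2
    refine Subtype.ext (mul_right_cancel (b := τ ^ n') ?_)
    rw [← heq, show n = (e : ℤ) * j + n' by omega, zpow_add, zpow_mul, zpow_natCast, ← mul_assoc]
    rfl
  let F : T → (Module.End k (Top k X ε))ˣ := fun t => sC (cT t) * U ^ nT t
  have hF : ∀ (c : C) (n : ℤ), F ((c : T) * τ ^ n) = sC c * U ^ n := fun c n =>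
    hwd _ _ _ _ (hT _).symm
  let σ₀ : T →* (Module.End k (Top k X ε))ˣ := MonoidHom.mk' F fun a b => by
    have hmem : τ ^ nT a * (cT b : T) * (τ ^ nT a)⁻¹ ∈ C :=
      Subgroup.Normal.conj_mem inferInstance _ (cT b).2 _
    have hab : a * b = ((cT a * ⟨_, hmem⟩ : C) : T) * τ ^ (nT a + nT b) := by
      conv_lhs => rw [hT a, hT b]
      rw [Subgroup.coe_mul, zpow_add]
      group
    rw [hab, hF, map_mul, zpow_add]
    show _ = (sC (cT a) * U ^ nT a) * (sC (cT b) * U ^ nT b)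
    rw [mul_assoc (sC (cT a)) (U ^ nT a), ← mul_assoc (U ^ nT a) (sC (cT b)),
      hcomm (nT a) (cT b) ⟨_, hmem⟩ rfl]
    simp only [mul_assoc]
  have hσC : ∀ c : C, ((σ₀ (c : T) : (Module.End k (Top k X ε))ˣ) : Module.End k (Top k X ε)) =
      S (ι c) := fun c => by
    show ((F (c : T) : (Module.End k (Top k X ε))ˣ) : Module.End k (Top k X ε)) = _
    have h1 := hF c 0
    rw [zpow_zero, mul_one, zpow_zero, mul_one] at h1
    rw [h1, hsC]
  have hσP : ∀ t, ((t, σ₀ t) : T × _) ∈ P := by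
    intro t a x
    show ((sC (cT t) * U ^ nT t : (Module.End k (Top k X ε))ˣ) : Module.End k (Top k X ε)) (S a x) = _
    have h2 := P.zpow_mem hτP (nT t) a x
    change ((U ^ nT t : (Module.End k (Top k X ε))ˣ) : Module.End k (Top k X ε)) _ = S (α (τ ^ nT t) a) _ at h2
    have h3 : α t a = ι (cT t) * α (τ ^ nT t) a * ι (cT t)⁻¹ := by
      conv_lhs => rw [hT t]
      rw [hd.mul, hd.conj]
    show _ = S (α t a) (((sC (cT t) * U ^ nT t : (Module.End k (Top k X ε))ˣ) :
      Module.End k (Top k X ε)) x)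
    rw [h3, Units.val_mul, Module.End.mul_apply, Module.End.mul_apply, hsC, h2, ← Module.End.mul_apply, ← map_mul,
      ← Module.End.mul_apply (S _) (S _), ← map_mul, mul_assoc, ← map_mul ι, inv_mul_cancel, map_one,
      mul_one]
    rfl
  -- the characters of the quotient
  have : NeZero (e : k) := ⟨he⟩
  obtain ⟨ζ, hζ⟩ := (inferInstance : HasEnoughRootsOfUnity k e).prim
  have hζu := hζ.isUnit hepos.ne'
  let χ₀ : T ⧸ C →* kˣ := monoidHomOfForallMemZpowers hg (g' := hζu.unit) (by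
    rw [hord, orderOf_dvd_iff_pow_eq_one]
    exact Units.ext (by rw [Units.val_pow_eq_pow_val, IsUnit.unit_spec, hζ.pow_eq_one, Units.val_one]))
  have hχτ : ((χ₀ (τ : T ⧸ C) : kˣ) : k) = ζ := by
    rw [monoidHomOfForallMemZpowers_apply_gen]; rfl
  let χ : T →* k := (Units.coeHom k).comp (χ₀.comp (QuotientGroup.mk' C))
  have hχne : ∀ t, χ t ≠ 0 := fun t => Units.ne_zero _
  let σ : Fin e → T →* Module.End k (Top k X ε) := fun i =>
    { toFun := fun t => χ t ^ (i : ℕ) • ((σ₀ t : (Module.End k (Top k X ε))ˣ) : Module.End k (Top k X ε))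
      map_one' := by simp
      map_mul' := fun a b => by
        rw [map_mul, map_mul, mul_pow, Units.val_mul, smul_mul_smul_comm] }
  refine ⟨σ, fun i => ⟨⟨hd.fix, fun t a x => ?_, fun c hc => ⟨ι ⟨c, hc⟩, ?_⟩⟩, fun c => ?_⟩,
    fun i j hij => ⟨fun t => χ t ^ (j : ℕ) * (χ t ^ (i : ℕ))⁻¹, fun t x => ?_, τ, ?_⟩⟩
  · simp only [σ, MonoidHom.coe_mk, OneHom.coe_mk, LinearMap.smul_apply, map_smul]
    rw [show ((σ₀ t : (Module.End k (Top k X ε))ˣ) : Module.End k (Top k X ε)) (S a x) = _ from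
      hσP t a x]
  · simp only [σ, MonoidHom.coe_mk, OneHom.coe_mk]
    have : χ c = 1 := by
      show ((χ₀ ((c : T) : T ⧸ C) : kˣ) : k) = 1
      rw [(QuotientGroup.eq_one_iff c).2 hc, map_one, Units.val_one]
    rw [this, one_pow, one_smul]
    exact hσC ⟨c, hc⟩
  · simp only [σ, MonoidHom.coe_mk, OneHom.coe_mk]
    have : χ (c : T) = 1 := by
      show ((χ₀ ((c : T) : T ⧸ C) : kˣ) : k) = 1
      rw [(QuotientGroup.eq_one_iff (c : T)).2 c.2, map_one, Units.val_one]
    rw [this, one_pow, one_smul]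
    exact hσC c
  · simp only [σ, MonoidHom.coe_mk, OneHom.coe_mk, LinearMap.smul_apply]
    rw [smul_smul, inv_mul_cancel_right₀ (pow_ne_zero _ (hχne t))]
  · intro h1
    have hχ : χ τ = ζ := hχτ
    have h2 : ζ ^ (j : ℕ) = ζ ^ (i : ℕ) := by
      rw [← hχ]
      exact (mul_inv_eq_one₀ (pow_ne_zero _ (hχne τ))).1 h1
    exact hij (Fin.ext (hζ.pow_inj j.2 i.2 h2).symm)

end CfsgLib.Blocks.Cyclic
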