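import Cfsg.Agent.Lib.Blocks.Cyclic.LocalChars
import Cfsg.Agent.Lib.Blocks.Principal
import Cfsg.Agent.Lib.Char.Induced

/-!
# Values of the characters of a block with cyclic defect group at singular elements

The differences of the local characters, their support, and the parts of the restriction to the
centralizer of the subgroup of order `p`.
-/

set_option autoImplicit false
set_option linter.unusedSectionVars false

namespace CfsgLib.Blocks.Cyclic

open Cfsg CfsgLib.Blocks CfsgLib.Pairs CfsgLib.Char CfsgLib.Star MonoidAlgebra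
open scoped Classical

universe u

variable {G : Type u} [Group G] [Fintype G] {p : ℕ} [Fact p.Prime] {M : Ideal AlgInt} [M.IsPrime]
  {B : Set (IrrCharacter G)} {P : Subgroup G}
  {c : Set (IrrCharacter (Subgroup.centralizer (P : Set G)))}

theorem isPPart_conj {g u : G} (x : G) (h : IsPPart p g u) :
    IsPPart p (x * g * x⁻¹) (x * u * x⁻¹) := by
  obtain ⟨y, rfl, hc, ⟨k, hk⟩, hy⟩ := h
  refine ⟨x * y * x⁻¹, by group, ?_, ⟨k, ?_⟩, ?_⟩
  · simpa [MulAut.conj_apply] using hc.map (MulAut.conj x).toMonoidHom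
  · rw [← hk]; exact MulEquiv.orderOf_eq (MulAut.conj x) u
  · rwa [show orderOf (x * y * x⁻¹) = orderOf y from MulEquiv.orderOf_eq (MulAut.conj x) y]

/-- The differences from the fixed character. -/
noncomputable def dif {C : Subgroup G} (μ χ₀ : IrrCharacter C) : C → ℂ :=
  (μ : C → ℂ) - (χ₀ : C → ℂ)

theorem isClassFunction_dif {C : Subgroup G} (μ χ₀ : IrrCharacter C) :
    IsClassFunction C (dif μ χ₀) := fun k x => by
  simp [dif, IsIrr.isClassFunction μ.2 k x, IsIrr.isClassFunction χ₀.2 k x]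

theorem indFun_eq_of_support {C N : Subgroup G} {θ : C → ℂ} {g : G}
    (h : ∀ x : G, x ∉ N → ∀ hx : x⁻¹ * g * x ∈ C, θ ⟨_, hx⟩ = 0) :
    indFun C θ g = (Nat.card C : ℂ)⁻¹ * ∑ x : N, extendByZero C θ ((x : G) * g * (x : G)⁻¹) := by
  have h1 : ∑ x : G, extendByZero C θ (x⁻¹ * g * x) =
      ∑ x ∈ Finset.univ.filter (fun x : G => x ∈ N), extendByZero C θ (x⁻¹ * g * x) := by
    refine (Finset.sum_subset (Finset.subset_univ _) fun x _ hx => ?_).symm
    by_cases hC : x⁻¹ * g * x ∈ C
    · rw [extendByZero_of_mem _ _ hC, h x (fun hN => hx (by simp [hN])) hC]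
    · exact extendByZero_of_notMem _ _ hC
  rw [Cfsg.indFun, h1, Finset.sum_subtype (p := fun x : G => x ∈ N) _ (by simp)]
  congr 1
  exact Fintype.sum_equiv (Equiv.inv N) _ _ fun x => by simp

namespace LocalData

variable {Z : Subgroup G} {f : Set (IrrCharacter (Subgroup.centralizer (Z : Set G)))}

/-- The elements of `C(Z)` with `p`-part conjugate in `C(Z)` into `P \ 1`. -/
def Sing (p : ℕ) (P Z : Subgroup G) (g : G) : Prop :=
  ∃ c ∈ Subgroup.centralizer (Z : Set G), ∃ v ∈ P, v ≠ 1 ∧ IsPPart p (c * g * c⁻¹) v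

variable (L : LocalData p M B P c Z f)
include L

theorem sing_dvd {g : G} (h : Sing p P Z g) : p ∣ orderOf g := by
  obtain ⟨c, -, v, -, hv1, hv⟩ := h
  have := (IsPPart.dvd_orderOf_iff (Fact.out : p.Prime) hv).2 hv1
  rwa [show orderOf (c * g * c⁻¹) = orderOf g from MulEquiv.orderOf_eq (MulAut.conj c) g] at this

theorem sing_mem {g : G} (h : Sing p P Z g) : g ∈ Subgroup.centralizer (Z : Set G) := by
  obtain ⟨c, hc, v, hv, hv1, hp⟩ := h
  have h1 := L.mem_centralizer_of_commute hv hv1 (IsPPart.commute hp)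
  simpa [mul_assoc] using mul_mem (mul_mem (inv_mem hc) h1) hc

/-- The differences live on the singular elements over `P`. -/
theorem dif_support {μ χ₀ : IrrCharacter (Subgroup.centralizer (Z : Set G))} (hμ : μ ∈ f)
    (hχ₀ : χ₀ ∈ f) {k : Subgroup.centralizer (Z : Set G)} (hk : dif μ χ₀ k ≠ 0) :
    Sing p P Z (k : G) := by
  have hp := (Fact.out : p.Prime)
  have hab : ∀ x ∈ P.subgroupOf (Subgroup.centralizer (Z : Set G)),
      ∀ y ∈ P.subgroupOf (Subgroup.centralizer (Z : Set G)), x * y = y * x := fun x hx y hy =>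
    Subtype.ext (L.base.comm _ hx _ hy)
  obtain ⟨N⟩ := exists_nilParam L.base.modular L.s4645.2.2.2 L.defectGroup hab
  have := Fintype.ofFinite (P.subgroupOf (Subgroup.centralizer (Z : Set G)))
  obtain ⟨u, hu⟩ := exists_pPart hp k
  obtain ⟨φ, -, hφ, hform⟩ := N.formula k u hu
  obtain ⟨a, rfl⟩ := N.surj μ hμ
  obtain ⟨b, rfl⟩ := N.surj χ₀ hχ₀
  by_cases hu1 : u = 1
  · refine absurd ?_ hk
    rw [dif, Pi.sub_apply, N.regular a b k fun hd => (IsPPart.dvd_orderOf_iff hp hu).1 hd hu1,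
      sub_self]
  obtain ⟨w, hw⟩ : ∃ w, φ w ≠ 0 := by
    by_contra h
    push Not at h
    simp [dif, hform, h] at hk
  obtain ⟨d, hd⟩ := isConj_iff.1 (hφ w hw)
  refine ⟨(d : G), d.2, (w : Subgroup.centralizer (Z : Set G)), Subgroup.mem_subgroupOf.1 w.2,
    fun e => ?_, ?_⟩
  · rw [← hd] at e
    exact hu1 (by simpa using conj_eq_one_iff.1 (Subtype.ext e : d * u * d⁻¹ = 1))
  · have := isPPart_conj (d : G) (IsPPart.map_subtype hu)
    rwa [show (d : G) * (u : G) * (d : G)⁻¹ =
      ((w : Subgroup.centralizer (Z : Set G)) : G) from congrArg Subtype.val hd] at this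

theorem dif_eq_zero {μ χ₀ : IrrCharacter (Subgroup.centralizer (Z : Set G))} (hμ : μ ∈ f)
    (hχ₀ : χ₀ ∈ f) {k : Subgroup.centralizer (Z : Set G)} (hk : ¬ Sing p P Z (k : G)) :
    dif μ χ₀ k = 0 :=
  by_contra fun h => hk (L.dif_support hμ hχ₀ h)

/-- An element moving a singular element into singular elements normalizes `Z`. -/
theorem mem_normalizer_of_sing {g x : G} (hg : Sing p P Z g) (hx : Sing p P Z (x⁻¹ * g * x)) :
    x ∈ Subgroup.normalizer (Z : Set G) := by
  obtain ⟨a, ha, v, hv, hv1, hpv⟩ := hg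
  obtain ⟨b, hb, w, hw, -, hpw⟩ := hx
  have h1 := isPPart_conj (b * x⁻¹ * a⁻¹) hpv
  rw [show b * x⁻¹ * a⁻¹ * (a * g * a⁻¹) * (b * x⁻¹ * a⁻¹)⁻¹ = b * (x⁻¹ * g * x) * b⁻¹ by group] at h1
  have h2 := pPart_unique (Fact.out : p.Prime) h1 hpw
  have hmem : (a * x * b⁻¹) ∈ Subgroup.normalizer (Z : Set G) := by
    by_contra h
    refine hv1 (L.free h hv ?_)
    rw [show (a * x * b⁻¹)⁻¹ * v * (a * x * b⁻¹) = b * x⁻¹ * a⁻¹ * v * (b * x⁻¹ * a⁻¹)⁻¹ by group, h2]
    exact hw
  have hle := centralizer_le_normalizer' Z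
  simpa [mul_assoc] using mul_mem (mul_mem (inv_mem (hle ha)) hmem) (hle hb)

/-- The induced differences at singular elements over `P`. -/
theorem indFun_dif {μ χ₀ : IrrCharacter (Subgroup.centralizer (Z : Set G))} (hμ : μ ∈ f)
    (hχ₀ : χ₀ ∈ f) {g : G} (hg : Sing p P Z g) :
    indFun (Subgroup.centralizer (Z : Set G)) (dif μ χ₀) g =
      (Nat.card (Subgroup.centralizer (Z : Set G)) : ℂ)⁻¹ *
        ∑ x : Subgroup.normalizer (Z : Set G),
          dif μ χ₀ (conjC _ ⟨(x : G), normalizer_le_normalizer_centralizer Z x.2⟩ ⟨g, L.sing_mem hg⟩) := by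
  rw [indFun_eq_of_support (N := Subgroup.normalizer (Z : Set G)) fun x hxN hx =>
    L.dif_eq_zero hμ hχ₀ fun h => hxN (L.mem_normalizer_of_sing hg h)]
  congr 1
  refine Finset.sum_congr rfl fun x _ => ?_
  rw [← coe_conjC _ ⟨(x : G), normalizer_le_normalizer_centralizer Z x.2⟩ ⟨g, L.sing_mem hg⟩,
    extendByZero_coe]

theorem indFun_dif_eq_zero {μ χ₀ : IrrCharacter (Subgroup.centralizer (Z : Set G))} (hμ : μ ∈ f)
    (hχ₀ : χ₀ ∈ f) {g : G} (hg : ∀ x : G, ¬ Sing p P Z (x⁻¹ * g * x)) :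
    indFun (Subgroup.centralizer (Z : Set G)) (dif μ χ₀) g = 0 := by
  rw [Cfsg.indFun, Finset.sum_eq_zero fun x _ => ?_, mul_zero]
  by_cases hx : x⁻¹ * g * x ∈ Subgroup.centralizer (Z : Set G)
  · rw [extendByZero_of_mem _ _ hx, L.dif_eq_zero hμ hχ₀ (hg x)]
  · exact extendByZero_of_notMem _ _ hx

/-- The pairs on `Z` are the conjugates of the local one. -/
theorem mem_orbit_of_pairOf {b : Set (IrrCharacter (Subgroup.centralizer (Z : Set G)))}
    (hb : IsBrauerPairOf p M B Z b) : b ∈ orbit Z f := by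
  have hM := L.base.modular
  obtain ⟨x, hx⟩ := exists_conj_le hM L.base.isMaximal hb
  have hxP : Z.map (MulAut.conj x).toMonoidHom ≤ P := le_of_subpairLE hx
  have hcard : Nat.card (Z.map (MulAut.conj x).toMonoidHom) = Nat.card Z :=
    Subgroup.card_map_of_injective (MulEquiv.injective _)
  obtain ⟨z, hz, hz1⟩ := Z.bot_or_exists_ne_one.resolve_left L.ne_bot
  have hzx : x * z * x⁻¹ ∈ P := hxP ⟨z, hz, rfl⟩
  have ho : orderOf (x * z * x⁻¹) = p := by
    rw [show x * z * x⁻¹ = MulAut.conj x z from rfl, MulEquiv.orderOf_eq, L.orderOf_eq hz hz1]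
  have hle : Z ≤ Z.map (MulAut.conj x).toMonoidHom :=
    (L.le_zpowers hzx fun e => hz1 (conj_eq_one_iff.1 e)).trans
      (Subgroup.zpowers_le.2 ⟨z, hz, rfl⟩)
  have hxN : x ∈ Subgroup.normalizer (Z : Set G) :=
    Subgroup.mem_normalizer_iff_map_conj_eq.2 (Subgroup.eq_of_le_of_card_ge hle hcard.le).symm
  rw [conjPair_self hxN (normalizer_conj_centralizer ⟨x, hxN⟩)] at hx
  have heq := (unique_below hM (Nat.card P) (Nat.sub_le _ _) L.base.isMaximal.1.1).2 _ f hx L.below
  refine mem_orbit.2 ⟨⟨x, hxN⟩⁻¹, ?_⟩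
  rw [← heq, ← conjSelf_mul,
    conjSelf_eq (show ((⟨x, hxN⟩⁻¹ : Subgroup.normalizer (Z : Set G)) : G) * x = 1 by simp) _
      (one_mem _), conjSelf_one]

theorem induced : IsInducedBlock M (Subgroup.centralizer (Z : Set G)) f B :=
  (inducedFromCent_iff L.base.modular
    (IsPGroup.of_card (n := 1) (by rw [L.Z_card, pow_one]))
    (L.Z_le.trans L.le_centralizer) L.block B).2 L.pairOf

theorem centralizer_pPart_le {g z : G} (hg : Sing p P Z g) (hz : IsPPart p g z) :
    Subgroup.centralizer ({z} : Set G) ≤ Subgroup.centralizer (Z : Set G) := by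
  obtain ⟨a, ha, v, hv, hv1, hpv⟩ := hg
  have h1 := pPart_unique (Fact.out : p.Prime) (isPPart_conj a hz) hpv
  intro w hw
  have h2 := (mem_centralizer_singleton.1 hw).symm.map (MulAut.conj a).toMonoidHom
  simp only [MulEquiv.toMonoidHom_eq_coe, MonoidHom.coe_coe, MulAut.conj_apply, h1] at h2
  simpa [mul_assoc] using mul_mem (mul_mem (inv_mem ha) (L.mem_centralizer_of_commute hv hv1 h2)) ha

/-- The part of a character at a block not below its block vanishes on the singular elements. -/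
theorem blockPart_eq_zero {b : Set (IrrCharacter (Subgroup.centralizer (Z : Set G)))}
    {B' : Set (IrrCharacter G)}
    (hb : IsInducedBlock M (Subgroup.centralizer (Z : Set G)) b B') {χ : IrrCharacter G}
    (hχ : χ ∉ B') {k : Subgroup.centralizer (Z : Set G)} (hk : Sing p P Z (k : G)) :
    blockPart b (fun h : Subgroup.centralizer (Z : Set G) => (χ : G → ℂ) h) k = 0 := by
  rw [blockPart_eq_sum_blockCoeff b (fun a x => IsIrr.isClassFunction χ.2 _ _) k]
  exact sum_blockCoeff_mul_apply_eq_zero L.base.modular hb k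
    (fun z hz => L.centralizer_pPart_le hk hz) hχ

/-- On the singular elements, a character of the block is the sum of its parts in the orbit. -/
theorem apply_eq_sum_orbit {χ : IrrCharacter G} (hχ : χ ∈ B)
    {k : Subgroup.centralizer (Z : Set G)} (hk : Sing p P Z (k : G)) :
    (χ : G → ℂ) k = ∑ b ∈ orbit Z f,
      blockPart b (fun h : Subgroup.centralizer (Z : Set G) => (χ : G → ℂ) h) k := by
  have hM := L.base.modular
  have := Fintype.ofFinite
    {b : Set (IrrCharacter (Subgroup.centralizer (Z : Set G))) // IsPBlock M b}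
  have h0 := sum_blockPart (M := M) (θ := fun h : Subgroup.centralizer (Z : Set G) => (χ : G → ℂ) h)
    (fun a x => IsIrr.isClassFunction χ.2 _ _) k
  refine h0.symm.trans ?_
  rw [← Finset.sum_filter_add_sum_filter_not Finset.univ (fun b :
      {b : Set (IrrCharacter (Subgroup.centralizer (Z : Set G))) // IsPBlock M b} => b.1 ∈ orbit Z f),
    Finset.sum_eq_zero (s := Finset.filter (fun b :
      {b : Set (IrrCharacter (Subgroup.centralizer (Z : Set G))) // IsPBlock M b} =>
        ¬ b.1 ∈ orbit Z f) Finset.univ) fun b hb => ?_, add_zero]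
  · exact Finset.sum_bij (fun b _ => b.1) (fun b hb => (Finset.mem_filter.1 hb).2)
      (fun a _ b _ h => Subtype.ext h)
      (fun b hb => ⟨⟨b, isPBlock_of_mem_orbit L.block hb⟩, Finset.mem_filter.2
        ⟨Finset.mem_univ _, hb⟩, rfl⟩) fun _ _ => rfl
  · have hZp : IsPGroup p Z := IsPGroup.of_card (n := 1) (by rw [L.Z_card, pow_one])
    have hZC : Z ≤ Subgroup.centralizer (Z : Set G) := L.Z_le.trans L.le_centralizer
    obtain ⟨B', hB'⟩ := exists_isInducedBlock hM hZp hZC le_rfl (centralizer_le_normalizer' Z) b.2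
    refine L.blockPart_eq_zero hB' (fun hmem => ?_) hk
    rw [IsPBlock.eq_of_mem (isInducedBlock_iff.1 hB').2.1 L.base.block hmem hχ] at hB'
    exact (Finset.mem_filter.1 hb).2
      (L.mem_orbit_of_pairOf ((inducedFromCent_iff hM hZp hZC b.2 B).1 hB'))

/-- The part at a conjugate block is the conjugate of the part. -/
theorem blockPart_conjSelf (n : Subgroup.normalizer (Z : Set G)) (χ : IrrCharacter G)
    (k : Subgroup.centralizer (Z : Set G)) :
    blockPart (conjSelf (normalizer_conj_centralizer n⁻¹) f)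
        (fun h : Subgroup.centralizer (Z : Set G) => (χ : G → ℂ) h) k =
      blockPart f (fun h : Subgroup.centralizer (Z : Set G) => (χ : G → ℂ) h)
        (conjC _ ⟨(n : G), normalizer_le_normalizer_centralizer Z n.2⟩ k) := by
  rw [blockPart_eq_sum_blockCoeff _ (θ := fun h : Subgroup.centralizer (Z : Set G) => (χ : G → ℂ) h) (fun a x => IsIrr.isClassFunction χ.2 _ _) k,
    blockPart_eq_sum_blockCoeff _ (θ := fun h : Subgroup.centralizer (Z : Set G) => (χ : G → ℂ) h) (fun a x => IsIrr.isClassFunction χ.2 _ _)]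
  refine Fintype.sum_equiv (conjC _ ⟨(n : G), normalizer_le_normalizer_centralizer Z n.2⟩).toEquiv
    _ _ fun w => ?_
  rw [blockCoeff_conjSelf _ f
    (conjC _ ⟨(n : G), normalizer_le_normalizer_centralizer Z n.2⟩ w) w (by
      rw [coe_conjC]; simp [mul_assoc])]
  congr 1
  simp only [Subgroup.coe_mul, coe_conjC, MulEquiv.toEquiv_eq_coe, EquivLike.coe_coe]
  rw [← IsIrr.isClassFunction χ.2 ((w : G) * (k : G)) (n : G)]
  congr 1
  group

/-- The characters of the local block sum to zero on the singular elements. -/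
theorem sum_block_eq_zero {k : Subgroup.centralizer (Z : Set G)} (hk : p ∣ orderOf k) :
    ∑ μ ∈ (Set.toFinite f).toFinset, (μ : Subgroup.centralizer (Z : Set G) → ℂ) k = 0 := by
  have hab : ∀ x ∈ P.subgroupOf (Subgroup.centralizer (Z : Set G)),
      ∀ y ∈ P.subgroupOf (Subgroup.centralizer (Z : Set G)), x * y = y * x := fun x hx y hy =>
    Subtype.ext (L.base.comm _ hx _ hy)
  obtain ⟨N⟩ := exists_nilParam L.base.modular L.s4645.2.2.2 L.defectGroup hab
  have h := sum_block_regular_singular L.base.modular L.block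
    (x := (1 : Subgroup.centralizer (Z : Set G))) (y := k)
    (by simpa using (Fact.out : p.Prime).ne_one)
    hk
  rw [finsum_mem_eq_finite_toFinset_sum _ (Set.toFinite f), Finset.sum_congr rfl fun μ hμ => ?_,
    ← Finset.mul_sum, mul_eq_zero] at h
  · exact h.resolve_left (Nat.cast_ne_zero.2 N.deg_pos.ne')
  · obtain ⟨a, rfl⟩ := N.surj μ ((Set.Finite.mem_toFinset _).1 hμ)
    rw [N.apply_one]

end LocalData

end CfsgLib.Blocks.Cyclic
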